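import Cfsg.Agent.M24Nse.EndgameFused

/-!
The centre of the normal subgroup of order 128 has a single involution.
-/

set_option autoImplicit false
set_option linter.style.haveILetI false
set_option linter.unusedSectionVars false
set_option maxHeartbeats 1000000
set_option maxRecDepth 100000

namespace Cfsg.Lib.M24Nse

open Subgroup
open Cfsg.Lib.HeldCent (L3)

theorem alt_no_index (L : Subgroup (alternatingGroup (Fin 5))) (h : L.index = 3 ∨ L.index = 4) : False := by
  haveI := alternatingGroup.isSimpleGroup_five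
  rcases IsSimpleGroup.eq_bot_or_eq_top_of_normal L.normalCore inferInstance with hc | hc
  · have hinj : Function.Injective (MulAction.toPermHom (alternatingGroup (Fin 5)) (alternatingGroup (Fin 5) ⧸ L)) := by
      rw [← MonoidHom.ker_eq_bot_iff, ← Subgroup.normalCore_eq_ker, hc]
    have h1 := Nat.card_le_card_of_injective _ hinj
    have h60 : Nat.card (alternatingGroup (Fin 5)) = 60 := by rw [Nat.card_eq_fintype_card]; decide +kernel
    rw [h60, Nat.card_perm, ← Subgroup.index_eq_card] at h1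
    rcases h with h | h <;> rw [h] at h1 <;> norm_num [Nat.factorial] at h1
  · have : L = ⊤ := top_le_iff.mp (hc ▸ L.normalCore_le)
    rw [this, Subgroup.index_top] at h
    omega

theorem perm_no_card (L : Subgroup (Equiv.Perm (Fin 5))) (h : Nat.card L = 15 ∨ Nat.card L = 40) : False := by
  let f : L →* ℤˣ := Equiv.Perm.sign.comp L.subtype
  have e := f.ker.card_eq_card_quotient_mul_card_subgroup
  rw [Nat.card_congr (QuotientGroup.quotientKerEquivRange f).toEquiv] at e
  have h2 : Nat.card f.range ∣ 2 := by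
    have := Subgroup.card_subgroup_dvd_card f.range
    rwa [Nat.card_eq_fintype_card (α := ℤˣ), Fintype.card_units_int] at this
  let i : f.ker →* alternatingGroup (Fin 5) :=
    { toFun := fun y => ⟨(y.1 : Equiv.Perm (Fin 5)), y.2⟩
      map_one' := rfl
      map_mul' := fun _ _ => rfl }
  have hc : Nat.card i.range = Nat.card f.ker := (Nat.card_congr (MonoidHom.ofInjective (f := i) fun a b hab =>
    Subtype.ext (Subtype.ext (congrArg Subtype.val hab :))).toEquiv).symm
  have hi := i.range.card_mul_index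
  rw [hc, Nat.card_eq_fintype_card (α := alternatingGroup (Fin 5)),
    show Fintype.card (alternatingGroup (Fin 5)) = 60 by decide +kernel] at hi
  rcases (Nat.dvd_prime Nat.prime_two).mp h2 with r | r <;> rw [r] at e <;> rcases h with h | h <;> rw [h] at e
  · exact alt_no_index _ (Or.inr (show i.range.index = 4 by rw [show Nat.card f.ker = 15 by omega] at hi; omega))
  · rw [show Nat.card f.ker = 40 by omega] at hi; omega
  · omega
  · exact alt_no_index _ (Or.inl (show i.range.index = 3 by rw [show Nat.card f.ker = 20 by omega] at hi; omega))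

theorem perm_eight : ∀ v : Equiv.Perm (Fin 5), v ^ 8 = 1 → v ^ 4 = 1 := by decide +kernel

theorem perm_no_comm0 : ∀ s v : Equiv.Perm (Fin 5),
    (decide (s 0 = 0) && decide (s ^ 3 = 1) && decide (s ≠ 1) && decide (v 0 = 0) && decide (v ^ 4 = 1) &&
      decide (s * v = v * s)) = true → v = 1 := by decide +kernel

theorem perm_no_comm (s : Equiv.Perm (Fin 5)) (h0 : s 0 = 0) (h3 : s ^ 3 = 1) (h1 : s ≠ 1) (v : Equiv.Perm (Fin 5))
    (hv : v 0 = 0) (h4 : v ^ 4 = 1) (hc : s * v = v * s) : v = 1 :=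
  perm_no_comm0 s v (by simp only [Bool.and_eq_true, decide_eq_true_eq]; exact ⟨⟨⟨⟨⟨h0, h3⟩, h1⟩, hv⟩, h4⟩, hc⟩)

variable {G : Type*} [Group G] [Finite G]

namespace Ctx

variable {z : G} (K : Ctx z)

include K in
/-- The centre has no second involution. -/
theorem Om_small : Nat.card K.Om ≤ 2 := by
  classical
  by_contra hbig'
  have hbig : 2 < Nat.card K.Om := by omega
  obtain ⟨j, hj, j1, jz, a, ha, v, hv, h⟩ := K.exists_tetra hbig
  haveI : Fact (Nat.Prime 2) := ⟨Nat.prime_two⟩
  haveI : Fact (Nat.Prime 3) := ⟨Nat.prime_three⟩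
  haveI : Fact (Nat.Prime 5) := ⟨by norm_num⟩
  rcases K.hinv j (orderOf_eq_prime (by rw [pow_two]; exact hj.2.2) j1) with hc | hH
  · obtain ⟨g, hg⟩ := isConj_iff.mp hc
    exact K.no_fused hbig g (by rw [hg]; exact hj) (by rw [hg]; exact jz) (by rw [hg]; exact ha) (by rw [hg]; exact hv) h
  set H := centralizer ({j} : Set G) with hHdef
  set L := K.Img j with hLdef
  have hfour : four h ≤ L := fun l hl => by
    rcases (mem_four h).mp hl with e | e | e | e <;> rw [e]
    exacts [one_mem _, hv, mul_mem (mul_mem ha hv) (inv_mem ha), mul_mem hv (mul_mem (mul_mem ha hv) (inv_mem ha))]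
  let D := K.pre L
  have hDH : D ≤ H := fun c hc => mem_centralizer_singleton_iff.mpr (K.comm_of_Img hj hc.1 hc.2).eq
  have hL12 : Nat.card L = 12 := by
    have h3 : 3 ∣ Nat.card L := by
      have := orderOf_dvd_natCard (⟨a, ha⟩ : L)
      rwa [← orderOf_injective L.subtype L.subtype_injective, show orderOf (L.subtype ⟨a, ha⟩) = 3 from
        orderOf_eq_prime h.a3 h.a1] at this
    have h4 : 4 ∣ Nat.card L := card_four h ▸ Subgroup.card_dvd_of_le hfour
    have h12 : 12 ∣ Nat.card L := Nat.Coprime.mul_dvd_of_dvd_of_dvd (by norm_num : Nat.Coprime 3 4) h3 h4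
    have h60 : Nat.card L ∣ 60 := by
      have := Subgroup.card_dvd_of_le hDH
      rw [K.card_pre, hH, show (7680 : ℕ) = 128 * 60 by norm_num] at this
      exact Nat.dvd_of_mul_dvd_mul_left (by norm_num) this
    have h168 := card_L3 ▸ Subgroup.card_subgroup_dvd_card L
    exact Nat.dvd_antisymm (show _ ∣ Nat.gcd 60 168 from Nat.dvd_gcd h60 h168) h12
  let R := K.pre (four h)
  have hR : Nat.card R = 512 := by rw [K.card_pre, card_four h]
  have hD : Nat.card D = 1536 := by rw [K.card_pre, hL12]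
  have hRD : R ≤ D := fun y hy => ⟨hy.1, hfour hy.2⟩
  have hnorm : ∀ l ∈ L, ∀ y ∈ four h, l * y * l⁻¹ ∈ four h := by
    let Nz := normalizer (four h : Set L3) ⊓ L
    have h12 : Nat.card Nz = 12 := by
      have hcl : ∀ l ∈ four h, a * l * a⁻¹ ∈ four h := fun l hl => by
        rcases (mem_four h).mp hl with e | e | e | e <;> rw [e]
        · rw [mul_one, mul_inv_cancel]; exact one_mem _
        · exact (mem_four h).mpr (Or.inr (Or.inr (Or.inl rfl)))
        · exact (mem_four h).mpr (Or.inr (Or.inr (Or.inr h.w2)))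
        · exact (mem_four h).mpr (Or.inr (Or.inl h.w3))
      have haN : a ∈ Nz := ⟨mem_normalizer_iff.mpr fun l => ⟨hcl l, fun hl => by
        have := hcl _ (hcl _ hl)
        rwa [show a * (a * (a * l * a⁻¹) * a⁻¹) * a⁻¹ = a ^ 3 * l * (a ^ 3)⁻¹ by rw [pow_three]; group, h.a3, inv_one,
          one_mul, mul_one] at this⟩, ha⟩
      have h3 : 3 ∣ Nat.card Nz := by
        have := orderOf_dvd_natCard (⟨a, haN⟩ : Nz)
        rwa [← orderOf_injective Nz.subtype Nz.subtype_injective, show orderOf (Nz.subtype ⟨a, haN⟩) = 3 from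
          orderOf_eq_prime h.a3 h.a1] at this
      have h4 : 4 ∣ Nat.card Nz := card_four h ▸ Subgroup.card_dvd_of_le (le_inf le_normalizer hfour)
      exact Nat.dvd_antisymm (hL12 ▸ Subgroup.card_dvd_of_le inf_le_right)
        (Nat.Coprime.mul_dvd_of_dvd_of_dvd (by norm_num : Nat.Coprime 3 4) h3 h4)
    have e : Nz = L := Subgroup.eq_of_le_of_card_ge inf_le_right (by rw [h12, hL12])
    intro l hl y hy
    exact (mem_normalizer_iff.mp (e.symm ▸ hl : l ∈ Nz).1 y).mp hy
  -- the elements of two-power order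
  have htwo : ∀ y ∈ D, y ^ 512 = 1 → y ∈ R := fun y hy hpow => by
    refine ⟨hy.1, ?_⟩
    set l := K.p y with hl
    have h512 : l ^ 512 = 1 := by rw [hl, ← K.p_pow hy.1, hpow, K.p_one]
    have h12 : l ^ 12 = 1 := by
      have := pow_card_eq_one' (x := (⟨l, hy.2⟩ : L))
      rw [hL12] at this
      exact congrArg Subtype.val this
    have h4 : l ^ 4 = 1 := by
      exact show l ^ Nat.gcd 512 12 = 1 from pow_gcd_eq_one.mpr ⟨h512, h12⟩
    haveI hn : ((four h).subgroupOf L).Normal := ⟨fun x hx g => hnorm g g.2 x hx⟩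
    have hi : ((four h).subgroupOf L).index = 3 := by
      have := ((four h).subgroupOf L).card_mul_index
      rw [Nat.card_congr (Subgroup.subgroupOfEquivOfLe hfour).toEquiv, card_four h, hL12] at this
      omega
    have h3 : l ^ 3 ∈ four h := by
      have := Subgroup.pow_index_mem ((four h).subgroupOf L) ⟨l, hy.2⟩
      rw [hi] at this
      exact this
    rw [show l = (l ^ 3)⁻¹ * l ^ 4 by group, h4, mul_one]
    exact inv_mem h3
  -- the action on five cosets
  let D' := D.subgroupOf H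
  have hD' : Nat.card D' = 1536 := by rw [Nat.card_congr (Subgroup.subgroupOfEquivOfLe hDH).toEquiv, hD]
  have h5 : Nat.card (H ⧸ D') = 5 := by
    have := D'.card_eq_card_quotient_mul_card_subgroup
    rw [hD', show Nat.card H = 7680 from hH] at this
    omega
  haveI : Fintype (H ⧸ D') := Fintype.ofFinite _
  let e0 : (H ⧸ D') ≃ Fin 5 := (Fintype.equivFinOfCardEq (by rw [← Nat.card_eq_fintype_card, h5]))
  let e : (H ⧸ D') ≃ Fin 5 := e0.trans (Equiv.swap (e0 ((1 : H) : H ⧸ D')) 0)
  have he : e ((1 : H) : H ⧸ D') = 0 := Equiv.swap_apply_left _ _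
  let φ : H →* Equiv.Perm (Fin 5) := (Equiv.permCongrHom e).toMonoidHom.comp (MulAction.toPermHom H (H ⧸ D'))
  have hstab : ∀ y : H, φ y 0 = 0 ↔ (y : G) ∈ D := fun y => by
    have e0' : φ y 0 = e (y • ((1 : H) : H ⧸ D')) := by
      show e (y • e.symm 0) = _
      rw [← he, e.symm_apply_apply]
    rw [e0', ← he, e.injective.eq_iff, MulAction.Quotient.smul_coe, QuotientGroup.eq]
    simp only [smul_eq_mul, mul_one]
    exact ⟨fun hh => by simpa using inv_mem (show ((y⁻¹ : H) : G) ∈ D from hh), fun hh => show ((y⁻¹ : H) : G) ∈ D by simpa using inv_mem hh⟩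
  have hkD : φ.ker ≤ D' := fun y hy => (hstab y).mp (by rw [MonoidHom.mem_ker.mp hy]; rfl)
  let R' := R.subgroupOf H
  have hR'c : Nat.card R' = 512 := by
    rw [Nat.card_congr (Subgroup.subgroupOfEquivOfLe (hRD.trans hDH)).toEquiv, hR]
  let ψ : R' →* Equiv.Perm (Fin 5) := φ.comp R'.subtype
  have hψ : Nat.card ψ.range * Nat.card ψ.ker = 512 := by
    have := ψ.ker.card_eq_card_quotient_mul_card_subgroup
    rw [Nat.card_congr (QuotientGroup.quotientKerEquivRange ψ).toEquiv, hR'c] at this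
    exact this.symm
  let M : Subgroup G := φ.ker.map H.subtype ⊓ R
  have hMmem : ∀ {y : G}, y ∈ M ↔ ∃ hy : y ∈ H, φ ⟨y, hy⟩ = 1 ∧ y ∈ R := fun {y} => by
    constructor
    · rintro ⟨⟨w, hw, rfl⟩, hR⟩; exact ⟨w.2, MonoidHom.mem_ker.mp hw, hR⟩
    · rintro ⟨hy, h1, hR⟩; exact ⟨⟨⟨y, hy⟩, MonoidHom.mem_ker.mpr h1, rfl⟩, hR⟩
  have hMc : Nat.card M = Nat.card ψ.ker := Nat.card_congr
    { toFun := fun y => ⟨⟨⟨y.1, (hMmem.mp y.2).1⟩, (hMmem.mp y.2).2.2⟩, MonoidHom.mem_ker.mpr (hMmem.mp y.2).2.1⟩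
      invFun := fun y => ⟨((y.1 : H) : G), hMmem.mpr ⟨y.1.1.2, MonoidHom.mem_ker.mp y.2, y.1.2⟩⟩
      left_inv := fun _ => rfl
      right_inv := fun _ => rfl }
  have hMn : ∀ g ∈ H, ∀ y ∈ M, g * y * g⁻¹ ∈ M := fun g hg y hy => by
    obtain ⟨hyH, h1, hyR⟩ := hMmem.mp hy
    have hH' : g * y * g⁻¹ ∈ H := mul_mem (mul_mem hg hyH) (inv_mem hg)
    have h1' : φ ⟨g * y * g⁻¹, hH'⟩ = 1 := by
      rw [show (⟨g * y * g⁻¹, hH'⟩ : H) = ⟨g, hg⟩ * ⟨y, hyH⟩ * ⟨g, hg⟩⁻¹ from rfl, map_mul, map_mul, h1, mul_one,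
        map_inv, mul_inv_cancel]
    refine hMmem.mpr ⟨hH', h1', htwo _ (hkD (MonoidHom.mem_ker.mpr h1')) ?_⟩
    rw [conj_pow, show y ^ 512 = 1 by rw [← hR]; exact congrArg Subtype.val (pow_card_eq_one' (x := (⟨y, hyR⟩ : R))),
      mul_one, mul_inv_cancel]
  have hjM : j ∈ M := hMmem.mpr ⟨mem_centralizer_singleton_iff.mpr rfl, Equiv.ext fun i => by
      show e ((⟨j, mem_centralizer_singleton_iff.mpr rfl⟩ : H) • e.symm i) = i
      obtain ⟨q, hq⟩ := QuotientGroup.mk_surjective (e.symm i)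
      rw [← hq, MulAction.Quotient.smul_coe, ← e.apply_symm_apply i, ← hq]
      refine congrArg e (QuotientGroup.eq.mpr ?_)
      have hcq : (q : G) * j = j * q := mem_centralizer_singleton_iff.mp q.2
      show (((_ • q : H) : G))⁻¹ * (q : G) ∈ D
      rw [show ((_ • q : H) : G) = j * q from rfl, mul_inv_rev, mul_assoc,
        show j⁻¹ * (q : G) = q * j⁻¹ by rw [eq_mul_inv_iff_mul_eq, mul_assoc, hcq, inv_mul_cancel_left], inv_mul_cancel_left]
      exact inv_mem (K.W_le_pre L hj.1), K.W_le_pre (four h) hj.1⟩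
  obtain ⟨f, hf⟩ := exists_prime_orderOf_dvd_card' (G := H) 5 (by rw [show Nat.card H = 7680 from hH]; norm_num)
  have hfG : orderOf (f : G) = 5 := by rw [← hf]; exact orderOf_injective H.subtype H.subtype_injective f
  have hfix5 := fixIn_modEq (show (f : G) ^ 5 = 1 from hfG ▸ pow_orderOf_eq_one (f : G)) M (hMn f f.2)
  have hq2 : 2 ≤ Nat.card (fixIn M (f : G)) := by
    have hss : ({1, j} : Set G) ⊆ (fixIn M (f : G) : Set G) := by
      rintro w (rfl | rfl)
      exacts [one_mem _, mem_fixIn.mpr ⟨hjM, mem_centralizer_singleton_iff.mp f.2⟩]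
    have := Set.ncard_le_ncard hss (Set.toFinite _)
    rw [Set.ncard_pair (Ne.symm j1)] at this
    exact this
  have hq60 : Nat.card (fixIn M (f : G)) ∣ 60 := by
    have : Nat.card (fixIn M (f : G)) ∣ Nat.card (centralizer ({(f : G)} : Set G)) :=
      Subgroup.card_dvd_of_le inf_le_right
    rwa [K.hfive _ hfG] at this
  obtain ⟨m, -, hm⟩ : ∃ m ≤ 9, Nat.card (fixIn M (f : G)) = 2 ^ m := (Nat.dvd_prime_pow Nat.prime_two).mp
    ((Subgroup.card_dvd_of_le inf_le_left).trans
      (show Nat.card M ∣ 2 ^ 9 by rw [hMc]; norm_num; exact Dvd.intro_left _ hψ))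
  have hr8 : Nat.card ψ.range ∣ 8 := by
    have h1 : Nat.card ψ.range ∣ 512 := Dvd.intro _ hψ
    have h2 : Nat.card ψ.range ∣ 120 := by
      have := Subgroup.card_subgroup_dvd_card ψ.range
      rwa [Nat.card_perm, Nat.card_fin, show Nat.factorial 5 = 120 from rfl] at this
    exact show _ ∣ Nat.gcd 512 120 from Nat.dvd_gcd h1 h2
  obtain ⟨t, ht, hta, hto⟩ := K.lift_three h.a3 h.a1
  have htD : t ∈ D := ⟨ht, hta ▸ ha⟩
  let tH : H := ⟨t, hDH htD⟩
  have hφ : Nat.card φ.range * Nat.card φ.ker = 7680 := by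
    have := φ.ker.card_eq_card_quotient_mul_card_subgroup
    rw [Nat.card_congr (QuotientGroup.quotientKerEquivRange φ).toEquiv, show Nat.card H = 7680 from hH] at this
    exact this.symm
  have hk1536 : Nat.card φ.ker ∣ 1536 := hD' ▸ Subgroup.card_dvd_of_le hkD
  obtain ⟨q, hq8, hq⟩ := (Nat.dvd_prime_pow Nat.prime_two).mp (show Nat.card ψ.range ∣ 2 ^ 3 from hr8)
  rw [hq] at hψ
  interval_cases q
  · -- every coset is fixed
    have hRker : R' ≤ φ.ker := fun y hy => MonoidHom.mem_ker.mpr (by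
      have : ψ ⟨y, hy⟩ ∈ (⊥ : Subgroup _) :=
        (Subgroup.eq_bot_of_card_le ψ.range (by rw [hq]; norm_num)) ▸ MonoidHom.mem_range.mpr ⟨_, rfl⟩
      exact Subgroup.mem_bot.mp this)
    have h512 : 512 ∣ Nat.card φ.ker := hR'c ▸ Subgroup.card_dvd_of_le hRker
    have hker : φ.ker = D' := by
      obtain ⟨c, hc⟩ := h512
      have hc3 : c ∣ 3 := by
        rw [hc, show (1536 : ℕ) = 512 * 3 by norm_num] at hk1536
        exact Nat.dvd_of_mul_dvd_mul_left (by norm_num) hk1536
      rcases (Nat.dvd_prime Nat.prime_three).mp hc3 with e | e <;> rw [e] at hc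
      · exact (perm_no_card φ.range (Or.inl (by rw [hc] at hφ; omega))).elim
      · exact Subgroup.eq_of_le_of_card_ge hkD (by rw [hc, hD'])
    haveI hDn : D'.Normal := hker ▸ φ.normal_ker
    obtain ⟨g, hg⟩ : ∃ g : H, (g : G) ∉ D := by
      by_contra hh
      push Not at hh
      have : D' = ⊤ := (Subgroup.eq_top_iff' _).mpr hh
      rw [this, Subgroup.card_top, show Nat.card H = 7680 from hH] at hD'
      omega
    have hconjD : ∀ d ∈ D, (g : G)⁻¹ * d * g ∈ D := fun d hd => by
      have := hDn.conj_mem ⟨d, hDH hd⟩ hd g⁻¹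
      rw [inv_inv] at this
      exact this
    set u := (g : G) * z * (g : G)⁻¹ with hu
    have hdu : ∀ d ∈ D, Commute d u := fun d hd => by
      have := (Cfsg.Lib.Isolated.commute_conj_iff (g : G)).mpr (hconjD d hd).1
      rwa [show (g : G) * ((g : G)⁻¹ * d * g) * (g : G)⁻¹ = d by group] at this
    have hne : u ≠ z := fun e' => hg ⟨mul_inv_eq_iff_eq_mul.mp e', ⟨g, mul_inv_eq_iff_eq_mul.mp e', rfl,
      mem_centralizer_singleton_iff.mp g.2⟩⟩
    have huW : u ∈ K.W := K.cent_le le_rfl (by rw [K.cardW]; norm_num) (fun c hc m hm => K.normW hc hm)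
      (hdu z (K.W_le_pre L K.zW)).symm fun m hm => (hdu m (K.W_le_pre L hm)).symm
    have huOm : u ∈ K.Om := ⟨huW, fun m hm => hdu m (K.W_le_pre L hm), by
      rw [hu, show (g : G) * z * (g : G)⁻¹ * ((g : G) * z * (g : G)⁻¹) = g * (z * z) * (g : G)⁻¹ by group, K.z_sq,
        mul_one, mul_inv_cancel]⟩
    obtain ⟨cv, hcv, hcvv⟩ := K.p_surj v
    exact K.no_fused hbig g huOm hne ⟨t, ht, hta, hdu t htD⟩ ⟨cv, hcv, hcvv, hdu cv ⟨hcv, hcvv ▸ hv⟩⟩ h
  · rw [hMc, show Nat.card ψ.ker = 256 by omega, hm] at hfix5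
    rw [hm] at hq2 hq60
    have := Nat.le_of_dvd (by norm_num) hq60
    have : m ≤ 5 := by
      by_contra hh
      have := Nat.pow_le_pow_right (show 2 > 0 by norm_num) (show 6 ≤ m by omega)
      omega
    interval_cases m <;> omega
  · rw [hMc, show Nat.card ψ.ker = 128 by omega, hm] at hfix5
    rw [hm] at hq2 hq60
    have := Nat.le_of_dvd (by norm_num) hq60
    have : m ≤ 5 := by
      by_contra hh
      have := Nat.pow_le_pow_right (show 2 > 0 by norm_num) (show 6 ≤ m by omega)
      omega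
    interval_cases m <;> omega
  · by_cases hs : φ tH = 1
    · -- the image would have order 40
      have h3 : 3 ∣ Nat.card φ.ker := by
        have := orderOf_dvd_natCard (⟨tH, MonoidHom.mem_ker.mpr hs⟩ : φ.ker)
        rwa [← orderOf_injective φ.ker.subtype φ.ker.subtype_injective,
          show orderOf (φ.ker.subtype ⟨tH, MonoidHom.mem_ker.mpr hs⟩) = 3 by
            rw [← hto]; exact (orderOf_injective H.subtype H.subtype_injective tH).symm] at this
      have h64 : 64 ∣ Nat.card φ.ker := by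
        have hk : Nat.card ψ.ker = 64 := by omega
        have := Subgroup.card_dvd_of_le (show ψ.ker.map R'.subtype ≤ φ.ker from by rintro _ ⟨y, hy, rfl⟩; exact hy)
        rwa [Subgroup.card_map_of_injective R'.subtype_injective, hk] at this
      have h192 := Nat.Coprime.mul_dvd_of_dvd_of_dvd (by norm_num : Nat.Coprime 3 64) h3 h64
      let χ : D' →* Equiv.Perm (Fin 5) := φ.comp D'.subtype
      have hχ := χ.ker.card_eq_card_quotient_mul_card_subgroup
      rw [Nat.card_congr (QuotientGroup.quotientKerEquivRange χ).toEquiv, hD'] at hχ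
      have hχk : Nat.card χ.ker = Nat.card φ.ker :=
        Nat.card_congr (Subgroup.subgroupOfEquivOfLe hkD).toEquiv
      have hsub : ψ.range ≤ χ.range := by
        rintro _ ⟨y, rfl⟩
        exact ⟨⟨y.1, hRD y.2⟩, rfl⟩
      obtain ⟨c, hc⟩ := Subgroup.card_dvd_of_le hsub
      obtain ⟨d, hd⟩ := h192
      rw [hχk, hc, hq, hd] at hχ
      have hcd : c * d = 1 := by nlinarith
      rw [Nat.eq_one_of_mul_eq_one_left hcd] at hd
      exact perm_no_card φ.range (Or.inr (by rw [hd] at hφ; omega))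
    · -- an element of order three normalises a group of order eight
      have h3 : (φ tH) ^ 3 = 1 := by
        rw [← map_pow, show tH ^ 3 = 1 from Subtype.ext (show t ^ 3 = 1 from hto ▸ pow_orderOf_eq_one t), map_one]
      have hn : ∀ y ∈ ψ.range, φ tH * y * (φ tH)⁻¹ ∈ ψ.range := by
        rintro _ ⟨y, rfl⟩
        refine ⟨⟨tH * y.1 * tH⁻¹, ⟨(ht.mul_left y.2.1).mul_left ht.inv_left, ?_⟩⟩, ?_⟩
        · show K.p (t * (y.1 : G) * t⁻¹) ∈ four h
          rw [K.p_conj ht (show Commute ((y.1 : H) : G) z from y.2.1), hta]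
          exact hnorm a ha _ y.2.2
        · show φ (tH * y.1 * tH⁻¹) = _
          rw [map_mul, map_mul, map_inv]; rfl
      have hm' := fixIn_modEq h3 ψ.range hn
      rw [hq] at hm'
      have hbot : fixIn ψ.range (φ tH) = ⊥ := (Subgroup.eq_bot_iff_forall _).mpr fun y hy => by
        refine perm_no_comm _ ((hstab tH).mpr htD) h3 hs y ?_ (perm_eight y ?_) (mem_fixIn.mp hy).2.eq
        · obtain ⟨w, rfl⟩ := hy.1
          exact (hstab w.1).mpr (hRD w.2)
        · have := pow_card_eq_one' (x := (⟨y, hy.1⟩ : ψ.range))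
          rw [hq] at this
          exact congrArg Subtype.val this
      rw [hbot, Subgroup.card_bot] at hm'
      omega

end Ctx

end Cfsg.Lib.M24Nse
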