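import Cfsg.Agent.M24Nse.LocalBase
import Mathlib.GroupTheory.GroupAction.Quotient

/-!
The centraliser of an involution commuting with an element of order seven.
-/

set_option autoImplicit false
set_option linter.unusedSectionVars false
set_option linter.style.haveILetI false
set_option maxRecDepth 100000

namespace Cfsg.Lib.M24Nse

open Subgroup Cfsg.Lib.SameOrder

universe u

variable {G : Type u} [Group G] [Finite G]

local instance fact_two_mfa : Fact (Nat.Prime 2) := ⟨Nat.prime_two⟩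
local instance fact_three_mfa : Fact (Nat.Prime 3) := ⟨Nat.prime_three⟩
local instance fact_seven_mfa : Fact (Nat.Prime 7) := ⟨by norm_num⟩

theorem exists_quot_action {D : Type u} [Group D] [Finite D] (W : Subgroup D) [W.Normal] (A : Subgroup ↥W)
    [A.Normal] (hA : ∀ d : D, A ≤ A.comap (MulAut.conjNormal d : MulAut ↥W).toMonoidHom) :
    ∃ φ : D →* Equiv.Perm (↥W ⧸ A),
      ∀ (d : D) (w : ↥W), φ d (w : ↥W ⧸ A) = ((MulAut.conjNormal d w : ↥W) : ↥W ⧸ A) := by
  letI : MulAction D (↥W ⧸ A) :=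
    { smul := fun d q => QuotientGroup.map A A (MulAut.conjNormal d : MulAut ↥W).toMonoidHom (hA d) q
      one_smul := fun q => QuotientGroup.induction_on q fun w => by
        show ((MulAut.conjNormal (1 : D) w : ↥W) : ↥W ⧸ A) = (w : ↥W ⧸ A)
        rw [map_one]; rfl
      mul_smul := fun d e q => QuotientGroup.induction_on q fun w => by
        show ((MulAut.conjNormal (d * e) w : ↥W) : ↥W ⧸ A) =
          ((MulAut.conjNormal d (MulAut.conjNormal e w) : ↥W) : ↥W ⧸ A)
        rw [map_mul]; rfl }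
  exact ⟨MulAction.toPermHom D (↥W ⧸ A), fun _ _ => rfl⟩

variable (H : Counts G)
include H

/-- An involution commuting with a Sylow 3-subgroup gives a second one commuting with both. -/
theorem exists_second {u : G} (hu : orderOf u = 2) {P : Subgroup G} (hP : Nat.card ↥P = 27)
    (hc : ∀ a ∈ P, u * a = a * u) :
    ∃ w : G, orderOf w = 2 ∧ w ≠ u ∧ w * u = u * w ∧ ∀ a ∈ P, w * a = a * w := by
  classical
  have h3 : IsPGroup 3 ↥P := IsPGroup.of_card (n := 3) (by rw [hP]; norm_num)
  -- the fixed involutions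
  let act : MulAction ↥P {g : G // orderOf g = 2} :=
    { smul := fun a g => ⟨(a : G) * g.1 * (a : G)⁻¹, (MulEquiv.orderOf_eq (MulAut.conj (a : G)) g.1).trans g.2⟩
      one_smul := fun g => Subtype.ext (show ((1 : ↥P) : G) * g.1 * ((1 : ↥P) : G)⁻¹ = g.1 by simp)
      mul_smul := fun a b g => Subtype.ext (show ((a * b : ↥P) : G) * g.1 * ((a * b : ↥P) : G)⁻¹ =
        (a : G) * ((b : G) * g.1 * (b : G)⁻¹) * (a : G)⁻¹ by push_cast; group) }
  letI := act
  have hmod : Nat.card {g : G // orderOf g = 2} % 3 =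
      Nat.card (MulAction.fixedPoints ↥P {g : G // orderOf g = 2}) % 3 :=
    h3.card_modEq_card_fixedPoints _
  rw [show Nat.card {g : G // orderOf g = 2} = 43263 from cnt_val H (n := 2) (v := 43263)] at hmod
  have hfix : ∀ g : {g : G // orderOf g = 2}, g ∈ MulAction.fixedPoints ↥P {g : G // orderOf g = 2} ↔
      ∀ a ∈ P, g.1 * a = a * g.1 := by
    intro g
    constructor
    · intro h a ha
      exact (mul_inv_eq_iff_eq_mul.1 (show a * g.1 * a⁻¹ = g.1 from congrArg Subtype.val (h ⟨a, ha⟩))).symm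
    · intro h a
      exact Subtype.ext (show (a : G) * g.1 * (a : G)⁻¹ = g.1 by rw [← h a a.2, mul_inv_cancel_right])
  have hu' : (⟨u, hu⟩ : {g : G // orderOf g = 2}) ∈ MulAction.fixedPoints ↥P {g : G // orderOf g = 2} :=
    (hfix _).2 hc
  obtain ⟨w, hw, hwu⟩ : ∃ w : G, (orderOf w = 2 ∧ ∀ a ∈ P, w * a = a * w) ∧ w ≠ u := by
    by_contra hne
    push Not at hne
    have h1 : Nat.card (MulAction.fixedPoints ↥P {g : G // orderOf g = 2}) = 1 := by
      rw [Nat.card_eq_one_iff_unique]
      refine ⟨⟨fun a b => Subtype.ext (Subtype.ext ?_)⟩, ⟨⟨_, hu'⟩⟩⟩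
      rw [hne a.1.1 ⟨a.1.2, (hfix _).1 a.2⟩, hne b.1.1 ⟨b.1.2, (hfix _).1 b.2⟩]
    rw [h1] at hmod
    norm_num at hmod
  obtain ⟨hw2, hwc⟩ := hw
  have huu : u⁻¹ = u := inv_eq_of_mul_eq_one_left (by rw [← pow_two, ← hu, pow_orderOf_eq_one])
  have hww : w⁻¹ = w := inv_eq_of_mul_eq_one_left (by rw [← pow_two, ← hw2, pow_orderOf_eq_one])
  set d := u * w with hd
  have hdc : ∀ a ∈ P, d * a = a * d := fun a ha =>
    ((show Commute u a from hc a ha).mul_left (show Commute w a from hwc a ha)).eq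
  have hinv : ∀ k : ℕ, u * d ^ k * u⁻¹ = (d ^ k)⁻¹ := fun k => by
    rw [← conj_pow, show u * d * u⁻¹ = d⁻¹ by
      rw [hd, mul_inv_rev, huu, hww, ← mul_assoc u u w, show u * u = 1 by rw [← pow_two, ← hu, pow_orderOf_eq_one],
        one_mul], inv_pow]
  have hd1 : d ≠ 1 := fun e => hwu (by rw [hd] at e; rw [eq_inv_of_mul_eq_one_right e, huu])
  -- the product has two-power order
  have hodd : ∀ q : ℕ, q.Prime → q ∣ orderOf d → q = 2 := by
    intro q hq hqd
    by_contra hq2
    haveI := Fact.mk hq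
    set e := d ^ (orderOf d / q) with he
    have hee : orderOf e = q := orderOf_pow_orderOf_div (orderOf_pos d).ne' hqd
    have hec : ∀ a ∈ P, e * a = a * e := fun a ha => ((show Commute d a from hdc a ha).pow_left _).eq
    have hPe : P ≤ centralizer ({e} : Set G) := fun a ha => mem_centralizer_singleton_iff.2 (hec a ha).symm
    have h27 : 27 ∣ Nat.card ↥(centralizer ({e} : Set G)) := hP ▸ card_dvd_of_le hPe
    by_cases hq3 : q = 3
    · subst hq3
      have heP : e ∈ P := by
        have hn : P ≤ normalizer (zpowers e : Set G) := fun a ha => MathieuEleven.mem_normalizer_zpowers (by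
          rw [← hec a ha, mul_inv_cancel_right]; exact mem_zpowers e)
        have hsup : IsPGroup 3 ↥(P ⊔ zpowers e) := h3.to_sup_of_normal_right'
          (IsPGroup.of_card (n := 1) (by rw [Nat.card_zpowers, hee, pow_one])) hn
        obtain ⟨k, hk⟩ := IsPGroup.iff_card.1 hsup
        have hk3 : k ≤ 3 := by
          by_contra hlt
          have h4 := (pow_dvd_pow 3 (by omega : 4 ≤ k)).trans (hk ▸ card_subgroup_dvd_card (P ⊔ zpowers e))
          rw [H.card] at h4
          norm_num at h4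
        have heq : P = P ⊔ zpowers e := Subgroup.eq_of_le_of_card_ge le_sup_left (by
          rw [hk, hP]; exact (Nat.pow_le_pow_right (by norm_num) hk3).trans_eq (by norm_num))
        exact heq.symm ▸ (le_sup_right : zpowers e ≤ P ⊔ zpowers e) (mem_zpowers e)
      have h1 := hinv (orderOf d / 3)
      rw [← he, hc e heP, mul_inv_cancel_right] at h1
      have : orderOf e ∣ 2 := orderOf_dvd_of_pow_eq_one (by
        rw [pow_two]; nth_rw 2 [h1]; exact mul_inv_cancel e)
      rw [hee] at this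
      norm_num at this
    · have hqG : q ∣ Nat.card G := hee ▸ orderOf_dvd_natCard e
      rw [H.card] at hqG
      have hmem : q = 2 ∨ q = 3 ∨ q = 5 ∨ q = 7 ∨ q = 11 ∨ q = 23 := by
        rw [show 244823040 = 2 ^ 10 * 3 ^ 3 * 5 * 7 * 11 * 23 from rfl] at hqG
        simp only [hq.dvd_mul] at hqG
        rcases hqG with ((((h | h) | h) | h) | h) | h
        · exact Or.inl ((Nat.prime_dvd_prime_iff_eq hq Nat.prime_two).1 (hq.dvd_of_dvd_pow h))
        · exact Or.inr (Or.inl ((Nat.prime_dvd_prime_iff_eq hq Nat.prime_three).1 (hq.dvd_of_dvd_pow h)))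
        all_goals rw [Nat.prime_dvd_prime_iff_eq hq (by norm_num)] at h
        all_goals omega
      obtain ⟨⟨t, ht⟩, hto⟩ := exists_prime_orderOf_dvd_card' (G := ↥P) 3 (by rw [hP]; norm_num)
      rw [Subgroup.orderOf_mk] at hto
      rcases hmem with h | h | h | h | h | h
      · exact hq2 h
      · exact hq3 h
      · rw [card_cent_five H (hee.trans h)] at h27; norm_num at h27
      · rw [card_cent_seven H (hee.trans h)] at h27; norm_num at h27
      · subst h; exact order_comm H (hec t ht).symm hto hee (by norm_num)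
      · subst h; exact order_comm H (hec t ht).symm hto hee (by norm_num)
  have hd2 : 2 ∣ orderOf d := by
    obtain ⟨q, hq, hqd⟩ := Nat.exists_prime_and_dvd (fun e => hd1 (orderOf_eq_one_iff.1 e))
    exact hodd q hq hqd ▸ hqd
  set c := d ^ (orderOf d / 2) with hcdef
  have hc2 : orderOf c = 2 := orderOf_pow_orderOf_div (orderOf_pos d).ne' hd2
  have hcu : c * u = u * c := by
    have h1 := hinv (orderOf d / 2)
    rw [← hcdef, inv_eq_of_mul_eq_one_left (show c * c = 1 by rw [← pow_two, ← hc2, pow_orderOf_eq_one])] at h1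
    exact (mul_inv_eq_iff_eq_mul.1 h1).symm
  by_cases hcu' : c = u
  · refine ⟨w, hw2, hwu, ?_, hwc⟩
    have hud : d * u = u * d := hcu' ▸ (Commute.self_pow d (orderOf d / 2)).eq
    rw [hd, mul_assoc] at hud
    exact mul_left_cancel hud
  · exact ⟨c, hc2, hcu', hcu, fun a ha => ((show Commute d a from hdc a ha).pow_left _).eq⟩

/-- The orders of the centraliser and of its core. -/
theorem alpha {x u : G} (hx : orderOf x = 7) (hu : orderOf u = 2) (hux : u * x = x * u)
    (hCu : Nat.card ↥(centralizer ({u} : Set G)) = 96768 ∨ Nat.card ↥(centralizer ({u} : Set G)) = 21504 ∨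
      Nat.card ↥(centralizer ({u} : Set G)) = 12096)
    {W : Subgroup ↥(centralizer ({u} : Set G))} [W.Normal] {x' : ↥(centralizer ({u} : Set G))}
    (L : Local W 7 x') (hW2 : Nat.card ↥(W ⊓ centralizer ({x'} : Set ↥(centralizer ({u} : Set G)))) = 2)
    (hmod : Nat.card ↥W % 7 = 2) (huW : ⟨u, self_mem_centralizer u⟩ ∈ W) (hxo : orderOf x' = 7)
    (hN : Nat.card ↥(normalizer (zpowers (QuotientGroup.mk' W x') :
        Set (↥(centralizer ({u} : Set G)) ⧸ W))) = 21) :
    Nat.card ↥(centralizer ({u} : Set G)) = 21504 ∧ (Nat.card ↥W = 128 ∨ Nat.card ↥W = 1024) := by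
  set f := QuotientGroup.mk' W
  obtain ⟨w, hw⟩ := IsPGroup.iff_card.1 L.pgroup
  have hw10 : w ≤ 10 := by
    by_contra hlt
    have h1 := (pow_dvd_pow 2 (by omega : 11 ≤ w)).trans
      (hw ▸ (card_subgroup_dvd_card W).trans (cent_seven_dvd H hx hu hux))
    norm_num at h1
  set n := Nat.card (Sylow 7 (↥(centralizer ({u} : Set G)) ⧸ W)) with hn
  have hX : Nat.card (↥(centralizer ({u} : Set G)) ⧸ W) = n * 21 := by rw [hn, ← L.sylow, hN]
  have hcard : n * 21 * 2 ^ w = Nat.card ↥(centralizer ({u} : Set G)) := by rw [← L.card, hX, hw]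
  rw [hw] at hmod
  have hcase : (Nat.card ↥(centralizer ({u} : Set G)) = 21504 ∧ (w = 7 ∨ w = 10)) ∨
      (Nat.card ↥(centralizer ({u} : Set G)) = 96768 ∧ ((w = 1 ∧ n = 2304) ∨ (w = 4 ∧ n = 288) ∨ (w = 7 ∧ n = 36))) ∨
      (Nat.card ↥(centralizer ({u} : Set G)) = 12096 ∧ ((w = 1 ∧ n = 288) ∨ (w = 4 ∧ n = 36))) ∨
      (Nat.card ↥(centralizer ({u} : Set G)) = 21504 ∧ ((w = 1 ∧ n = 512) ∨ (w = 4 ∧ n = 64))) := by
    interval_cases w <;> norm_num at hmod <;> rcases hCu with e | e | e <;> rw [e] at hcard <;> omega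
  rcases hcase with ⟨e, ew⟩ | hcase
  · refine ⟨e, ?_⟩
    rcases ew with rfl | rfl
    · exact Or.inl (by rw [hw]; norm_num)
    · exact Or.inr (by rw [hw]; norm_num)
  exfalso
  have hn' : n = 2304 ∨ n = 288 ∨ n = 36 ∨ n = 512 ∨ n = 64 := by omega
  have hD' : Nat.card ↥(centralizer ({u} : Set G)) ∣ 2 ^ 10 * 3 ^ 3 * 7 := by
    rw [show 2 ^ 10 * 3 ^ 3 * 7 = 193536 from rfl]; exact cent_seven_dvd H hx hu hux
  obtain ⟨S, hSn, hSs, hSnc, -, hScen, hScard, hSp⟩ := L.exists_socle (Or.inr rfl) hD' (by rw [← hn]; omega)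
  haveI := hSs
  obtain ⟨m, hm, hm7, hm21⟩ := socle_card (hScard.trans hn.symm) hSp hX (by omega) (by omega)
  have hm' : m = 7 ∨ m = 21 := by
    obtain ⟨k, rfl⟩ := hm7
    have h3 : k ∣ 3 := Nat.dvd_of_mul_dvd_mul_left (show 0 < 7 by norm_num) hm21
    rcases (Nat.dvd_prime Nat.prime_three).1 h3 with rfl | rfl <;> omega
  -- all but two possibilities
  have hkill : ∀ k, Nat.card ↥S = k → k < 6000 → k ∉ [60, 168, 360, 504, 660, 1092, 2448, 2520, 3420, 4080, 5616] →
      False := fun k hk h6 hl => false_small hSs hSnc hk h6 hl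
  have hfin : m = 21 ∧ ((w = 1 ∧ n = 2304 ∧ Nat.card ↥(centralizer ({u} : Set G)) = 96768) ∨ (w = 1 ∧ n = 288 ∧ Nat.card ↥(centralizer ({u} : Set G)) = 12096) ∨
      (w = 4 ∧ n = 288 ∧ Nat.card ↥(centralizer ({u} : Set G)) = 96768)) := by
    rcases hn' with e | e | e | e | e <;> rcases hm' with e' | e' <;> rw [e, e'] at hm
    · exact (false_of_degree hSnc (show Nat.card ↥S = 16128 by rw [hm]) check_16128).elim
    · omega
    · exact (hkill _ hm (by norm_num) (by decide)).elim
    · omega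
    · exact (hkill _ hm (by norm_num) (by decide)).elim
    · exact (hkill _ hm (by norm_num) (by decide)).elim
    · exact (hkill _ hm (by norm_num) (by decide)).elim
    · exact (false_of_degree hSnc (show Nat.card ↥S = 10752 by rw [hm]) check_10752).elim
    · exact (hkill _ hm (by norm_num) (by decide)).elim
    · exact (hkill _ hm (by norm_num) (by decide)).elim
  obtain ⟨hm21', hfin⟩ := hfin
  subst hm21'
  have hStop : S = ⊤ := Subgroup.eq_top_of_card_eq _ (by rw [hm, hX])
  haveI : IsSimpleGroup (↥(centralizer ({u} : Set G)) ⧸ W) := by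
    rw [hStop] at hSs
    exact MulEquiv.isSimpleGroup Subgroup.topEquiv.symm
  have hnc : ¬ IsCyclic (↥(centralizer ({u} : Set G)) ⧸ W) := fun hc => hSnc fun a b => Subtype.ext (by
    letI : CommGroup (↥(centralizer ({u} : Set G)) ⧸ W) := IsCyclic.commGroup
    show (a : ↥(centralizer ({u} : Set G)) ⧸ W) * b = b * a
    exact mul_comm _ _)
  rcases hfin with ⟨rfl, hne, hDc⟩ | ⟨rfl, hne, hDc⟩ | ⟨rfl, hne, hDc⟩
  iterate 2
    -- a second involution centralising a Sylow 3-subgroup
    obtain ⟨P, hP⟩ := Sylow.exists_subgroup_card_pow_prime (G := ↥(centralizer ({u} : Set G))) 3 (n := 3) (by rw [hDc]; norm_num)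
    have hPG : Nat.card ↥(P.map (centralizer ({u} : Set G)).subtype) = 27 := by
      rw [card_map_of_injective (centralizer ({u} : Set G)).subtype_injective, hP]; norm_num
    obtain ⟨z, hz2, hzu, hzc, hzP⟩ := exists_second H hu hPG (fun a ha => by
      obtain ⟨b, -, rfl⟩ := ha
      exact (mem_centralizer_singleton_iff.1 b.2).symm)
    have hzD : z ∈ (centralizer ({u} : Set G)) := mem_centralizer_singleton_iff.2 hzc
    have hu1 : (⟨u, self_mem_centralizer u⟩ : ↥(centralizer ({u} : Set G))) ≠ 1 := fun e => by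
      have : u = 1 := congrArg Subtype.val e
      rw [this, orderOf_one] at hu; norm_num at hu
    have hzW : (⟨z, hzD⟩ : ↥(centralizer ({u} : Set G))) ∉ W := fun h => by
      have hWz : W = zpowers (⟨u, self_mem_centralizer u⟩ : ↥(centralizer ({u} : Set G))) := (Subgroup.eq_of_le_of_card_ge (zpowers_le.2 huW)
        (by rw [hw, Nat.card_zpowers, Subgroup.orderOf_mk, hu]; norm_num)).symm
      rw [hWz] at h
      obtain ⟨k, hk⟩ := mem_zpowers_iff.1 h
      have hk' : u ^ k = z := by simpa using congrArg Subtype.val hk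
      rw [← zpow_mod_orderOf, hu] at hk'
      rcases Int.emod_two_eq_zero_or_one k with e | e
      · rw [show ((2 : ℕ) : ℤ) = 2 from rfl, e, zpow_zero] at hk'
        rw [← hk', orderOf_one] at hz2; norm_num at hz2
      · rw [show ((2 : ℕ) : ℤ) = 2 from rfl, e, zpow_one] at hk'
        exact hzu hk'.symm
    have hzo : orderOf (f ⟨z, hzD⟩) = 2 := by
      refine ((Nat.dvd_prime Nat.prime_two).1 ((orderOf_map_dvd f _).trans (dvd_of_eq
        ((Subgroup.orderOf_mk _ _).trans hz2)))).resolve_left fun e => hzW ?_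
      rwa [orderOf_eq_one_iff, QuotientGroup.mk'_apply, QuotientGroup.eq_one_iff] at e
    have hcm : 27 ∣ Nat.card ↥(centralizer ({f ⟨z, hzD⟩} : Set (↥(centralizer ({u} : Set G)) ⧸ W))) := by
      have h1 := card_map_mul W P
      rw [hP] at h1
      have h2 : Nat.card ↥(W ⊓ P) = 1 := Nat.eq_one_of_dvd_coprimes (a := 2 ^ 1) (b := 3 ^ 3) (by norm_num)
        (hw ▸ card_dvd_of_le inf_le_left) (hP ▸ card_dvd_of_le inf_le_right)
      rw [h2, mul_one] at h1
      refine (show 27 ∣ Nat.card ↥(P.map f) by rw [h1]; norm_num).trans (card_dvd_of_le ?_)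
      rintro _ ⟨b, hb, rfl⟩
      refine mem_centralizer_singleton_iff.2 ?_
      rw [← map_mul, ← map_mul]
      exact congrArg f (Subtype.ext (hzP _ (mem_map_of_mem _ hb)).symm)
    first
      | exact no_involution_twenty_seven hnc (M := 6912) (S := 220) (N := 2304) (by rw [hX, hne]) (by norm_num)
          (by norm_num) (hn.symm.trans hne) (by norm_num) has27_ok.1 hzo hcm (by rw [hX, hne]; norm_num)
      | exact no_involution_twenty_seven hnc (M := 864) (S := 78) (N := 288) (by rw [hX, hne]) (by norm_num)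
          (by norm_num) (hn.symm.trans hne) (by norm_num) has27_ok.2 hzo hcm (by rw [hX, hne]; norm_num)
  -- the action on eight points
  set uD : ↥(centralizer ({u} : Set G)) := ⟨u, self_mem_centralizer u⟩
  set A := (zpowers uD).subgroupOf W with hA
  have hAc : ∀ (d : ↥(centralizer ({u} : Set G))) (a : ↥W), a ∈ A → MulAut.conjNormal d a = a := by
    intro d a ha
    obtain ⟨k, hk⟩ := mem_zpowers_iff.1 (show (a : ↥(centralizer ({u} : Set G))) ∈ zpowers uD from ha)
    refine Subtype.ext ?_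
    rw [MulAut.conjNormal_apply, ← hk]
    rw [← ((show Commute uD d from central_self u d).zpow_left k).eq, mul_inv_cancel_right]
  haveI : A.Normal := ⟨fun a ha g => by
    have h1 : g * a * g⁻¹ = a := by
      refine Subtype.ext ?_
      have := congrArg Subtype.val (hAc (g : ↥(centralizer ({u} : Set G))) a ha)
      rw [MulAut.conjNormal_apply] at this
      exact this
    rwa [h1]⟩
  obtain ⟨φ, hφ⟩ := exists_quot_action W A fun d a ha => by
    show MulAut.conjNormal d a ∈ A
    rw [hAc d a ha]; exact ha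
  have hA2 : Nat.card ↥A = 2 := by
    rw [hA, Nat.card_congr (subgroupOfEquivOfLe (zpowers_le.2 huW)).toEquiv, Nat.card_zpowers,
      Subgroup.orderOf_mk, hu]
  have hQ : Nat.card (↥W ⧸ A) = 8 := by
    have h1 := card_eq_card_quotient_mul_card_subgroup A
    rw [hA2, hw] at h1
    omega
  have hr : Nat.card ↥φ.range ∣ 40320 := by
    refine (card_subgroup_dvd_card φ.range).trans (dvd_of_eq ?_)
    rw [Nat.card_perm, hQ]; rfl
  have hidx : φ.ker.index = Nat.card ↥φ.range := Subgroup.index_ker φ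
  have hK3 : 3 ∣ Nat.card ↥φ.ker := by
    by_contra h3
    have h27 : 3 ^ 3 ∣ Nat.card ↥φ.ker * φ.ker.index := by rw [card_mul_index, hDc]; norm_num
    have h1 : 3 ^ 3 ∣ φ.ker.index :=
      (Nat.Coprime.pow_left 3 ((Nat.Prime.coprime_iff_not_dvd Nat.prime_three).2 h3)).dvd_of_dvd_mul_left h27
    rw [hidx] at h1
    exact absurd (h1.trans hr) (by norm_num)
  have htop : φ.ker.map f = ⊤ := by
    rcases ((inferInstance : φ.ker.Normal).map f (QuotientGroup.mk'_surjective W)).eq_bot_or_eq_top with e | e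
    · exfalso
      rw [Subgroup.map_eq_bot_iff, QuotientGroup.ker_mk'] at e
      have := (Nat.Prime.dvd_of_dvd_pow Nat.prime_three (hw ▸ hK3.trans (card_dvd_of_le e)))
      norm_num at this
    · exact e
  have hxK : x' ∈ φ.ker := by
    rw [MonoidHom.mem_ker, ← orderOf_eq_one_iff]
    have hdv : φ.ker.index ∣ 2 ^ 4 := by
      have hsup : φ.ker ⊔ W = ⊤ := by
        have := congrArg (Subgroup.comap f) htop
        rwa [comap_map_eq, QuotientGroup.ker_mk', comap_top] at this
      rw [← relIndex_top_right, ← hsup, sup_comm, Subgroup.relIndex_sup_right, ← hw]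
      exact relIndex_dvd_card φ.ker W
    refine Nat.eq_one_of_dvd_coprimes (a := 7) (b := 2 ^ 4) (by norm_num) ((orderOf_map_dvd φ x').trans (dvd_of_eq hxo)) ?_
    exact (Subgroup.orderOf_dvd_natCard φ.range ⟨x', rfl⟩).trans (hidx ▸ hdv)
  have hcomm : W ≤ centralizer ({x'} : Set ↥(centralizer ({u} : Set G))) := by
    intro a ha
    have h1 : ((MulAut.conjNormal x' (⟨a, ha⟩ : ↥W) : ↥W) : ↥W ⧸ A) = ((⟨a, ha⟩ : ↥W) : ↥W ⧸ A) := by
      rw [← hφ, MonoidHom.mem_ker.1 hxK]
      rfl
    rw [QuotientGroup.eq] at h1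
    obtain ⟨k, hk⟩ := mem_zpowers_iff.1 (show ((MulAut.conjNormal x' (⟨a, ha⟩ : ↥W))⁻¹ * ⟨a, ha⟩ : ↥W).1 ∈
      zpowers uD from h1)
    have hk' : (x' * a * x'⁻¹)⁻¹ * a = uD ^ k := by
      rw [hk]; push_cast [MulAut.conjNormal_apply]; rfl
    set b := uD ^ k with hb
    have hbc : ∀ d : ↥(centralizer ({u} : Set G)), b * d = d * b := fun d => ((show Commute uD d from central_self u d).zpow_left k).eq
    have hxa : x' * a * x'⁻¹ = a * b⁻¹ := by
      rw [← hk', mul_inv_rev, inv_inv, ← mul_assoc, mul_inv_cancel, one_mul]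
    have hit : ∀ i : ℕ, x' ^ i * a * (x' ^ i)⁻¹ = a * b⁻¹ ^ i := by
      intro i
      induction i with
      | zero => simp
      | succ i ih =>
        calc x' ^ (i + 1) * a * (x' ^ (i + 1))⁻¹ = x' * (x' ^ i * a * (x' ^ i)⁻¹) * x'⁻¹ := by rw [pow_succ']; group
          _ = x' * a * (b⁻¹ ^ i * x'⁻¹) := by rw [ih]; group
          _ = x' * a * (x'⁻¹ * b⁻¹ ^ i) := by
            rw [(((show Commute b x'⁻¹ from hbc _).inv_left).pow_left i).eq]
          _ = (x' * a * x'⁻¹) * b⁻¹ ^ i := by group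
          _ = a * b⁻¹ ^ (i + 1) := by rw [hxa, pow_succ', mul_assoc]
    have h7 := hit 7
    rw [show x' ^ 7 = 1 by rw [← hxo, pow_orderOf_eq_one], one_mul, inv_one, mul_one, left_eq_mul, inv_pow,
      inv_eq_one] at h7
    have hb2 : b ^ 2 = 1 := by
      have h2 : uD ^ 2 = 1 := by
        rw [show (2 : ℕ) = orderOf uD by rw [Subgroup.orderOf_mk]; exact hu.symm, pow_orderOf_eq_one]
      rw [hb, ← zpow_natCast (uD ^ k), ← zpow_mul, mul_comm, zpow_mul, zpow_natCast, h2, one_zpow]
    rw [show (7 : ℕ) = 2 * 3 + 1 from rfl, pow_succ, pow_mul, hb2, one_pow, one_mul] at h7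
    refine mem_centralizer_singleton_iff.2 (mul_inv_eq_iff_eq_mul.1 ?_).symm
    rw [hxa, h7, inv_one, mul_one]
  rw [inf_eq_left.2 hcomm, hw] at hW2
  norm_num at hW2

end Cfsg.Lib.M24Nse
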