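import Cfsg.Agent.M24Nse.Defs
import Cfsg.Agent.Recognition.MathieuEleven.Basic

/-!
The centralisers and normalisers of the elements of orders five and seven.
-/

set_option autoImplicit false
set_option linter.unusedSectionVars false
set_option linter.style.haveILetI false
set_option maxRecDepth 100000

namespace Cfsg.Lib.M24Nse

open Subgroup Cfsg.Lib.SameOrder Cfsg.Lib.Small Cfsg.Lib.MathieuEleven

universe u

variable {G : Type u} [Group G] [Finite G]

local instance fact_two_mfb : Fact (Nat.Prime 2) := ⟨Nat.prime_two⟩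
local instance fact_three_mfb : Fact (Nat.Prime 3) := ⟨Nat.prime_three⟩
local instance fact_five_mfb : Fact (Nat.Prime 5) := ⟨Nat.prime_five⟩
local instance fact_seven_mfb : Fact (Nat.Prime 7) := ⟨by norm_num⟩

section General

theorem exists_idem {m n : ℕ} (hc : Nat.Coprime m n) :
    ∃ i j : ℕ, i ≡ 1 [MOD m] ∧ i ≡ 0 [MOD n] ∧ j ≡ 0 [MOD m] ∧ j ≡ 1 [MOD n] ∧ i + j ≡ 1 [MOD m * n] := by
  obtain ⟨i, h1, h2⟩ := Nat.chineseRemainder hc 1 0
  obtain ⟨j, h3, h4⟩ := Nat.chineseRemainder hc 0 1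
  refine ⟨i, j, h1, h2, h3, h4, (Nat.modEq_and_modEq_iff_modEq_mul hc).1 ⟨?_, ?_⟩⟩
  · simpa using h1.add h3
  · simpa using h2.add h4

theorem pow_eq_self_of_modEq {a : G} {o i : ℕ} (ha : orderOf a = o) (h : i ≡ 1 [MOD o]) : a ^ i = a := by
  conv_rhs => rw [← pow_one a]
  exact pow_eq_pow_iff_modEq.2 (ha ▸ h)

theorem pow_eq_one_of_modEq {a : G} {o i : ℕ} (ha : orderOf a = o) (h : i ≡ 0 [MOD o]) : a ^ i = 1 := by
  rw [← pow_zero a]
  exact pow_eq_pow_iff_modEq.2 (ha ▸ h)

/-- the number of elements of a given order commuting with a given element -/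
noncomputable def ncom (x : G) (n : ℕ) : ℕ := Nat.card {b : G // orderOf b = n ∧ b * x = x * b}

/-- Elements of order `m * n` against pairs of commuting elements of orders `m` and `n`. -/
theorem cnt_mul {m n : ℕ} (hm : 0 < m) (hn : 0 < n) (hc : Nat.Coprime m n) :
    cnt G (m * n) = Nat.card (Σ a : {a : G // orderOf a = m}, {b : G // orderOf b = n ∧ b * a.1 = a.1 * b}) := by
  obtain ⟨i, j, hi1, hi0, hj0, hj1, hij⟩ := exists_idem hc
  have key : ∀ g : G, orderOf g = m * n → orderOf (g ^ i) = m ∧ orderOf (g ^ j) = n ∧ g ^ i * g ^ j = g := by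
    intro g hg
    have h1 : orderOf (g ^ i) ∣ m := orderOf_dvd_of_pow_eq_one (by
      rw [← pow_mul]
      refine pow_eq_one_of_modEq hg (Nat.modEq_zero_iff_dvd.2 ?_)
      obtain ⟨q, rfl⟩ := Nat.modEq_zero_iff_dvd.1 hi0
      exact ⟨q, by ring⟩)
    have h2 : orderOf (g ^ j) ∣ n := orderOf_dvd_of_pow_eq_one (by
      rw [← pow_mul]
      refine pow_eq_one_of_modEq hg (Nat.modEq_zero_iff_dvd.2 ?_)
      obtain ⟨q, rfl⟩ := Nat.modEq_zero_iff_dvd.1 hj0
      exact ⟨q, by ring⟩)
    have h3 : g ^ i * g ^ j = g := by rw [← pow_add]; exact pow_eq_self_of_modEq hg hij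
    have h4 : m * n = orderOf (g ^ i) * orderOf (g ^ j) := by
      rw [← (Commute.pow_pow_self g i j).orderOf_mul_eq_mul_orderOf_of_coprime
        ((hc.coprime_dvd_left h1).coprime_dvd_right h2), h3, hg]
    have l1 := Nat.le_of_dvd hm h1
    have l2 := Nat.le_of_dvd hn h2
    refine ⟨le_antisymm l1 ?_, le_antisymm l2 ?_, h3⟩
    · by_contra hlt
      have := Nat.mul_lt_mul_of_lt_of_le (not_le.1 hlt) l2 hn
      omega
    · by_contra hlt
      have := Nat.mul_lt_mul_of_le_of_lt l1 (not_le.1 hlt) hm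
      omega
  refine Nat.card_congr
    { toFun := fun g => ⟨⟨g.1 ^ i, (key g.1 g.2).1⟩, ⟨g.1 ^ j, (key g.1 g.2).2.1, (Commute.pow_pow_self g.1 j i).eq⟩⟩
      invFun := fun p => ⟨p.1.1 * p.2.1, by
        rw [(show Commute p.1.1 p.2.1 from p.2.2.2.symm).orderOf_mul_eq_mul_orderOf_of_coprime
          (by rw [p.1.2, p.2.2.1]; exact hc), p.1.2, p.2.2.1]⟩
      left_inv := fun g => Subtype.ext (key g.1 g.2).2.2
      right_inv := ?_ }
  rintro ⟨⟨a, ha⟩, ⟨b, hb, hab⟩⟩
  have hcom : Commute a b := hab.symm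
  refine Sigma.subtype_ext (Subtype.ext ?_) ?_
  · show (a * b) ^ i = a
    rw [hcom.mul_pow, pow_eq_self_of_modEq ha hi1, pow_eq_one_of_modEq hb hi0, mul_one]
  · show (a * b) ^ j = b
    rw [hcom.mul_pow, pow_eq_one_of_modEq ha hj0, pow_eq_self_of_modEq hb hj1, one_mul]

theorem conj_comm {a x : G} (g : G) (h : a * x = x * a) :
    g * a * g⁻¹ * (g * x * g⁻¹) = g * x * g⁻¹ * (g * a * g⁻¹) := by
  calc g * a * g⁻¹ * (g * x * g⁻¹) = g * (a * x) * g⁻¹ := by group
    _ = g * (x * a) * g⁻¹ := by rw [h]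
    _ = _ := by group

theorem comm_conj_iff {a x g : G} :
    g * a * g⁻¹ * (g * x * g⁻¹) = g * x * g⁻¹ * (g * a * g⁻¹) ↔ a * x = x * a := by
  refine ⟨fun h => ?_, conj_comm g⟩
  simpa [mul_assoc] using conj_comm g⁻¹ h

variable {p : ℕ} [Fact p.Prime]

theorem exists_conj_zpowers (hS : ∀ P : Sylow p G, Nat.card ↥(P : Subgroup G) = p) {x y : G} (hx : orderOf x = p)
    (hy : orderOf y = p) : ∃ g : G, ∀ b : G, b * (g * x * g⁻¹) = g * x * g⁻¹ * b ↔ b * y = y * b := by
  obtain ⟨P, hP⟩ := M12Nse.exists_sylow_zpowers hS hx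
  obtain ⟨Q, hQ⟩ := M12Nse.exists_sylow_zpowers hS hy
  obtain ⟨g, hg⟩ := MulAction.exists_smul_eq G P Q
  have h1 : g * x * g⁻¹ ∈ zpowers y := by
    rw [← hQ, ← hg, Sylow.coe_subgroup_smul, hP]
    exact smul_mem_pointwise_smul _ (MulAut.conj g) _ (mem_zpowers _)
  have h2 : y ∈ zpowers (g * x * g⁻¹) := by
    rw [Subgroup.eq_of_le_of_card_ge (zpowers_le.2 h1) (by
      rw [Nat.card_zpowers, Nat.card_zpowers, hy, ← MulAut.conj_apply, MulEquiv.orderOf_eq, hx])]
    exact mem_zpowers _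
  refine ⟨g, fun b => ⟨fun h => ?_, fun h => ?_⟩⟩
  · obtain ⟨k, hk⟩ := mem_zpowers_iff.1 h2
    rw [← hk]
    exact ((show Commute b _ from h).zpow_right k).eq
  · obtain ⟨k, hk⟩ := mem_zpowers_iff.1 h1
    rw [← hk]
    exact ((show Commute b _ from h).zpow_right k).eq

/-- Elements of order `p * n` are shared evenly by the elements of order `p`. -/
theorem cnt_prime_mul (hS : ∀ P : Sylow p G, Nat.card ↥(P : Subgroup G) = p) {n : ℕ} (hn : 0 < n)
    (hc : Nat.Coprime p n) {x : G} (hx : orderOf x = p) : cnt G (p * n) = cnt G p * ncom x n := by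
  classical
  have := Fintype.ofFinite {a : G // orderOf a = p}
  rw [cnt_mul (Fact.out : p.Prime).pos hn hc, Nat.card_sigma,
    Finset.sum_congr rfl (g := fun _ => ncom x n) (fun a _ => ?_), Finset.sum_const, Finset.card_univ,
    smul_eq_mul, ← Nat.card_eq_fintype_card]
  · rfl
  obtain ⟨g, hg⟩ := exists_conj_zpowers hS hx a.2
  refine (Nat.card_congr ((MulAut.conj g).toEquiv.subtypeEquiv fun b => ?_)).symm
  simp only [MulEquiv.toEquiv_eq_coe, MulEquiv.coe_toEquiv, MulAut.conj_apply]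
  rw [show orderOf (g * b * g⁻¹) = orderOf b from MulEquiv.orderOf_eq (MulAut.conj g) b, ← hg, comm_conj_iff]

theorem card_centralizer_inf (x u : G) :
    Nat.card ↥(centralizer ({x} : Set G) ⊓ centralizer ({u} : Set G)) =
      Nat.card {a : G // a * x = x * a ∧ a * u = u * a} :=
  Nat.card_congr (Equiv.subtypeEquivRight fun a => by
    rw [Subgroup.mem_inf, mem_centralizer_singleton_iff, mem_centralizer_singleton_iff])

theorem orbit_mul {K : Subgroup G} {u : G} (huK : u ∈ K) :
    (Set.range fun g : ↥K => (g : G) * u * (g : G)⁻¹).ncard * Nat.card ↥(centralizer ({u} : Set G) ⊓ K) =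
      Nat.card ↥K := by
  classical
  let u' : ↥K := ⟨u, huK⟩
  have hcls : Nat.card {x : ↥K // IsConj u' x} = (Set.range fun g : ↥K => (g : G) * u * (g : G)⁻¹).ncard := by
    show Nat.card ↥{x : ↥K | IsConj u' x} = _
    rw [Nat.card_coe_set_eq, ← Set.ncard_image_of_injective _ Subtype.val_injective]
    congr 1
    ext a
    constructor
    · rintro ⟨b, hb, rfl⟩
      obtain ⟨g, rfl⟩ := isConj_iff.1 hb
      exact ⟨g, rfl⟩
    · rintro ⟨g, rfl⟩
      exact ⟨g * u' * g⁻¹, isConj_iff.2 ⟨g, rfl⟩, rfl⟩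
  have hcen : Nat.card ↥(centralizer ({u'} : Set ↥K)) = Nat.card ↥(centralizer ({u} : Set G) ⊓ K) :=
    Nat.card_congr
      { toFun := fun g => ⟨g.1.1, mem_inf.2 ⟨mem_centralizer_singleton_iff.2
          (congrArg Subtype.val (mem_centralizer_singleton_iff.1 g.2)), g.1.2⟩⟩
        invFun := fun g => ⟨⟨g.1, (mem_inf.1 g.2).2⟩, mem_centralizer_singleton_iff.2
          (Subtype.ext (mem_centralizer_singleton_iff.1 (mem_inf.1 g.2).1))⟩
        left_inv := fun _ => rfl
        right_inv := fun _ => rfl }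
  have hmul := M12Nse.card_isConj_mul u'
  rwa [hcls, hcen] at hmul

/-- Three conjugate involutions. -/
theorem three_conj {C : Subgroup G} (h3 : 3 ∣ Nat.card ↥C) {P : G → Prop}
    (hP : ∀ g ∈ C, ∀ a : G, P a → P (g * a * g⁻¹)) (hcard : Nat.card {a : G // P a} = 3) {u : G} (hu : P u)
    (huC : u ∈ C) (hn : ¬ 3 ∣ Nat.card ↥(centralizer ({u} : Set G) ⊓ C)) :
    3 * Nat.card ↥(centralizer ({u} : Set G) ⊓ C) = Nat.card ↥C ∧ ∀ a, P a → ∃ g ∈ C, g * u * g⁻¹ = a := by
  classical
  set T := Set.range fun g : ↥C => (g : G) * u * (g : G)⁻¹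
  have hsub : T ⊆ {a | P a} := by rintro _ ⟨g, rfl⟩; exact hP g g.2 u hu
  have hmul : T.ncard * Nat.card ↥(centralizer ({u} : Set G) ⊓ C) = Nat.card ↥C := orbit_mul huC
  have h3T : 3 ∣ T.ncard := ((Nat.Prime.dvd_mul Nat.prime_three).1 (hmul ▸ h3)).resolve_right hn
  have hT3 : ({a | P a} : Set G).ncard = 3 := by rw [← Nat.card_coe_set_eq]; exact hcard
  have hle : T.ncard ≤ 3 := hT3 ▸ Set.ncard_le_ncard hsub (Set.toFinite _)
  have hpos : 0 < T.ncard := (Set.ncard_pos (Set.toFinite _)).2 ⟨u, 1, by simp⟩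
  have hT : T.ncard = 3 := le_antisymm hle (Nat.le_of_dvd hpos h3T)
  have heq : T = {a | P a} := Set.eq_of_subset_of_ncard_le hsub (by omega) (Set.toFinite _)
  refine ⟨hT ▸ hmul, fun a ha => ?_⟩
  obtain ⟨g, hg⟩ : a ∈ T := heq.symm ▸ ha
  exact ⟨g, g.2, hg⟩

end General

variable (H : Counts G)
include H

theorem cnt_val {n v : ℕ} (h : expected n = v := by decide +kernel) : cnt G n = v := (H.cnt_eq n).trans h

theorem no_order {n : ℕ} (h : expected n = 0 := by decide +kernel) (g : G) : orderOf g ≠ n := fun hg =>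
  (cnt_ne_zero_iff n).2 ⟨g, hg⟩ ((H.cnt_eq n).trans h)

theorem order_expected (g : G) : expected (orderOf g) ≠ 0 := fun e =>
  (cnt_ne_zero_iff _).2 ⟨g, rfl⟩ ((H.cnt_eq _).trans e)

theorem exists_order {n : ℕ} (h : expected n ≠ 0 := by decide +kernel) : ∃ g : G, orderOf g = n :=
  (cnt_ne_zero_iff n).1 fun e => h ((H.cnt_eq n).symm.trans e)

theorem card_sylow_five (P : Sylow 5 G) : Nat.card ↥(P : Subgroup G) = 5 := by
  simpa using card_sylow_of_factor P (a := 1) (m := 48964608) (by rw [H.card]; norm_num) (by norm_num)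

theorem card_sylow_seven (P : Sylow 7 G) : Nat.card ↥(P : Subgroup G) = 7 := by
  simpa using card_sylow_of_factor P (a := 1) (m := 34974720) (by rw [H.card]; norm_num) (by norm_num)

theorem number_five : Nat.card (Sylow 5 G) = 1020096 := by
  have h := M12Nse.cnt_prime (p := 5) (card_sylow_five H)
  rw [cnt_val H (n := 5) (v := 4080384)] at h
  omega

theorem number_seven : Nat.card (Sylow 7 G) = 1943040 := by
  have h := M12Nse.cnt_prime (p := 7) (card_sylow_seven H)
  rw [cnt_val H (n := 7) (v := 11658240)] at h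
  omega

theorem card_normalizer_prime {p N n : ℕ} [Fact p.Prime] (hS : ∀ P : Sylow p G, Nat.card ↥(P : Subgroup G) = p)
    (hn : Nat.card (Sylow p G) = n) (hN : n * N = 244823040) {x : G} (hx : orderOf x = p) :
    Nat.card ↥(normalizer (zpowers x : Set G)) = N := by
  obtain ⟨P, hP⟩ := M12Nse.exists_sylow_zpowers hS hx
  have h := card_normalizer_mul P
  rw [H.card, hn, hP, ← hN, mul_comm] at h
  exact Nat.eq_of_mul_eq_mul_left (Nat.pos_of_ne_zero fun e => by rw [e, zero_mul] at hN; norm_num at hN) h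

theorem card_norm_five {y : G} (hy : orderOf y = 5) : Nat.card ↥(normalizer (zpowers y : Set G)) = 240 :=
  card_normalizer_prime H (card_sylow_five H) (number_five H) (by norm_num) hy

theorem card_norm_seven {x : G} (hx : orderOf x = 7) : Nat.card ↥(normalizer (zpowers x : Set G)) = 126 :=
  card_normalizer_prime H (card_sylow_seven H) (number_seven H) (by norm_num) hx

theorem ncom_seven {x : G} (hx : orderOf x = 7) : ncom x 2 = 3 ∧ ncom x 3 = 2 := by
  have h2 := cnt_prime_mul (card_sylow_seven H) (n := 2) (by norm_num) (by norm_num) hx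
  have h3 := cnt_prime_mul (card_sylow_seven H) (n := 3) (by norm_num) (by norm_num) hx
  rw [cnt_val H (n := 7 * 2) (v := 34974720), cnt_val H (n := 7) (v := 11658240)] at h2
  rw [cnt_val H (n := 7 * 3) (v := 23316480), cnt_val H (n := 7) (v := 11658240)] at h3
  omega

theorem ncom_five {y : G} (hy : orderOf y = 5) : ncom y 2 = 3 ∧ ncom y 3 = 8 := by
  have h2 := cnt_prime_mul (card_sylow_five H) (n := 2) (by norm_num) (by norm_num) hy
  have h3 := cnt_prime_mul (card_sylow_five H) (n := 3) (by norm_num) (by norm_num) hy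
  rw [cnt_val H (n := 5 * 2) (v := 12241152), cnt_val H (n := 5) (v := 4080384)] at h2
  rw [cnt_val H (n := 5 * 3) (v := 32643072), cnt_val H (n := 5) (v := 4080384)] at h3
  omega

/-- the order of an element times that of a commuting one -/
theorem order_comm {a x : G} (h : a * x = x * a) {m n : ℕ} (ha : orderOf a = m) (hx : orderOf x = n)
    (hc : Nat.Coprime m n) (he : expected (m * n) = 0 := by decide +kernel) : False :=
  no_order H he (a * x) (by
    rw [(show Commute a x from h).orderOf_mul_eq_mul_orderOf_of_coprime (by rw [ha, hx]; exact hc), ha, hx])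

theorem mem_cent_dvd {x : G} {k n : ℕ} (h : ncom x n = k) (hk : k ≠ 0) :
    n ∣ Nat.card ↥(centralizer ({x} : Set G)) := by
  obtain ⟨⟨a, ha, hc⟩⟩ : Nonempty {b : G // orderOf b = n ∧ b * x = x * b} := by
    have : Nat.card {b : G // orderOf b = n ∧ b * x = x * b} ≠ 0 := by rw [ncom] at h; omega
    exact (Nat.card_ne_zero.1 this).1
  exact ha ▸ M12Nse.dvd_centralizer_orderOf hc

theorem cent_le_norm (x : G) : centralizer ({x} : Set G) ≤ normalizer (zpowers x : Set G) :=
  fun c hc => MathieuEleven.mem_normalizer_zpowers (by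
    rw [mem_centralizer_singleton_iff.1 hc, mul_inv_cancel_right]; exact mem_zpowers x)

theorem card_cent_seven {x : G} (hx : orderOf x = 7) : Nat.card ↥(centralizer ({x} : Set G)) = 42 := by
  set C := centralizer ({x} : Set G)
  have hd : Nat.card ↥C ∣ 126 := card_norm_seven H hx ▸ card_dvd_of_le (cent_le_norm H x)
  have h7 : 7 ∣ Nat.card ↥C := hx ▸ M12Nse.dvd_centralizer_orderOf rfl
  have h2 := mem_cent_dvd H (ncom_seven H hx).1 (by norm_num)
  have h3 := mem_cent_dvd H (ncom_seven H hx).2 (by norm_num)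
  have hall : ∀ d ∈ Nat.divisors 126, 2 ∣ d → 3 ∣ d → 7 ∣ d → d = 42 ∨ d = 126 := by decide +kernel
  refine (hall _ (Nat.mem_divisors.2 ⟨hd, by norm_num⟩) h2 h3 h7).resolve_right fun h126 => ?_
  obtain ⟨Q⟩ : Nonempty (Sylow 3 ↥C) := inferInstance
  have hQ : Nat.card ↥(Q : Subgroup ↥C) = 9 := by
    simpa using card_sylow_of_factor Q (a := 2) (m := 14) (by rw [h126]; norm_num) (by norm_num)
  have hinj : Nat.card {q : ↥(Q : Subgroup ↥C) // q ≠ 1} ≤ ncom x 3 := by
    refine Nat.card_le_card_of_injective (fun q => ⟨((q.1 : ↥C) : G), ?_, mem_centralizer_singleton_iff.1 q.1.1.2⟩)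
      fun a b e => Subtype.ext (Subtype.ext (Subtype.ext (congrArg (fun t : {b : G // orderOf b = 3 ∧ b * x = x * b} => t.1) e)))
    rw [Subgroup.orderOf_coe, Subgroup.orderOf_coe]
    obtain ⟨k, hk, he⟩ := (Nat.dvd_prime_pow Nat.prime_three).1
      (show orderOf q.1 ∣ 3 ^ 2 by rw [show 3 ^ 2 = 9 from rfl, ← hQ]; exact orderOf_dvd_natCard q.1)
    interval_cases k
    · exact absurd (orderOf_eq_one_iff.1 (by simpa using he)) q.2
    · simpa using he
    · exact absurd (show orderOf ((q.1 : ↥C) : G) = 9 by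
        rw [Subgroup.orderOf_coe, Subgroup.orderOf_coe]; simpa using he) (no_order H (n := 9) (by decide +kernel) _)
  have hcard : Nat.card {q : ↥(Q : Subgroup ↥C) // q ≠ 1} = 8 := by
    show Nat.card ↥{q : ↥(Q : Subgroup ↥C) | q ≠ 1} = 8
    rw [Nat.card_coe_set_eq, show {q : ↥(Q : Subgroup ↥C) | q ≠ 1} = ({1} : Set ↥(Q : Subgroup ↥C))ᶜ from rfl,
      Set.ncard_compl, Set.ncard_singleton, hQ]
  have := (ncom_seven H hx).2
  omega

theorem five_orders {y c : G} (hy : orderOf y = 5) (hc : c * y = y * c) (h5 : ¬ 5 ∣ orderOf c) :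
    orderOf c ∈ [1, 2, 3] := by
  have hd : orderOf c ∣ 240 := ((M12Nse.dvd_centralizer_orderOf hc).trans
    (card_dvd_of_le (cent_le_norm H y))).trans (dvd_of_eq (card_norm_five H hy))
  have hall : ∀ d ∈ Nat.divisors 240, ¬ 5 ∣ d → expected (d * 5) ≠ 0 → d ∈ [1, 2, 3] := by decide +kernel
  refine hall _ (Nat.mem_divisors.2 ⟨hd, by norm_num⟩) h5 ?_
  have h := order_expected H (c * y)
  rwa [(show Commute c y from hc).orderOf_mul_eq_mul_orderOf_of_coprime
    (by rw [hy]; exact ((Nat.Prime.coprime_iff_not_dvd Nat.prime_five).2 h5).symm), hy] at h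

theorem card_cent_five {y : G} (hy : orderOf y = 5) : Nat.card ↥(centralizer ({y} : Set G)) = 60 := by
  classical
  set C := centralizer ({y} : Set G)
  have hd : Nat.card ↥C ∣ 240 := card_norm_five H hy ▸ card_dvd_of_le (cent_le_norm H y)
  have h5 : 5 ∣ Nat.card ↥C := hy ▸ M12Nse.dvd_centralizer_orderOf rfl
  have h2 := mem_cent_dvd H (ncom_five H hy).1 (by norm_num)
  have h3 := mem_cent_dvd H (ncom_five H hy).2 (by norm_num)
  obtain ⟨Q⟩ : Nonempty (Sylow 2 ↥C) := inferInstance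
  have hQ : Nat.card ↥(Q : Subgroup ↥C) ≤ 4 := by
    have hinj : Nat.card {q : ↥(Q : Subgroup ↥C) // q ≠ 1} ≤ ncom y 2 := by
      refine Nat.card_le_card_of_injective (fun q => ⟨((q.1 : ↥C) : G), ?_, mem_centralizer_singleton_iff.1 q.1.1.2⟩)
        fun a b e => Subtype.ext (Subtype.ext (Subtype.ext (congrArg (fun t : {b : G // orderOf b = 2 ∧ b * y = y * b} => t.1) e)))
      obtain ⟨k, hk⟩ := IsPGroup.iff_orderOf.1 Q.2 q.1
      have hm := five_orders H hy (c := ((q.1 : ↥C) : G)) (mem_centralizer_singleton_iff.1 q.1.1.2)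
        (by
          rw [Subgroup.orderOf_coe, Subgroup.orderOf_coe, hk]
          intro h
          have := (Nat.prime_dvd_prime_iff_eq Nat.prime_five Nat.prime_two).1 (Nat.prime_five.dvd_of_dvd_pow h)
          omega)
      simp only [List.mem_cons, List.not_mem_nil, or_false] at hm
      rcases hm with h | h | h
      · exact absurd (Subtype.ext (Subtype.ext (orderOf_eq_one_iff.1 h))) q.2
      · exact h
      · rw [Subgroup.orderOf_coe, Subgroup.orderOf_coe, hk] at h
        exfalso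
        rcases k with _ | k
        · simp at h
        · rw [pow_succ] at h; omega
    have hcard : Nat.card {q : ↥(Q : Subgroup ↥C) // q ≠ 1} = Nat.card ↥(Q : Subgroup ↥C) - 1 := by
      show Nat.card ↥{q : ↥(Q : Subgroup ↥C) | q ≠ 1} = _
      rw [Nat.card_coe_set_eq, show {q : ↥(Q : Subgroup ↥C) | q ≠ 1} = ({1} : Set ↥(Q : Subgroup ↥C))ᶜ from rfl,
        Set.ncard_compl, Set.ncard_singleton]
    rw [hcard, (ncom_five H hy).1] at hinj
    omega
  have h8 : ¬ 8 ∣ Nat.card ↥C := fun h => by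
    have := Nat.le_of_dvd Nat.card_pos (Q.pow_dvd_card_of_pow_dvd_card (n := 3) h)
    omega
  have hall : ∀ d ∈ Nat.divisors 240, 2 ∣ d → 3 ∣ d → 5 ∣ d → ¬ 8 ∣ d → d = 30 ∨ d = 60 := by decide +kernel
  refine (hall _ (Nat.mem_divisors.2 ⟨hd, by norm_num⟩) h2 h3 h5 h8).resolve_left fun h30 => ?_
  have hS : ∀ P : Sylow 3 ↥C, Nat.card ↥(P : Subgroup ↥C) = 3 := fun P => by
    simpa using card_sylow_of_factor P (a := 1) (m := 10) (by rw [h30]; norm_num) (by norm_num)
  have hc := M12Nse.cnt_prime hS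
  have he : cnt ↥C 3 = ncom y 3 := Nat.card_congr
    { toFun := fun g => ⟨g.1, by rw [Subgroup.orderOf_coe]; exact g.2, mem_centralizer_singleton_iff.1 g.1.2⟩
      invFun := fun g => ⟨⟨g.1, mem_centralizer_singleton_iff.2 g.2.2⟩, by rw [← Subgroup.orderOf_coe]; exact g.2.1⟩
      left_inv := fun _ => rfl
      right_inv := fun _ => rfl }
  rw [he, (ncom_five H hy).2] at hc
  obtain ⟨P⟩ : Nonempty (Sylow 3 ↥C) := inferInstance
  have hdi := P.card_dvd_index
  have hix := (P : Subgroup ↥C).index_mul_card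
  rw [hS, h30] at hix
  rw [show (P : Subgroup ↥C).index = 10 by omega, show Nat.card (Sylow 3 ↥C) = 4 by omega] at hdi
  norm_num at hdi

/-- the involutions commuting with an element of order five or seven -/
theorem triple {p : ℕ} {x : G} (hx : orderOf x = p) (h2 : ncom x 2 = 3)
    (h3 : 3 ∣ Nat.card ↥(centralizer ({x} : Set G))) (hc : Nat.Coprime (3 * 2) p)
    (he : expected (3 * 2 * p) = 0) {u : G} (hu : orderOf u = 2) (hux : u * x = x * u) :
    (3 * Nat.card ↥(centralizer ({u} : Set G) ⊓ centralizer ({x} : Set G)) =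
        Nat.card ↥(centralizer ({x} : Set G)) ∧
      3 * Nat.card ↥(centralizer ({u} : Set G) ⊓ normalizer (zpowers x : Set G)) =
        Nat.card ↥(normalizer (zpowers x : Set G))) ∧
      ∀ a : G, orderOf a = 2 → a * x = x * a → IsConj u a := by
  set C := centralizer ({x} : Set G)
  set N := normalizer (zpowers x : Set G)
  have huC : u ∈ C := mem_centralizer_singleton_iff.2 hux
  have hnot : ∀ D : Subgroup G, (∀ t ∈ D, orderOf t = 3 → t * x = x * t) →
      ¬ 3 ∣ Nat.card ↥(centralizer ({u} : Set G) ⊓ D) := fun D hD hd => by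
    obtain ⟨⟨t, ht⟩, hto⟩ := exists_prime_orderOf_dvd_card' 3 hd
    rw [Subgroup.orderOf_mk] at hto
    have htu : t * u = u * t := mem_centralizer_singleton_iff.1 (mem_inf.1 ht).1
    have h6 : orderOf (t * u) = 3 * 2 := by
      rw [(show Commute t u from htu).orderOf_mul_eq_mul_orderOf_of_coprime (by rw [hto, hu]; norm_num), hto, hu]
    exact order_comm H ((show Commute t x from hD t (mem_inf.1 ht).2 hto).mul_left
      (show Commute u x from hux)).eq h6 hx hc he
  have hPC : ∀ g ∈ N, ∀ a : G, (orderOf a = 2 ∧ a * x = x * a) →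
      (orderOf (g * a * g⁻¹) = 2 ∧ g * a * g⁻¹ * x = x * (g * a * g⁻¹)) := by
    rintro g hg a ⟨ha, hax⟩
    refine ⟨(MulEquiv.orderOf_eq (MulAut.conj g) a).trans ha, ?_⟩
    have hgx : g⁻¹ * x * g ∈ zpowers x := by
      have := (Subgroup.mem_normalizer_iff.1 (inv_mem hg) x).1 (mem_zpowers x)
      simpa using this
    obtain ⟨k, hk⟩ := mem_zpowers_iff.1 hgx
    have hcom : a * (g⁻¹ * x * g) = g⁻¹ * x * g * a := hk ▸ ((show Commute a x from hax).zpow_right k).eq
    have := conj_comm g hcom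
    rwa [show g * (g⁻¹ * x * g) * g⁻¹ = x by group] at this
  obtain ⟨e1, hconj⟩ := three_conj (C := C) (P := fun a => orderOf a = 2 ∧ a * x = x * a) h3
    (fun g hg => hPC g (cent_le_norm H x hg)) h2 ⟨hu, hux⟩ huC
    (hnot C fun t ht _ => mem_centralizer_singleton_iff.1 ht)
  refine ⟨⟨e1, ?_⟩, fun a ha hax => isConj_iff.2 ?_⟩
  · have hle : centralizer ({u} : Set G) ⊓ C ≤ centralizer ({u} : Set G) ⊓ N := inf_le_inf_left _ (cent_le_norm H x)
    -- the orbit under the normalizer is the same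
    classical
    set T := Set.range fun g : ↥N => (g : G) * u * (g : G)⁻¹
    have hT : T = {a | orderOf a = 2 ∧ a * x = x * a} := by
      refine Set.Subset.antisymm (by rintro _ ⟨g, rfl⟩; exact hPC g g.2 u ⟨hu, hux⟩) fun a ha => ?_
      obtain ⟨g, hg, e⟩ := hconj a ha
      exact ⟨⟨g, cent_le_norm H x hg⟩, e⟩
    have hT3 : T.ncard = 3 := by
      rw [hT, ← Nat.card_coe_set_eq]
      exact h2
    have hmul : T.ncard * Nat.card ↥(centralizer ({u} : Set G) ⊓ N) = Nat.card ↥N :=
      orbit_mul (cent_le_norm H x huC)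
    rwa [hT3] at hmul
  · obtain ⟨g, -, e⟩ := hconj a ⟨ha, hax⟩
    exact ⟨g, e⟩

theorem seven_u {x u : G} (hx : orderOf x = 7) (hu : orderOf u = 2) (hux : u * x = x * u) :
    Nat.card ↥(centralizer ({u} : Set G) ⊓ centralizer ({x} : Set G)) = 14 ∧
      Nat.card ↥(centralizer ({u} : Set G) ⊓ normalizer (zpowers x : Set G)) = 42 := by
  obtain ⟨⟨h1, h2⟩, -⟩ := triple H hx (ncom_seven H hx).1 (by rw [card_cent_seven H hx]; norm_num) (by norm_num)
    (by decide +kernel) hu hux
  rw [card_cent_seven H hx] at h1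
  rw [card_norm_seven H hx] at h2
  omega

theorem five_v {y v : G} (hy : orderOf y = 5) (hv : orderOf v = 2) (hvy : v * y = y * v) :
    Nat.card ↥(centralizer ({v} : Set G) ⊓ centralizer ({y} : Set G)) = 20 ∧
      Nat.card ↥(centralizer ({v} : Set G) ⊓ normalizer (zpowers y : Set G)) = 80 := by
  obtain ⟨⟨h1, h2⟩, -⟩ := triple H hy (ncom_five H hy).1 (by rw [card_cent_five H hy]; norm_num) (by norm_num)
    (by decide +kernel) hv hvy
  rw [card_cent_five H hy] at h1
  rw [card_norm_five H hy] at h2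
  omega

theorem exists_pair {n : ℕ} (hn : ∀ x : G, orderOf x = n → ncom x 2 = 3) (he : expected n ≠ 0) :
    ∃ x u : G, orderOf x = n ∧ orderOf u = 2 ∧ u * x = x * u := by
  obtain ⟨x, hx⟩ := exists_order H he
  obtain ⟨⟨u, hu, hux⟩⟩ : Nonempty {b : G // orderOf b = 2 ∧ b * x = x * b} := by
    have := hn x hx
    refine (Nat.card_ne_zero.1 ?_).1
    rw [ncom] at this
    omega
  exact ⟨x, u, hx, hu, hux⟩

/-- the involutions commuting with elements of order seven form one class -/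
theorem seven_conj {x x' u u' : G} (hx : orderOf x = 7) (hx' : orderOf x' = 7) (hu : orderOf u = 2)
    (hux : u * x = x * u) (hu' : orderOf u' = 2) (hux' : u' * x' = x' * u') : IsConj u u' := by
  obtain ⟨g, hg⟩ := exists_conj_zpowers (card_sylow_seven H) hx hx'
  refine (isConj_iff.2 ⟨g, rfl⟩ : IsConj u (g * u * g⁻¹)).trans ?_
  exact (triple H hx' (ncom_seven H hx').1 (by rw [card_cent_seven H hx']; norm_num) (by norm_num)
    (by decide +kernel) ((MulEquiv.orderOf_eq (MulAut.conj g) u).trans hu) ((hg _).1 (conj_comm g hux))).2 u' hu' hux'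

/-- the involutions commuting with elements of order five form one class -/
theorem five_conj {y y' v v' : G} (hy : orderOf y = 5) (hy' : orderOf y' = 5) (hv : orderOf v = 2)
    (hvy : v * y = y * v) (hv' : orderOf v' = 2) (hvy' : v' * y' = y' * v') : IsConj v v' := by
  obtain ⟨g, hg⟩ := exists_conj_zpowers (card_sylow_five H) hy hy'
  refine (isConj_iff.2 ⟨g, rfl⟩ : IsConj v (g * v * g⁻¹)).trans ?_
  exact (triple H hy' (ncom_five H hy').1 (by rw [card_cent_five H hy']; norm_num) (by norm_num)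
    (by decide +kernel) ((MulEquiv.orderOf_eq (MulAut.conj g) v).trans hv) ((hg _).1 (conj_comm g hvy))).2 v' hv' hvy'

end Cfsg.Lib.M24Nse
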