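import Cfsg.Agent.Blocks.DegreeEquation.Check
import Cfsg.Agent.Counting.Frobenius

/-!
A degree twenty-seven in the principal block of a simple group with a self-centralising element of order seven,
and the involutions centralising a Sylow 3-subgroup.
-/

set_option autoImplicit false
set_option linter.unusedSectionVars false
set_option maxRecDepth 100000

namespace Cfsg.Lib.M24Nse

open Cfsg.Lib.Chars Cfsg.Lib.Blocks Cfsg.Lib.Blocks.SmallOrder Cfsg.Lib.Blocks.SylowCount Cfsg.Lib.Blocks.DegreeEquation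
open scoped _root_.Classical

universe u

section

variable {G : Type u} [Group G] [Fintype G] {p : ℕ} [Fact p.Prime] {M : Ideal AlgInt}
  {C : Cyc G p} {ν : (ZMod p)ˣ → IrrCharacter G} {δ : ℤ}

/-- The degree equation, with the characters behind its terms. -/
theorem degree_equation_chars [IsSimpleGroup G] (hC : Core C) (hM : IsPModular p M)
    (hD : C.OrbitData C.oneV ν δ) :
    ∃ (a : ℤ) (l : List ℤ), l.length + 1 = eC C ∧ 1 + l.sum = a ∧
      (IsTerm p (idx C * eC C) (Nat.card G) (eC C : ℤ) a ∧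
        Allowed p (Nat.card G) (Nat.card C.V) a.natAbs) ∧
      ∀ z ∈ l, (IsTerm p (idx C * eC C) (Nat.card G) 1 z ∧
        Allowed p (Nat.card G) (Nat.card C.V) z.natAbs) ∧
        ∃ χ : IrrCharacter G, χ ≠ oneG G ∧ deg (χ : G → ℂ) = z.natAbs := by
  have hp := hC.three_le
  have habs : ∀ {χ : IrrCharacter G}, χ ∈ ordSet C ν →
      (C.bI χ C.oneV 1 * (deg (χ : G → ℂ) : ℤ)).natAbs = deg (χ : G → ℂ) := fun {χ} hχ => by
    rcases hD.sign_diff (χ := χ) (mem_ordSet.1 hχ) with e | e <;> simp [e]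
  have hrel := relation hD
  have hcard := card_ordSet hD
  by_cases hr : oneG G ∈ Set.range ν
  · obtain ⟨u, hu⟩ := hr
    have hx0 : deg (ν 1 : G → ℂ) = 1 := by rw [← deg_exc hD u, hu, deg_oneG]
    have hne : ∀ χ ∈ ordSet C ν, χ ≠ oneG G := fun χ hχ e =>
      (mem_ordSet.1 hχ).2 ⟨u, by rw [hu, e]⟩
    have hcong := congr_exc hM hD
    have he2 := hC.two_le_eC
    have hep : eC C + 1 ≤ p := by
      have := (Fact.out : p.Prime).two_le
      have := Nat.le_of_dvd (by omega) (eC_dvd C)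
      omega
    rw [hx0, Nat.cast_one] at hcong hrel
    have hδ : δ = -1 ∧ eC C + 1 = p := by
      rcases hD.sign with e | e <;> rw [e] at hcong
      · rw [one_mul] at hcong
        have h1 : (p : ℤ) ∣ (eC C : ℤ) - 1 := by rwa [dvd_sub_comm]
        have := Int.le_of_dvd (by omega) h1
        omega
      · rw [neg_one_mul, sub_neg_eq_add] at hcong
        have := Int.le_of_dvd (by omega) hcong
        exact ⟨e, by omega⟩
    obtain ⟨χ₁, hχ₁⟩ := Finset.card_pos.1 (show 0 < (ordSet C ν).card by omega)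
    rw [← Finset.add_sum_erase _ _ hχ₁, hδ.1] at hrel
    refine ⟨-(C.bI χ₁ C.oneV 1 * (deg (χ₁ : G → ℂ) : ℤ)),
      ((ordSet C ν).erase χ₁).toList.map fun χ => C.bI χ C.oneV 1 * (deg (χ : G → ℂ) : ℤ),
      ?_, ?_, ?_, ?_⟩
    · rw [List.length_map, Finset.length_toList, Finset.card_erase_of_mem hχ₁]
      omega
    · rw [Finset.sum_map_toList]
      omega
    · refine ⟨?_, by
        rw [Int.natAbs_neg, habs hχ₁]
        exact allowed_of_lies hC hM hp (mem_ordSet.1 hχ₁).1 (hne _ hχ₁)⟩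
      obtain ⟨h1, h2, h3, h4, h5⟩ := isTerm_ord hC hM hD hχ₁ (hne _ hχ₁)
      refine ⟨by rwa [Int.natAbs_neg], by rwa [Int.natAbs_neg], by rwa [Int.natAbs_neg],
        by rwa [Int.natAbs_neg], ?_⟩
      rw [show -(C.bI χ₁ C.oneV 1 * (deg (χ₁ : G → ℂ) : ℤ)) - (eC C : ℤ) =
        -(C.bI χ₁ C.oneV 1 * (deg (χ₁ : G → ℂ) : ℤ) - 1) - (p : ℤ) by
          have : (eC C : ℤ) + 1 = p := by exact_mod_cast hδ.2
          omega]
      exact dvd_sub h5.neg_right dvd_rfl
    · intro z hz
      obtain ⟨χ, hχ, rfl⟩ := List.mem_map.1 hz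
      have hχ' := Finset.mem_of_mem_erase (Finset.mem_toList.1 hχ)
      refine ⟨⟨isTerm_ord hC hM hD hχ' (hne _ hχ'), ?_⟩, χ, hne _ hχ', (habs hχ').symm⟩
      rw [habs hχ']
      exact allowed_of_lies hC hM hp (mem_ordSet.1 hχ').1 (hne _ hχ')
  · have hm : oneG G ∈ ordSet C ν := mem_ordSet.2 ⟨lies_oneG, hr⟩
    rw [← Finset.add_sum_erase _ _ hm, bI_oneG' hM hD hr, deg_oneG] at hrel
    push_cast at hrel
    refine ⟨δ * (deg (ν 1 : G → ℂ) : ℤ),
      ((ordSet C ν).erase (oneG G)).toList.map fun χ => C.bI χ C.oneV 1 * (deg (χ : G → ℂ) : ℤ),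
      ?_, ?_, ⟨isTerm_exc hC hM hD hr, ?_⟩, ?_⟩
    · rw [List.length_map, Finset.length_toList, Finset.card_erase_of_mem hm]
      have := hC.two_le_eC
      omega
    · rw [Finset.sum_map_toList]
      omega
    · rw [show (δ * (deg (ν 1 : G → ℂ) : ℤ)).natAbs = deg (ν 1 : G → ℂ) by
        rcases hD.sign with e | e <;> simp [e]]
      exact allowed_of_lies hC hM hp (lies_exc hD 1) fun e => hr ⟨1, e⟩
    · intro z hz
      obtain ⟨χ, hχ, rfl⟩ := List.mem_map.1 hz
      have hχ' := Finset.mem_of_mem_erase (Finset.mem_toList.1 hχ)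
      have hχ'' := Finset.ne_of_mem_erase (Finset.mem_toList.1 hχ)
      refine ⟨⟨isTerm_ord hC hM hD hχ' hχ'', ?_⟩, χ, hχ'', (habs hχ').symm⟩
      rw [habs hχ']
      exact allowed_of_lies hC hM hp (mem_ordSet.1 hχ').1 hχ''

end

variable {G : Type u} [Group G] [Finite G] [IsSimpleGroup G]

/-- every solution of the degree equation uses the degree twenty-seven -/
def has27 (M S N : ℕ) : Bool :=
  let A := terms 7 (N * 3) (7 * M) 1 S 3
  let L := terms 7 (N * 3) (7 * M) 1 S 1
  L.all fun a => L.all fun b => !A.contains (1 + a + b) || a.natAbs == 27 || b.natAbs == 27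

theorem has27_ok : has27 6912 220 2304 = true ∧ has27 864 78 288 = true := by decide +kernel

/-- An involution of such a group cannot centralise a subgroup of order twenty-seven. -/
theorem no_involution_twenty_seven (hG : ¬ IsCyclic G) {M S N : ℕ} (hcard : Nat.card G = 7 * M) (h7 : ¬ 7 ∣ M)
    (hS : 7 * M ≤ S * S) (hN : Nat.card (Sylow 7 G) = N) (hMN : M = 3 * N) (hcheck : has27 M S N = true)
    {s : G} (hs : orderOf s = 2) (h27 : 27 ∣ Nat.card (Subgroup.centralizer ({s} : Set G)))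
    (hG27 : ¬ 81 ∣ Nat.card G) : False := by
  classical
  have : Fact (Nat.Prime 7) := ⟨by norm_num⟩
  have := Fintype.ofFinite G
  have hpr : Nat.Prime 7 := Fact.out
  have hperf := BrauerTuan.perfect_of_simple hG
  have hdiv : 7 ∣ Nat.card G := ⟨M, hcard⟩
  have hsq : ¬ 7 ^ 2 ∣ Nat.card G := fun hd => by
    rw [hcard, pow_two] at hd
    exact h7 (Nat.dvd_of_mul_dvd_mul_left hpr.pos hd)
  obtain ⟨P⟩ : Nonempty (Sylow 7 G) := inferInstance
  obtain ⟨C, hC⟩ := exists_cyc hdiv hsq P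
  have hcore : Core C := ⟨hperf, ⟨P, hC⟩, fun N hN hne => by
    rw [hN.eq_bot_or_eq_top.resolve_left hne]
    exact Subgroup.mem_top _⟩
  obtain ⟨Mi, hM⟩ := exists_isPModular hpr
  obtain ⟨ν, δ, hD⟩ := C.exists_orbitData hM C.oneV
  have hidx : idx C = N := by
    rw [← hN, idx, hC]
    exact P.card_eq_index_normalizer.symm
  have hev : eC C * Nat.card C.V = 3 := by
    have h := card_eq C
    rw [hcard, hidx, hMN] at h
    have hN0 : 0 < N := hN ▸ Nat.card_pos
    refine Nat.eq_of_mul_eq_mul_left (show 0 < 7 * N by omega) ?_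
    linear_combination -h
  have he2 := hcore.two_le_eC
  have he : eC C = 3 := by
    have hd : eC C ∣ 3 := ⟨_, hev.symm⟩
    rcases (Nat.dvd_prime Nat.prime_three).1 hd with e | e
    · omega
    · exact e
  have hV : Nat.card C.V = 1 := by rw [he] at hev; omega
  obtain ⟨a, l, hlen, hsum, ha, hl⟩ := degree_equation_chars hcore hM hD
  rw [hcard, hidx, he, hV] at ha hl
  rw [he] at hlen
  obtain ⟨z1, z2, rfl⟩ : ∃ z1 z2, l = [z1, z2] := by
    match l, hlen with
    | [z1, z2], _ => exact ⟨z1, z2, rfl⟩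
  have h1 := hl z1 (by simp)
  have h2 := hl z2 (by simp)
  simp only [has27, List.all_eq_true, Bool.or_eq_true, Bool.not_eq_true', beq_iff_eq] at hcheck
  have hz := hcheck z1 (mem_terms hS h1.1.1 h1.1.2) z2 (mem_terms hS h2.1.1 h2.1.2)
  rw [show 1 + z1 + z2 = a by rw [← hsum]; simp; ring,
    List.contains_iff_mem.2 (mem_terms hS (by exact_mod_cast ha.1) ha.2)] at hz
  simp only [Bool.true_eq_false, false_or] at hz
  obtain ⟨χ, hne, hdeg⟩ : ∃ χ : Cfsg.IrrCharacter G, χ ≠ oneG G ∧ deg (χ : G → ℂ) = 27 := by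
    rcases hz with e | e
    · obtain ⟨χ, h, h'⟩ := h1.2
      exact ⟨χ, h, h'.trans e⟩
    · obtain ⟨χ, h, h'⟩ := h2.2
      exact ⟨χ, h, h'.trans e⟩
  have hss : s * s = 1 := by rw [← pow_two, ← hs, pow_orderOf_eq_one]
  obtain ⟨r, hr, h4, hle⟩ := value_involution hcore χ hss
  obtain ⟨w, m, hm, hKm, -⟩ := BrauerTuan.exists_int_central χ hss
  have hrm : m = r := by exact_mod_cast hm.symm.trans hr
  subst hrm
  rw [hdeg] at h4 hle hKm
  have hK : ¬ 3 ∣ Nat.card {x : G // IsConj s x} := fun h3 => by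
    have h := Nat.mul_dvd_mul h3 h27
    have hcls : Nat.card {x : G // IsConj s x} * Nat.card (Subgroup.centralizer ({s} : Set G)) = Nat.card G := by
      rw [← Cfsg.Lib.Counting.card_carrier_mul_centralizer s]
      congr 1
    rw [hcls] at h
    exact hG27 h
  have h27r : (27 : ℤ) ∣ m := by
    have hcop : IsCoprime (27 : ℤ) (Nat.card {x : G // IsConj s x} : ℤ) := by
      rw [Int.isCoprime_iff_gcd_eq_one]
      show Nat.gcd 27 (Nat.card {x : G // IsConj s x}) = 1
      exact Nat.Coprime.pow_left 3 ((Nat.Prime.coprime_iff_not_dvd Nat.prime_three).2 hK)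
    exact hcop.dvd_of_dvd_mul_left ⟨w, by rw [hKm]; rfl⟩
  obtain ⟨q, rfl⟩ := h27r
  have hq : q = 1 := by
    obtain ⟨c, hc⟩ := h4
    have : (27 * q).natAbs ≤ 27 := hle
    omega
  subst hq
  have h1 : s = 1 := faithful_of_ne_one hcore hne s (by
    rw [hr, irr_apply_one_eq_deg, hdeg]; norm_num)
  rw [h1, orderOf_one] at hs
  norm_num at hs

end Cfsg.Lib.M24Nse
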