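import Cfsg.Agent.M24Nse.Table11520
import Cfsg.Agent.M24Nse.Degree
import Cfsg.Agent.Chars.DefectZero
import Cfsg.Agent.M12Nse.Facts

/-!
The elements of order three in a hypothetical simple group of order 11520.
-/

set_option autoImplicit false
set_option linter.unusedSectionVars false
set_option maxHeartbeats 1000000

namespace Cfsg.Lib.M24Nse.Order11520

open Cfsg.Lib.Chars Cfsg.Lib.Blocks Cfsg.Lib.Blocks.SmallOrder Cfsg.Lib.Blocks.SylowCount Cfsg.Lib.Blocks.DegreeEquation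
open scoped ComplexConjugate _root_.Classical

universe u

section

variable {G : Type u} [Group G] [Fintype G] [IsSimpleGroup G] [Fact (Nat.Prime 5)] {M : Ideal AlgInt}
  {C : Cyc G 5} {ν : (ZMod 5)ˣ → IrrCharacter G} {δ : ℤ}

theorem centralizer_y (hV : Nat.card C.V = 1) {g : G} (hg : g * C.y = C.y * g) : ∃ i, g = C.yP i := by
  obtain ⟨i, v, e⟩ := C.exists_el (Subgroup.mem_centralizer_singleton_iff.2 hg)
  refine ⟨i, ?_⟩
  rw [← e, (Nat.card_eq_one_iff_unique.1 hV).1.elim v 1, C.el_one_right]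

theorem inverts {a b : G} (ha : a * a = 1) (hb : b * b = 1) (h : a * b = C.y) :
    a * C.y * a⁻¹ = C.y⁻¹ ∧ b * C.y * b⁻¹ = C.y⁻¹ := by
  have ha' : a⁻¹ = a := inv_eq_of_mul_eq_one_left ha
  have hb' : b⁻¹ = b := inv_eq_of_mul_eq_one_left hb
  rw [← h, mul_inv_rev, ha', hb']
  constructor
  · rw [← mul_assoc, ha, one_mul]
  · rw [mul_assoc, mul_assoc a, hb, mul_one]

/-- The involutions inverting `y` form part of one class. -/
theorem exists_inverter (hC : Core C) (hV : Nat.card C.V = 1) (he : 2 ∣ eC C) :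
    ∃ s : G, s * s = 1 ∧ s ≠ 1 ∧
      Nat.card {w : G × G // IsConj s w.1 ∧ IsConj s w.2 ∧ w.1 * w.2 = C.y} = 5 ∧
      ∀ a : G, a * a = 1 → a * C.y * a⁻¹ = C.y⁻¹ → IsConj s a := by
  obtain ⟨s, hss, hs1, hT⟩ := exists_involution hC hV he
  obtain ⟨⟨a, b⟩, ha, hb, hab⟩ : Nonempty {w : G × G // IsConj s w.1 ∧ IsConj s w.2 ∧ w.1 * w.2 = C.y} :=
    (Nat.card_pos_iff.1 (by rw [hT]; norm_num)).1
  refine ⟨s, hss, hs1, hT, fun c hc hinv => ha.trans ?_⟩
  have hsq : ∀ {x : G}, IsConj s x → x * x = 1 := fun {x} hx => by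
    obtain ⟨k, rfl⟩ := isConj_iff.1 hx
    rw [show k * s * k⁻¹ * (k * s * k⁻¹) = k * (s * s) * k⁻¹ by group, hss]
    group
  have hia := (inverts (C := C) (hsq ha) (hsq hb) hab).1
  have ha' : a⁻¹ = a := inv_eq_of_mul_eq_one_left (hsq ha)
  obtain ⟨i, hi⟩ := centralizer_y hV (g := c * a) (by
    refine mul_inv_eq_iff_eq_mul.1 ?_
    rw [show c * a * C.y * (c * a)⁻¹ = c * (a * C.y * a⁻¹) * c⁻¹ by group, hia,
      show c * C.y⁻¹ * c⁻¹ = (c * C.y * c⁻¹)⁻¹ by group, hinv, inv_inv])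
  have hc' : c = C.yP i * a := by rw [← hi, mul_assoc, hsq ha, mul_one]
  refine isConj_iff.2 ⟨C.yP (3 * i), ?_⟩
  have hconj : a * C.yP (3 * i) * a⁻¹ = (C.yP (3 * i))⁻¹ := by
    rw [Cyc.yP, ← conj_pow, hia, inv_pow]
  rw [hc', ← C.yP_neg, mul_assoc, show a * C.yP (-(3 * i)) = C.yP (3 * i) * a by
    rw [C.yP_neg, ← hconj, ha']
    rw [show a * (a * C.yP (3 * i) * a) = (a * a) * C.yP (3 * i) * a by group, hsq ha, one_mul],
    ← mul_assoc, ← C.yP_add]
  congr 2
  rw [← add_mul, show (3 : ZMod 5) + 3 = 1 from rfl, one_mul]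

/-- the five characters of the principal block with their values at `y` -/
structure Block (C : Cyc G 5) (S : Finset (IrrCharacter G)) (ε : IrrCharacter G → ℤ) : Prop where
  one_mem : oneG G ∈ S
  card : S.card = 5
  one : ε (oneG G) = 1
  val : ∀ χ ∈ S, (χ : G → ℂ) C.y = (ε χ : ℂ) ∧ (ε χ = 1 ∨ ε χ = -1)
  zero : ∀ χ ∉ S, (χ : G → ℂ) C.y = 0
  deg : ∀ χ ∈ S, χ ≠ oneG G → deg (χ : G → ℂ) ∣ idx C * eC C ∧ 2 ≤ deg (χ : G → ℂ) ∧
    deg (χ : G → ℂ) * deg (χ : G → ℂ) < Nat.card G ∧ (5 : ℤ) ∣ (deg (χ : G → ℂ) : ℤ) - ε χ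

theorem exists_block (hC : Core C) (hM : IsPModular 5 M) (hD : C.OrbitData C.oneV ν δ)
    (hV : Nat.card C.V = 1) (he : eC C = 4) : ∃ S ε, Block C S ε := by
  obtain ⟨P, hP⟩ := hC.sylow
  have hv : ∀ v : C.V, v = 1 := fun v => (Nat.card_eq_one_iff_unique.1 hV).1.elim v 1
  have hone : ∀ θ : IrrCharacter C.V, θ = C.oneV := fun θ => by
    refine Subtype.ext (funext fun v => ?_)
    rw [hv v, irr_deg_one_of_comm (fun a b => by rw [hv a, hv b]) θ.2]
    rfl
  have him : Finset.univ.image ν = {ν 1} := by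
    refine (Finset.eq_of_subset_of_card_le (Finset.singleton_subset_iff.2
      (Finset.mem_image_of_mem _ (Finset.mem_univ _))) ?_).symm
    have h1 := index_eq (C := C)
    have h2 := card_image hD
    rw [he] at h1
    rw [Finset.card_singleton]
    omega
  have hexc : ∀ u, ν u = ν 1 := fun u =>
    Finset.mem_singleton.1 (him ▸ Finset.mem_image_of_mem ν (Finset.mem_univ u))
  have hny : (ν 1 : G → ℂ) C.y = -(δ : ℂ) := by
    have h := sum_exc hM hD (i := (1 : ZMod 5)) one_ne_zero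
    rwa [him, Finset.sum_singleton, C.yP_one] at h
  have hy : ∀ η ∈ ordSet C ν, (η : G → ℂ) C.y = (C.bI η C.oneV 1 : ℂ) := fun η hη => by
    rw [← C.yP_one]
    exact apply_yP_ord hM hD (mem_ordSet.1 hη).2 (mem_ordSet.1 hη).1 one_ne_zero
  have hnot : ν 1 ∉ ordSet C ν := fun h => (mem_ordSet.1 h).2 ⟨1, rfl⟩
  set ε : IrrCharacter G → ℤ := fun χ => if χ = ν 1 then -δ else C.bI χ C.oneV 1 with hε
  have hεo : ∀ η ∈ ordSet C ν, ε η = C.bI η C.oneV 1 := fun η hη => by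
    simp only [hε]
    rw [if_neg fun e : η = ν 1 => hnot (e ▸ hη)]
  have hεe : ε (ν 1) = -δ := by simp only [hε]; rw [if_pos trivial]
  have hone_mem : oneG G ∈ insert (ν 1) (ordSet C ν) := by
    rw [Finset.mem_insert]
    by_cases h : oneG G = ν 1
    · exact Or.inl h
    · exact Or.inr (mem_ordSet.2 ⟨lies_oneG, fun ⟨u, hu⟩ => h (by rw [← hu, hexc u])⟩)
  refine ⟨insert (ν 1) (ordSet C ν), ε, hone_mem, ?_, ?_, ?_, ?_, ?_⟩
  · rw [Finset.card_insert_of_notMem hnot, card_ordSet hD, he]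
  · apply Int.cast_injective (α := ℂ)
    rcases Finset.mem_insert.1 hone_mem with h | h
    · rw [h, hεe, Int.cast_neg, ← hny, ← h, Int.cast_one]
      rfl
    · rw [hεo _ h, ← hy _ h, Int.cast_one]
      rfl
  · intro χ hχ
    rcases Finset.mem_insert.1 hχ with rfl | h
    · rw [hεe, hny, Int.cast_neg]
      exact ⟨rfl, by rcases hD.sign with e | e <;> simp [e]⟩
    · rw [hεo _ h]
      exact ⟨hy _ h, hD.sign_diff (χ := χ) (mem_ordSet.1 h)⟩
  · intro χ hχ
    refine C.apply_singular_of_forall_not_lies (fun θ hl => hχ ?_) P hP (dvd_of_eq C.order.symm)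
    rw [hone θ] at hl
    rw [Finset.mem_insert]
    by_cases hn : χ ∈ Set.range ν
    · obtain ⟨u, rfl⟩ := hn
      exact Or.inl (hexc u)
    · exact Or.inr (mem_ordSet.2 ⟨hl, hn⟩)
  · intro χ hχ hne
    obtain ⟨h2, -, h3⟩ := deg_bounds hC hne
    rcases Finset.mem_insert.1 hχ with rfl | h
    · refine ⟨dvd_exc hM hD, h2, h3, ?_⟩
      have hc := congr_exc hM hD
      rw [he] at hc
      rw [hεe]
      obtain ⟨q, hq⟩ := hc
      exact ⟨q + δ, by push_cast at hq ⊢; linarith⟩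
    · rw [hεo _ h]
      exact ⟨dvd_ord hM hD (mem_ordSet.1 h).2 (mem_ordSet.1 h).1, h2, h3,
        congr_ord hM hD (mem_ordSet.1 h).2 (mem_ordSet.1 h).1⟩

variable {S : Finset (IrrCharacter G)} {ε : IrrCharacter G → ℤ}

theorem not_conj_y {x : G} (hx : x * x = 1) : ¬ IsConj x C.y := fun hc => by
  have h2 : orderOf x ∣ 2 := orderOf_dvd_of_pow_eq_one (by rw [pow_two, hx])
  have h5 : orderOf x = 5 := by rw [← M12Nse.conj_orderOf hc, C.order]
  rw [h5] at h2
  norm_num at h2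

/-- orthogonality with `y` -/
theorem Block.orth (hB : Block C S ε) {x : G} (hx : x * x = 1) {r : IrrCharacter G → ℤ}
    (hr : ∀ χ : IrrCharacter G, (χ : G → ℂ) x = (r χ : ℂ)) : ∑ χ ∈ S, ε χ * r χ = 0 := by
  have h := second_orthogonality x C.y
  rw [if_neg (not_conj_y hx)] at h
  rw [← Finset.sum_subset (Finset.subset_univ S) (fun χ _ hχ => by rw [hB.zero χ hχ, map_zero, mul_zero])] at h
  apply Int.cast_injective (α := ℂ)
  push_cast
  rw [← h]
  refine Finset.sum_congr rfl fun χ hχ => ?_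
  rw [hr χ, (hB.val χ hχ).1, map_intCast]
  ring

/-- the sum of the squares in the block -/
theorem Block.bound (hB : Block C S ε) {x : G} {r : IrrCharacter G → ℤ}
    (hr : ∀ χ : IrrCharacter G, (χ : G → ℂ) x = (r χ : ℂ)) :
    (∑ χ ∈ S, r χ * r χ) * (Nat.card {a : G // IsConj x a} : ℤ) ≤ (Nat.card G : ℤ) := by
  have h1 := second_orthogonality x x
  rw [if_pos (IsConj.refl x), Finset.sum_congr rfl (g := fun η : IrrCharacter G =>
    ((r η * r η : ℤ) : ℂ)) (fun η _ => by rw [hr η, map_intCast]; push_cast; ring), ← Int.cast_sum] at h1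
  have h2 : ∑ η : IrrCharacter G, r η * r η =
      (Nat.card (Subgroup.centralizer ({x} : Set G)) : ℤ) := by exact_mod_cast h1
  have h3 : ∑ η ∈ S, r η * r η ≤ (Nat.card (Subgroup.centralizer ({x} : Set G)) : ℤ) :=
    h2 ▸ Finset.sum_le_sum_of_subset_of_nonneg (Finset.subset_univ _) fun η _ _ => mul_self_nonneg _
  refine (mul_le_mul_of_nonneg_right h3 (Int.natCast_nonneg _)).trans_eq ?_
  rw [mul_comm]
  exact_mod_cast M12Nse.card_isConj_mul x

/-- the pairs in two classes with product `y` -/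
theorem Block.pairs (hB : Block C S ε) {a b : G} {r r' : IrrCharacter G → ℂ}
    (hr : ∀ χ ∈ S, (χ : G → ℂ) a = r χ) (hr' : ∀ χ ∈ S, (χ : G → ℂ) b = r' χ) :
    (Nat.card {p : G × G // IsConj a p.1 ∧ IsConj b p.2 ∧ p.1 * p.2 = C.y} : ℂ) =
      (Nat.card {x : G // IsConj a x} : ℂ) * (Nat.card {x : G // IsConj b x} : ℂ) / (Nat.card G : ℂ) *
        ∑ χ ∈ S, r χ * r' χ * (ε χ : ℂ) / (Cfsg.Lib.Chars.deg (χ : G → ℂ) : ℂ) := by
  rw [class_mult_formula, ← Finset.sum_subset (Finset.subset_univ S)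
    (fun χ _ hχ => by rw [hB.zero χ hχ, map_zero, mul_zero, zero_div])]
  congr 1
  refine Finset.sum_congr rfl fun χ hχ => ?_
  rw [hr χ hχ, hr' χ hχ, (hB.val χ hχ).1, map_intCast, irr_apply_one_eq_deg]

/-- signed values at an involution -/
theorem Block.signed (hC : Core C) (hB : Block C S ε) {x : G} (hx : x * x = 1) (hx1 : x ≠ 1) :
    ∃ r : IrrCharacter G → ℤ, (∀ χ : IrrCharacter G, (χ : G → ℂ) x = (r χ : ℂ)) ∧
      ∀ χ ∈ S, χ ≠ oneG G → okR (Nat.card {a : G // IsConj x a})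
        (ε χ * (Cfsg.Lib.Chars.deg (χ : G → ℂ) : ℤ)) (ε χ * r χ) = true := by
  choose r hr h4 hle using fun χ : IrrCharacter G => value_involution hC χ hx
  refine ⟨r, hr, fun χ hχ hne => ?_⟩
  obtain ⟨w, m, hm, hKm, -⟩ := BrauerTuan.exists_int_central χ hx
  have hrm : m = r χ := by exact_mod_cast hm.symm.trans (hr χ)
  subst hrm
  have hne' : r χ ≠ (Cfsg.Lib.Chars.deg (χ : G → ℂ) : ℤ) := fun e => hx1 (faithful_of_ne_one hC hne x (by
    rw [hr χ, irr_apply_one_eq_deg, e, Int.cast_natCast]))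
  obtain ⟨-, hε⟩ := hB.val χ hχ
  have h4' := h4 χ
  have hle' := hle χ
  simp only [okR, Bool.and_eq_true, decide_eq_true_eq]
  rcases hε with e | e <;> rw [e] <;>
    refine ⟨⟨⟨by omega, by omega⟩, by omega⟩, Int.emod_eq_zero_of_dvd ⟨w, ?_⟩⟩
  · rw [one_mul, one_mul]; exact hKm
  · linear_combination -hKm

theorem mem_degs {d : ℕ} {e : ℤ} (he : e = 1 ∨ e = -1) (hd : d ∣ 2304) (h2 : 2 ≤ d) (hb : d * d < 11520)
    (h5 : (5 : ℤ) ∣ (d : ℤ) - e) : e * (d : ℤ) ∈ degs := by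
  have hall : ∀ x : Fin 108, ((x : ℕ) ∣ 2304 → 2 ≤ (x : ℕ) →
      (((x : ℕ) % 5 = 1 → ((x : ℕ) : ℤ) ∈ degs) ∧ ((x : ℕ) % 5 = 4 → -((x : ℕ) : ℤ) ∈ degs))) := by
    decide +kernel
  have hlt : d < 108 := by nlinarith
  obtain ⟨h1, h4⟩ := hall ⟨d, hlt⟩ hd h2
  rcases he with rfl | rfl
  · rw [one_mul]; exact h1 (show d % 5 = 1 by omega)
  · rw [neg_one_mul]; exact h4 (show d % 5 = 4 by omega)

theorem num_eq {z₁ z₂ z₃ z₄ a b c d : ℤ} (h₁ : z₁ ≠ 0) (h₂ : z₂ ≠ 0) (h₃ : z₃ ≠ 0) (h₄ : z₄ ≠ 0) :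
    (num z₁ z₂ z₃ z₄ a b c d : ℂ) = ((z₁ * z₂ * z₃ * z₄ : ℤ) : ℂ) *
      (1 + ((a : ℂ) / z₁ + ((b : ℂ) / z₂ + ((c : ℂ) / z₃ + (d : ℂ) / z₄)))) := by
  have := Int.cast_ne_zero (α := ℂ).2 h₁
  have := Int.cast_ne_zero (α := ℂ).2 h₂
  have := Int.cast_ne_zero (α := ℂ).2 h₃
  have := Int.cast_ne_zero (α := ℂ).2 h₄
  simp only [num]
  push_cast
  field_simp
  ring

theorem dvd_class_three (hC : Core C) (hM : IsPModular 5 M) (hD : C.OrbitData C.oneV ν δ)
    (hV : Nat.card C.V = 1) (he : eC C = 4) (hcard : Nat.card G = 11520) (hidx : idx C = 576)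
    (hnc : Subgroup.center G = ⊥) {c : G} (hc : orderOf c = 3) :
    1280 ∣ Nat.card {x : G // IsConj c x} := by
  have : Fact (Nat.Prime 2) := ⟨Nat.prime_two⟩
  obtain ⟨S, ε, hB⟩ := exists_block hC hM hD hV he
  obtain ⟨s, hss, hs1, hTs, hinv⟩ := exists_inverter hC hV (by rw [he]; norm_num)
  -- a central involution of a Sylow subgroup
  obtain ⟨P⟩ : Nonempty (Sylow 2 G) := inferInstance
  have hP : Nat.card ↥(P : Subgroup G) = 256 := by
    simpa using Cfsg.Lib.Small.card_sylow_of_factor P (a := 8) (m := 45) (by rw [hcard]; norm_num) (by norm_num)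
  have : Nontrivial ↥(P : Subgroup G) := Finite.one_lt_card_iff_nontrivial.1 (by rw [hP]; norm_num)
  obtain ⟨z, hz⟩ : ∃ z : Subgroup.center ↥(P : Subgroup G), orderOf z = 2 := by
    have := P.isPGroup'.center_nontrivial
    exact exists_prime_orderOf_dvd_card' 2 ((P.isPGroup'.to_subgroup _).card_eq_or_dvd.resolve_left
      (Finite.one_lt_card_iff_nontrivial.2 this).ne')
  set u : G := ((z : ↥(P : Subgroup G)) : G)
  have hu : orderOf u = 2 := by rw [Subgroup.orderOf_coe, Subgroup.orderOf_coe, hz]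
  have huu : u * u = 1 := by rw [← pow_two, ← hu, pow_orderOf_eq_one]
  have hu1 : u ≠ 1 := fun e => by rw [e, orderOf_one] at hu; norm_num at hu
  have hPC : (P : Subgroup G) ≤ Subgroup.centralizer ({u} : Set G) := fun a ha =>
    Subgroup.mem_centralizer_singleton_iff.2 (congrArg Subtype.val (Subgroup.mem_center_iff.1 z.2 ⟨a, ha⟩))
  set K := Nat.card {x : G // IsConj u x} with hKdef
  have hKmul := M12Nse.card_isConj_mul u
  rw [← hKdef, hcard] at hKmul
  have hK45 : K ∣ 45 := by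
    obtain ⟨q, hq⟩ := hP ▸ Subgroup.card_dvd_of_le hPC
    refine ⟨q, Nat.eq_of_mul_eq_mul_left (show 0 < 256 by norm_num) ?_⟩
    rw [show 256 * 45 = 11520 from rfl, ← hKmul, hq]
    ring
  have hKne : K ≠ 1 := fun e => by
    rw [e, one_mul] at hKmul
    have htop : Subgroup.centralizer ({u} : Set G) = ⊤ := Subgroup.eq_top_of_card_eq _ (by rw [hKmul, hcard])
    have : u ∈ Subgroup.center G := Subgroup.mem_center_iff.2 fun g =>
      Subgroup.mem_centralizer_singleton_iff.1 (htop ▸ Subgroup.mem_top g)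
    rw [hnc, Subgroup.mem_bot] at this
    exact hu1 this
  have hKmem : K ∈ [3, 5, 9, 15, 45] := by
    have h : ∀ d ∈ Nat.divisors 45, d ≠ 1 → d ∈ [3, 5, 9, 15, 45] := by decide +kernel
    exact h K (Nat.mem_divisors.2 ⟨hK45, by norm_num⟩) hKne
  set L := Nat.card {x : G // IsConj s x} with hLdef
  have hL : L ∣ 11520 := ⟨_, (hcard ▸ M12Nse.card_isConj_mul s).symm⟩
  obtain ⟨r, hr, hrok⟩ := hB.signed hC huu hu1
  obtain ⟨w, hw, hwok⟩ := hB.signed hC hss hs1
  -- the four characters, sorted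
  set zf : IrrCharacter G → ℤ := fun χ => ε χ * (deg (χ : G → ℂ) : ℤ) with hzf
  set l := (S.erase (oneG G)).toList.mergeSort (fun a b => decide (zf a ≤ zf b)) with hl
  have hperm : l.Perm (S.erase (oneG G)).toList := List.mergeSort_perm _ _
  have hpair : l.Pairwise fun a b => zf a ≤ zf b := by
    have h := List.pairwise_mergeSort (le := fun a b => decide (zf a ≤ zf b))
      (fun a b c h1 h2 => by simp only [decide_eq_true_eq] at *; exact le_trans h1 h2)
      (fun a b => by simp only [Bool.or_eq_true, decide_eq_true_eq]; exact le_total _ _)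
      (S.erase (oneG G)).toList
    simpa using h
  obtain ⟨χ₁, χ₂, χ₃, χ₄, hl4⟩ : ∃ a b c d, l = [a, b, c, d] := by
    have h4 : l.length = 4 := by
      rw [hperm.length_eq, Finset.length_toList, Finset.card_erase_of_mem hB.one_mem, hB.card]
    match l, h4 with
    | [a, b, c, d], _ => exact ⟨a, b, c, d, rfl⟩
  rw [hl4] at hperm hpair
  simp only [List.pairwise_cons, List.mem_cons, List.not_mem_nil, or_false, forall_eq_or_imp, forall_eq] at hpair
  have hmem : ∀ χ ∈ [χ₁, χ₂, χ₃, χ₄], χ ∈ S ∧ χ ≠ oneG G := fun χ hχ => by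
    have := Finset.mem_toList.1 (hperm.mem_iff.1 hχ)
    exact ⟨Finset.mem_of_mem_erase this, Finset.ne_of_mem_erase this⟩
  have hsplit : ∀ {R : Type} [AddCommMonoid R] (f : IrrCharacter G → R),
      ∑ χ ∈ S, f χ = f (oneG G) + (f χ₁ + (f χ₂ + (f χ₃ + f χ₄))) := fun f => by
    rw [← Finset.add_sum_erase _ _ hB.one_mem, ← Finset.sum_map_toList, ← (hperm.map f).sum_eq]
    simp
  have hone1 : ∀ {x : G} {f : IrrCharacter G → ℤ}, (∀ χ : IrrCharacter G, (χ : G → ℂ) x = (f χ : ℂ)) →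
      f (oneG G) = 1 := fun {x f} hf => by
    apply Int.cast_injective (α := ℂ)
    rw [← hf, Int.cast_one]
    rfl
  have hm1 := hmem χ₁ (by simp)
  have hm2 := hmem χ₂ (by simp)
  have hm3 := hmem χ₃ (by simp)
  have hm4 := hmem χ₄ (by simp)
  have hdeg : ∀ χ, χ ∈ S ∧ χ ≠ oneG G → zf χ ∈ degs := fun χ hχ => by
    obtain ⟨h1, h2, h3, h4⟩ := hB.deg χ hχ.1 hχ.2
    rw [hidx, he] at h1
    rw [hcard] at h3
    exact mem_degs (hB.val χ hχ.1).2 h1 h2 h3 h4
  have hz : ∀ z ∈ degs, z ≠ 0 := by decide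
  have hsqε : ∀ χ ∈ S, ε χ * ε χ = 1 := fun χ hχ => by
    rcases (hB.val χ hχ).2 with e | e <;> simp [e]
  have hsum : ∀ {x : G} {f : IrrCharacter G → ℤ}, x * x = 1 → (∀ χ : IrrCharacter G, (χ : G → ℂ) x = (f χ : ℂ)) →
      ε χ₁ * f χ₁ + ε χ₂ * f χ₂ + ε χ₃ * f χ₃ + ε χ₄ * f χ₄ = -1 := fun {x f} hx hf => by
    have h := hB.orth hx hf
    rw [hsplit, hB.one, hone1 hf] at h
    omega
  have hbound : ∀ {x : G} {f : IrrCharacter G → ℤ}, (∀ χ : IrrCharacter G, (χ : G → ℂ) x = (f χ : ℂ)) →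
      sq (ε χ₁ * f χ₁) (ε χ₂ * f χ₂) (ε χ₃ * f χ₃) (ε χ₄ * f χ₄) * (Nat.card {a : G // IsConj x a} : ℤ)
        ≤ 11520 := fun {x f} hf => by
    have h := hB.bound hf
    rw [hsplit, hone1 hf, hcard] at h
    refine le_trans (le_of_eq ?_) h
    simp only [sq, mul_mul_mul_comm (ε _), hsqε _ hm1.1, hsqε _ hm2.1, hsqε _ hm3.1, hsqε _ hm4.1]
    ring
  have hT : ∀ {a b : G} {f g : IrrCharacter G → ℤ}, (∀ χ : IrrCharacter G, (χ : G → ℂ) a = (f χ : ℂ)) →
      (∀ χ : IrrCharacter G, (χ : G → ℂ) b = (g χ : ℂ)) →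
      (Nat.card {x : G // IsConj a x} : ℤ) * (Nat.card {x : G // IsConj b x} : ℤ) *
        num (zf χ₁) (zf χ₂) (zf χ₃) (zf χ₄) (ε χ₁ * f χ₁ * (ε χ₁ * g χ₁)) (ε χ₂ * f χ₂ * (ε χ₂ * g χ₂))
          (ε χ₃ * f χ₃ * (ε χ₃ * g χ₃)) (ε χ₄ * f χ₄ * (ε χ₄ * g χ₄)) =
        (Nat.card {p : G × G // IsConj a p.1 ∧ IsConj b p.2 ∧ p.1 * p.2 = C.y} : ℤ) * 11520 *
          (zf χ₁ * zf χ₂ * zf χ₃ * zf χ₄) := fun {a b f g} hf hg => by
    have h := hB.pairs (r := fun χ => (f χ : ℂ)) (r' := fun χ => (g χ : ℂ)) (fun χ _ => hf χ) (fun χ _ => hg χ)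
    rw [hsplit, hcard, hone1 hf, hone1 hg, hB.one, deg_oneG] at h
    have hterm : ∀ χ ∈ S, χ ≠ oneG G → (f χ : ℂ) * (g χ : ℂ) * (ε χ : ℂ) / (deg (χ : G → ℂ) : ℂ) =
        ((ε χ * f χ * (ε χ * g χ) : ℤ) : ℂ) / ((zf χ : ℤ) : ℂ) := fun χ hχ hne => by
      simp only [hzf]
      rcases (hB.val χ hχ).2 with e | e <;> rw [e] <;> push_cast <;> simp [neg_div, div_neg]
    rw [hterm _ hm1.1 hm1.2, hterm _ hm2.1 hm2.2, hterm _ hm3.1 hm3.2, hterm _ hm4.1 hm4.2] at h
    apply Int.cast_injective (α := ℂ)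
    rw [Int.cast_mul, num_eq (hz _ (hdeg _ hm1)) (hz _ (hdeg _ hm2)) (hz _ (hdeg _ hm3)) (hz _ (hdeg _ hm4))]
    push_cast at h ⊢
    linear_combination (-11520 : ℂ) * ((zf χ₁ : ℂ) * (zf χ₂) * (zf χ₃) * (zf χ₄)) * h
  have hdegsq : sq (zf χ₁) (zf χ₂) (zf χ₃) (zf χ₄) ≤ 11520 := by
    have h := hbound (x := (1 : G)) (f := fun χ => (deg (χ : G → ℂ) : ℤ)) fun χ => by
      rw [irr_apply_one_eq_deg, Int.cast_natCast]
    have h1 : Nat.card {a : G // IsConj 1 a} = 1 := by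
      have := M12Nse.card_isConj_mul (1 : G)
      have h2 : Subgroup.centralizer ({(1 : G)} : Set G) = ⊤ :=
        eq_top_iff.2 fun a _ => Subgroup.mem_centralizer_singleton_iff.2 (by simp)
      rw [h2, Subgroup.card_top] at this
      exact Nat.eq_of_mul_eq_mul_right Nat.card_pos (this.trans (one_mul _).symm)
    rwa [h1, Nat.cast_one, mul_one] at h
  have hdegsum : zf χ₁ + zf χ₂ + zf χ₃ + zf χ₄ = -1 :=
    hsum (x := (1 : G)) (mul_one 1) fun χ => by rw [irr_apply_one_eq_deg, Int.cast_natCast]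
  have hTs' := hT hw hw
  rw [← hLdef, hTs] at hTs'
  have hTu := hT hr hr
  have hTm := hT hr hw
  rw [← hKdef] at hTu hTm
  rw [← hLdef] at hTm
  have hK0 : (K : ℤ) ≠ 0 := by
    intro e
    rw [Nat.cast_eq_zero] at e
    rw [e] at hKmem
    simp at hKmem
  have hL0 : (L : ℤ) ≠ 0 := Nat.cast_ne_zero.2 fun e : L = 0 => by rw [e] at hL; norm_num at hL
  have hconc := check_sound (hdeg _ hm1) (hdeg _ hm2) (hdeg _ hm3) (hdeg _ hm4) hpair.1.1 hpair.2.1.1
    hpair.2.2.1 hdegsum hdegsq hKmem (hrok _ hm1.1 hm1.2) (hrok _ hm2.1 hm2.2) (hrok _ hm3.1 hm3.2)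
    (hrok _ hm4.1 hm4.2) (hsum huu hr) (hbound hr) (L := L) (s₁ := ε χ₁ * w χ₁) (s₂ := ε χ₂ * w χ₂)
    (s₃ := ε χ₃ * w χ₃) (s₄ := ε χ₄ * w χ₄) (by
    by_cases hus : IsConj s u
    · refine Or.inl ?_
      have e : ∀ x : G, IsConj u x ↔ IsConj s x := fun x => ⟨hus.trans, hus.symm.trans⟩
      rw [Nat.card_congr (Equiv.subtypeEquivRight (fun p : G × G => by rw [e, e])) , hTs] at hTu
      exact hTu
    · refine Or.inr ?_
      have hno : ∀ {b : G}, b * b = 1 → Nat.card {p : G × G // IsConj u p.1 ∧ IsConj b p.2 ∧ p.1 * p.2 = C.y} = 0 :=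
        fun {b} hb => Nat.card_eq_zero.2 (Or.inl ⟨fun p => by
          obtain ⟨⟨a, a'⟩, ha, ha', hp⟩ := p
          obtain ⟨k, rfl⟩ := isConj_iff.1 ha
          obtain ⟨k', rfl⟩ := isConj_iff.1 ha'
          have h1 := inverts (C := C) (a := k * u * k⁻¹) (b := k' * b * k'⁻¹)
            (by rw [show k * u * k⁻¹ * (k * u * k⁻¹) = k * (u * u) * k⁻¹ by group, huu]; group)
            (by rw [show k' * b * k'⁻¹ * (k' * b * k'⁻¹) = k' * (b * b) * k'⁻¹ by group, hb]; group) hp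
          exact hus ((hinv _ (by rw [show k * u * k⁻¹ * (k * u * k⁻¹) = k * (u * u) * k⁻¹ by group, huu]; group)
            h1.1).trans ha.symm)⟩)
      rw [hno huu, Nat.cast_zero, zero_mul, zero_mul] at hTu
      rw [hno hss, Nat.cast_zero, zero_mul, zero_mul] at hTm
      exact ⟨(mul_eq_zero.1 hTu).resolve_left (mul_ne_zero hK0 hK0), hL, hwok _ hm1.1 hm1.2, hwok _ hm2.1 hm2.2,
        hwok _ hm3.1 hm3.2, hwok _ hm4.1 hm4.2, hsum hss hw, hbound hw,
        (mul_eq_zero.1 hTm).resolve_left (mul_ne_zero hK0 hL0), hTs'⟩)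
  -- the class of an element of order three
  have hzero : ∀ χ, χ ∈ S ∧ χ ≠ oneG G → (ε χ * r χ = 0 ∨ (9 : ℤ) ∣ zf χ) →
      (χ : G → ℂ) u * (χ : G → ℂ) c = 0 := fun χ hχ h => by
    rcases h with h | h
    · rw [hr χ, show r χ = 0 by rcases (hB.val χ hχ.1).2 with e | e <;> rw [e] at h <;> omega, Int.cast_zero,
        zero_mul]
    · have h9 : 3 ^ 2 ∣ deg (χ : G → ℂ) := by
        have h' : (9 : ℤ) ∣ (deg (χ : G → ℂ) : ℤ) := by
          rcases (hB.val χ hχ.1).2 with e | e <;> simpa [hzf, e] using h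
        exact_mod_cast h'
      rw [eq_zero_of_defect_zero χ.2 Nat.prime_three (n := 2) (by rw [hcard]; norm_num) (by rw [hcard]; norm_num)
        h9 (dvd_of_eq hc.symm), mul_zero]
  set J := Nat.card {x : G // IsConj c x} with hJ
  have hTc := hB.pairs (r := fun χ => (χ : G → ℂ) u) (r' := fun χ => (χ : G → ℂ) c) (a := u) (b := c)
    (fun χ _ => rfl) (fun χ _ => rfl)
  rw [hsplit, hzero _ hm1 hconc.1, hzero _ hm2 hconc.2.1, hzero _ hm3 hconc.2.2.1, hzero _ hm4 hconc.2.2.2,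
    ← hKdef, ← hJ, hB.one, deg_oneG, show (oneG G : G → ℂ) u = 1 from rfl, show (oneG G : G → ℂ) c = 1 from rfl,
    hcard] at hTc
  simp only [zero_mul, zero_div, add_zero, Int.cast_one, Nat.cast_one, mul_one, div_one] at hTc
  set T := Nat.card {p : G × G // IsConj u p.1 ∧ IsConj c p.2 ∧ p.1 * p.2 = C.y}
  have hTc' : T * 11520 = K * J := by
    have : (T : ℂ) * 11520 = (K : ℂ) * J := by rw [hTc]; push_cast; ring
    exact_mod_cast this
  obtain ⟨q, hq⟩ := hK45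
  have h256 : 256 ∣ J := (show Nat.Coprime 256 45 by norm_num).dvd_of_dvd_mul_left
    ⟨T * q * 45, by
      have h45 : 45 * J = q * (K * J) := by rw [hq]; ring
      rw [h45, ← hTc']; ring⟩
  have h5 : 5 ∣ J := by
    have hm := M12Nse.card_isConj_mul c
    rw [← hJ, hcard] at hm
    refine ((Nat.Prime.dvd_mul Nat.prime_five).1 (hm ▸ (show 5 ∣ 11520 by norm_num))).resolve_right fun h => ?_
    obtain ⟨⟨y, hy⟩, hyo⟩ := exists_prime_orderOf_dvd_card' (G := Subgroup.centralizer ({c} : Set G)) 5 h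
    rw [Subgroup.orderOf_mk] at hyo
    obtain ⟨P5, hP5⟩ := hC.sylow
    have hcard5 : ∀ Q : Sylow 5 G, Nat.card ↥(Q : Subgroup G) = 5 := fun Q => by
      simpa using Cfsg.Lib.Small.card_sylow_of_factor Q (a := 1) (m := 2304) (by rw [hcard]; norm_num) (by norm_num)
    obtain ⟨Q, hQ⟩ := M12Nse.exists_sylow_zpowers hcard5 hyo
    obtain ⟨g, hg⟩ := MulAction.exists_smul_eq G P5 Q
    obtain ⟨k, hk⟩ := Subgroup.mem_zpowers_iff.1 (show g * C.y * g⁻¹ ∈ Subgroup.zpowers y by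
      rw [← hQ, ← hg, Sylow.coe_subgroup_smul, ← hP5]
      exact Subgroup.smul_mem_pointwise_smul _ (MulAut.conj g) _ (Subgroup.mem_zpowers _))
    have hcom : Commute c (g * C.y * g⁻¹) := hk ▸
      (show Commute c y from (Subgroup.mem_centralizer_singleton_iff.1 hy).symm).zpow_right k
    obtain ⟨i, hi⟩ := centralizer_y hV (g := g⁻¹ * c * g) (by
      have := congrArg (fun t => g⁻¹ * t * g) hcom.eq
      simpa [mul_assoc] using this)
    have h3 : orderOf (C.yP i) = 3 := by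
      rw [← hi, ← hc]
      simpa using MulEquiv.orderOf_eq (MulAut.conj g⁻¹) c
    have hd : orderOf (C.yP i) ∣ 5 :=
      orderOf_dvd_of_pow_eq_one (by rw [C.yP_pow, ZMod.natCast_self, zero_mul, C.yP_zero])
    rw [h3] at hd
    norm_num at hd
  rw [show 1280 = 256 * 5 from rfl]
  exact (show Nat.Coprime 256 5 by norm_num).mul_dvd_of_dvd_of_dvd h256 h5

end

variable {G : Type u} [Group G] [Finite G] [IsSimpleGroup G]

theorem check_two : (sums (terms 5 1152 11520 2 108 1) 1).all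
    (fun s => !(terms 5 1152 11520 2 108 2).contains (1 + s)) = true := by decide +kernel

/-- In a simple group of order 11520 with 576 Sylow subgroups of order five the number of elements of order
three is a multiple of 1280. -/
theorem dvd_cnt_three [Fact (Nat.Prime 5)] (hnc : ¬ IsCyclic G) (hcard : Nat.card G = 11520)
    (hN : Nat.card (Sylow 5 G) = 576) : 1280 ∣ Cfsg.Lib.SameOrder.cnt G 3 := by
  classical
  have := Fintype.ofFinite G
  have hperf := BrauerTuan.perfect_of_simple hnc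
  have hdiv : 5 ∣ Nat.card G := by rw [hcard]; norm_num
  have hsq : ¬ 5 ^ 2 ∣ Nat.card G := by rw [hcard]; norm_num
  obtain ⟨P⟩ : Nonempty (Sylow 5 G) := inferInstance
  obtain ⟨C, hC⟩ := exists_cyc hdiv hsq P
  have hcore : Core C := ⟨hperf, ⟨P, hC⟩, fun N hN hne => by
    rw [hN.eq_bot_or_eq_top.resolve_left hne]
    exact Subgroup.mem_top _⟩
  obtain ⟨Mi, hM⟩ := exists_isPModular Nat.prime_five
  obtain ⟨ν, δ, hD⟩ := C.exists_orbitData hM C.oneV
  have hidx : idx C = 576 := by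
    rw [← hN, idx, hC]
    exact P.card_eq_index_normalizer.symm
  have hev : eC C * Nat.card C.V = 4 := by
    have h := card_eq C
    rw [hcard, hidx] at h
    omega
  have he2 := hcore.two_le_eC
  have he : eC C = 4 := by
    have hd : eC C ∣ 4 := ⟨_, hev.symm⟩
    have := Nat.le_of_dvd (by norm_num) hd
    rcases (show eC C = 2 ∨ eC C = 3 ∨ eC C = 4 by omega) with e | e | e
    · exfalso
      have hV : Nat.card C.V = 2 := by rw [e] at hev; omega
      obtain ⟨a, l, hlen, hsum, ha, hl⟩ := degree_equation hcore hM hD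
      rw [hcard, hV, e, hidx] at ha hl
      rw [e] at hlen
      have h := List.all_eq_true.1 check_two l.sum (by
        rw [show (1 : ℕ) = l.length by omega]
        exact sum_mem_sums l fun z hz => mem_terms (by norm_num) (hl z hz).1 (hl z hz).2)
      simp only [Bool.not_eq_true', hsum] at h
      rw [List.contains_iff_mem.2 (mem_terms (by norm_num) (by exact_mod_cast ha.1) ha.2)] at h
      exact Bool.noConfusion h
    · rw [e] at hd; norm_num at hd
    · exact e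
  have hV : Nat.card C.V = 1 := by rw [he] at hev; omega
  have hcen : Subgroup.center G = ⊥ := (inferInstance : (Subgroup.center G).Normal).eq_bot_or_eq_top.resolve_right
    fun h => hnc (by
      let _ : CommGroup G := { ‹Group G› with mul_comm := fun a b =>
        (Subgroup.mem_center_iff.1 (h ▸ Subgroup.mem_top b : b ∈ Subgroup.center G) a) }
      exact IsSimpleGroup.isCyclic)
  rw [Cfsg.Lib.SameOrder.cnt, Nat.card_eq_fintype_card, Fintype.card_subtype,
    Finset.card_eq_sum_card_fiberwise (f := ConjClasses.mk) (t := Finset.univ) fun _ _ => Finset.mem_univ _]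
  refine Finset.dvd_sum fun k _ => ?_
  obtain ⟨c, rfl⟩ := ConjClasses.exists_rep k
  by_cases hc : orderOf c = 3
  · refine (dvd_class_three hcore hM hD hV he hcard hidx hcen hc).trans (dvd_of_eq ?_)
    rw [Nat.card_eq_fintype_card, Fintype.card_subtype]
    congr 1
    ext x
    simp only [Finset.mem_filter, Finset.mem_univ, true_and, ConjClasses.mk_eq_mk_iff_isConj]
    exact ⟨fun h => ⟨(M12Nse.conj_orderOf h).trans hc, h.symm⟩, fun h => h.2.symm⟩
  · rw [Finset.filter_eq_empty_iff.2 fun x hx hx' => hc ?_, Finset.card_empty]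
    · exact dvd_zero _
    · rw [← (Finset.mem_filter.1 hx).2]
      exact M12Nse.conj_orderOf (ConjClasses.mk_eq_mk_iff_isConj.1 hx')

end Cfsg.Lib.M24Nse.Order11520
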