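import Cfsg.Agent.M24Nse.Alpha
import Cfsg.Agent.M24Nse.Order11520

/-!
The centraliser of an involution commuting with an element of order five.
-/

set_option autoImplicit false
set_option linter.unusedSectionVars false
set_option linter.style.haveILetI false
set_option maxRecDepth 100000
set_option maxHeartbeats 1000000

namespace Cfsg.Lib.M24Nse

open Subgroup Cfsg.Lib.SameOrder

universe u

section General

variable {D : Type u} [Group D] [Finite D]

/-- An element of odd prime order lies in a normal subgroup as soon as its image does. -/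
theorem mem_of_image {W N : Subgroup D} [W.Normal] [N.Normal] (hW : IsPGroup 2 ↥W) {p : ℕ} (hp : p.Prime)
    (hp2 : p ≠ 2) {x : D} (hx : orderOf x = p) (h : QuotientGroup.mk' W x ∈ N.map (QuotientGroup.mk' W)) :
    x ∈ N := by
  obtain ⟨n, hn, e⟩ := h
  have hw : n⁻¹ * x ∈ W := QuotientGroup.eq.1 e
  obtain ⟨k, hk⟩ := IsPGroup.iff_orderOf.1 hW ⟨_, hw⟩
  rw [Subgroup.orderOf_mk] at hk
  have h1 : QuotientGroup.mk' N x = QuotientGroup.mk' N (n⁻¹ * x) := by
    rw [map_mul, map_inv, show QuotientGroup.mk' N n = 1 from (QuotientGroup.eq_one_iff n).2 hn, inv_one, one_mul]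
  have h2 : orderOf (QuotientGroup.mk' N x) ∣ p := hx ▸ orderOf_map_dvd _ x
  have h3 : orderOf (QuotientGroup.mk' N x) ∣ 2 ^ k := hk ▸ h1 ▸ orderOf_map_dvd _ _
  have h4 := Nat.eq_one_of_dvd_coprimes (Nat.Coprime.pow_right k ((Nat.coprime_primes hp Nat.prime_two).2 hp2)) h2 h3
  rwa [orderOf_eq_one_iff, QuotientGroup.mk'_apply, QuotientGroup.eq_one_iff] at h4

/-- Every element of order three of a quotient by a two-group lifts. -/
theorem exists_lift_three {W : Subgroup D} [W.Normal] {k : ℕ} (hW : Nat.card ↥W = 2 ^ k) {z : D ⧸ W}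
    (hz : orderOf z = 3) : ∃ g : D, orderOf g = 3 ∧ QuotientGroup.mk' W g = z := by
  obtain ⟨g, rfl⟩ := QuotientGroup.mk'_surjective W z
  obtain ⟨i, h1, h2⟩ := Nat.chineseRemainder (show Nat.Coprime 3 (2 ^ k) by exact Nat.Coprime.pow_right k (by norm_num)) 1 0
  have hf : QuotientGroup.mk' W (g ^ i) = QuotientGroup.mk' W g := by
    rw [map_pow]
    exact pow_eq_self_of_modEq hz h1
  have hg3 : g ^ 3 ∈ W := by
    rw [← QuotientGroup.eq_one_iff, ← QuotientGroup.mk'_apply, map_pow, ← hz, pow_orderOf_eq_one]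
  have hgi : (g ^ i) ^ 3 = 1 := by
    obtain ⟨q, rfl⟩ := Nat.modEq_zero_iff_dvd.1 h2
    have h4 : (g ^ 3) ^ (2 ^ k) = 1 := by
      rw [← orderOf_dvd_iff_pow_eq_one, ← hW]
      exact Subgroup.orderOf_dvd_natCard _ hg3
    rw [← pow_mul, show 2 ^ k * q * 3 = 3 * 2 ^ k * q by ring, pow_mul, pow_mul, h4, one_pow]
  refine ⟨g ^ i, ((Nat.dvd_prime Nat.prime_three).1 (orderOf_dvd_of_pow_eq_one hgi)).resolve_left fun e => ?_, hf⟩
  rw [orderOf_eq_one_iff] at e
  rw [e, map_one] at hf
  rw [← hf, orderOf_one] at hz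
  norm_num at hz

end General

variable {G : Type u} [Group G] [Finite G]

local instance fact_two_mfbe : Fact (Nat.Prime 2) := ⟨Nat.prime_two⟩
local instance fact_five_mfbe : Fact (Nat.Prime 5) := ⟨Nat.prime_five⟩

theorem ncom_conj {a b : G} (h : IsConj a b) (n : ℕ) : ncom b n = ncom a n := by
  obtain ⟨g, rfl⟩ := isConj_iff.1 h
  refine (Nat.card_congr ((MulAut.conj g).toEquiv.subtypeEquiv fun c => ?_)).symm
  simp only [MulEquiv.toEquiv_eq_coe, MulEquiv.coe_toEquiv, MulAut.conj_apply]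
  rw [show orderOf (g * c * g⁻¹) = orderOf c from MulEquiv.orderOf_eq (MulAut.conj g) c, comm_conj_iff]

/-- The elements of order six over one class of involutions. -/
theorem class_six_le {a : G} (ha : orderOf a = 2) :
    Nat.card {b : G // IsConj a b} * ncom a 3 ≤ cnt G (2 * 3) := by
  classical
  have := Fintype.ofFinite {b : G // IsConj a b}
  rw [cnt_mul (by norm_num) (by norm_num) (by norm_num)]
  calc Nat.card {b : G // IsConj a b} * ncom a 3
      = Nat.card (Σ b : {b : G // IsConj a b}, {c : G // orderOf c = 3 ∧ c * b.1 = b.1 * c}) := by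
        rw [Nat.card_sigma, Finset.sum_congr rfl (g := fun _ => ncom a 3) (fun (b : {b : G // IsConj a b}) _ => by
          show Nat.card {c : G // orderOf c = 3 ∧ c * b.1 = b.1 * c} = ncom a 3
          exact ncom_conj b.2 3),
          Finset.sum_const, Finset.card_univ, smul_eq_mul, Nat.card_eq_fintype_card (α := {b : G // IsConj a b})]
    _ ≤ _ := by
        refine Nat.card_le_card_of_injective (fun p => ⟨⟨p.1.1, (M12Nse.conj_orderOf p.1.2).trans ha⟩, ⟨p.2.1, p.2.2⟩⟩) ?_
        rintro ⟨⟨b, hb⟩, ⟨c, hc⟩⟩ ⟨⟨b', hb'⟩, ⟨c', hc'⟩⟩ e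
        obtain ⟨e1, e2⟩ := Sigma.mk.injEq .. ▸ e
        cases Subtype.ext_iff.1 e1
        cases e2
        rfl

variable (H : Counts G)
include H

/-- an involution beside the core cannot exist when the core meets the centraliser in two elements -/
theorem no_small_fixed {v : G} (hv : orderOf v = 2) {W : Subgroup ↥(centralizer ({v} : Set G))} [W.Normal]
    {y' : ↥(centralizer ({v} : Set G))} (L : Local W 5 y') (hy : orderOf y' = 5)
    (hvW : ⟨v, self_mem_centralizer v⟩ ∈ W)
    (hC : Nat.card ↥(centralizer ({y'} : Set ↥(centralizer ({v} : Set G)))) = 20)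
    (he : Nat.card ↥(W ⊓ centralizer ({y'} : Set ↥(centralizer ({v} : Set G)))) = 2) (hW : Nat.card ↥W = 32)
    {S : Subgroup (↥(centralizer ({v} : Set G)) ⧸ W)} (hSn : S.Normal) (hSs : IsSimpleGroup ↥S)
    (hcen : centralizer (S : Set (↥(centralizer ({v} : Set G)) ⧸ W)) = ⊥) (hyS : QuotientGroup.mk' W y' ∈ S) :
    False := by
  classical
  set vD : ↥(centralizer ({v} : Set G)) := ⟨v, self_mem_centralizer v⟩ with hvD
  have hv2 : orderOf vD = 2 := by rw [Subgroup.orderOf_mk]; exact hv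
  have hvc : ∀ d, vD * d = d * vD := central_self v
  -- the involution
  obtain ⟨Q⟩ : Nonempty (Sylow 2 ↥(centralizer ({y'} : Set ↥(centralizer ({v} : Set G))))) := inferInstance
  have hQ : Nat.card ↥(Q : Subgroup ↥(centralizer ({y'} : Set ↥(centralizer ({v} : Set G))))) = 4 := by
    simpa using Cfsg.Lib.Small.card_sylow_of_factor Q (a := 2) (m := 5) (by rw [hC]; norm_num) (by norm_num)
  obtain ⟨q, hq, hqW⟩ : ∃ q ∈ (Q : Subgroup ↥(centralizer ({y'} : Set ↥(centralizer ({v} : Set G))))),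
      (q : ↥(centralizer ({v} : Set G))) ∉ W := by
    by_contra h
    push Not at h
    have hle : (Q : Subgroup ↥(centralizer ({y'} : Set ↥(centralizer ({v} : Set G))))).map
        (centralizer ({y'} : Set ↥(centralizer ({v} : Set G)))).subtype ≤
        W ⊓ centralizer ({y'} : Set ↥(centralizer ({v} : Set G))) := by
      rintro _ ⟨a, ha, rfl⟩
      exact mem_inf.2 ⟨h a ha, a.2⟩
    have h1 := card_dvd_of_le hle
    rw [card_map_of_injective (Subgroup.subtype_injective _), hQ, he] at h1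
    norm_num at h1
  set s : ↥(centralizer ({v} : Set G)) := (q : ↥(centralizer ({v} : Set G))) with hs
  have hsy : s * y' = y' * s := mem_centralizer_singleton_iff.1 q.2
  have hs2 : orderOf s = 2 := by
    have h4 : orderOf s ∣ 4 := by
      rw [hs, Subgroup.orderOf_coe, ← hQ]
      exact Subgroup.orderOf_dvd_natCard _ hq
    have hm := five_orders H (y := (y' : G)) (c := (s : G)) (by rw [Subgroup.orderOf_coe]; exact hy)
      (congrArg Subtype.val hsy) (by
        rw [Subgroup.orderOf_coe]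
        exact fun h5 => by have := h5.trans h4; norm_num at this)
    rw [Subgroup.orderOf_coe] at hm
    simp only [List.mem_cons, List.not_mem_nil, or_false] at hm
    rcases hm with h | h | h
    · exact absurd (show s ∈ W by rw [orderOf_eq_one_iff.1 h]; exact one_mem W) hqW
    · exact h
    · rw [h] at h4; norm_num at h4
  -- the quotient of the core by the involution
  set A := (zpowers vD).subgroupOf W with hA
  have hAc : ∀ (d : ↥(centralizer ({v} : Set G))) (a : ↥W), a ∈ A → MulAut.conjNormal d a = a := by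
    intro d a ha
    obtain ⟨k, hk⟩ := mem_zpowers_iff.1 (show (a : ↥(centralizer ({v} : Set G))) ∈ zpowers vD from ha)
    refine Subtype.ext ?_
    rw [MulAut.conjNormal_apply, ← hk, ← ((show Commute vD d from hvc d).zpow_left k).eq, mul_inv_cancel_right]
  haveI : A.Normal := ⟨fun a ha g => by
    have h1 : g * a * g⁻¹ = a := by
      refine Subtype.ext ?_
      have := congrArg Subtype.val (hAc (g : ↥(centralizer ({v} : Set G))) a ha)
      rw [MulAut.conjNormal_apply] at this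
      exact this
    rwa [h1]⟩
  obtain ⟨φ, hφ⟩ := exists_quot_action W A fun d a ha => by
    show MulAut.conjNormal d a ∈ A
    rw [hAc d a ha]; exact ha
  have hA2 : Nat.card ↥A = 2 := by
    rw [hA, Nat.card_congr (subgroupOfEquivOfLe (zpowers_le.2 hvW)).toEquiv, Nat.card_zpowers, hv2]
  have hQ16 : Nat.card (↥W ⧸ A) = 16 := by
    have h1 := card_eq_card_quotient_mul_card_subgroup A
    rw [hA2, hW] at h1
    omega
  -- the elements moved by `s` only inside the centre
  let C1 : Subgroup ↥(centralizer ({v} : Set G)) :=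
    { carrier := {w | w ∈ W ∧ w * s * w⁻¹ * s⁻¹ ∈ zpowers vD}
      one_mem' := ⟨one_mem W, by simp⟩
      mul_mem' := by
        rintro a b ⟨ha, ha'⟩ ⟨hb, hb'⟩
        refine ⟨mul_mem ha hb, ?_⟩
        obtain ⟨k, hk⟩ := mem_zpowers_iff.1 hb'
        rw [show a * b * s * (a * b)⁻¹ * s⁻¹ = (a * (b * s * b⁻¹ * s⁻¹) * a⁻¹) * (a * s * a⁻¹ * s⁻¹) by group,
          ← hk, ← ((show Commute vD a from hvc a).zpow_left k).eq, mul_inv_cancel_right]
        exact mul_mem (zpow_mem (mem_zpowers vD) k) ha'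
      inv_mem' := by
        rintro a ⟨ha, ha'⟩
        refine ⟨inv_mem ha, ?_⟩
        obtain ⟨k, hk⟩ := mem_zpowers_iff.1 ha'
        rw [show a⁻¹ * s * a⁻¹⁻¹ * s⁻¹ = a⁻¹ * (a * s * a⁻¹ * s⁻¹)⁻¹ * a by group, ← hk, ← zpow_neg,
          ← ((show Commute vD a⁻¹ from hvc a⁻¹).zpow_left (-k)).eq, inv_mul_cancel_right]
        exact zpow_mem (mem_zpowers vD) _ }
  have hC1W : C1 ≤ W := fun w hw => hw.1
  have hvC1 : zpowers vD ≤ C1 := zpowers_le.2 ⟨hvW, by rw [hvc s, mul_inv_cancel_right, mul_inv_cancel]; exact one_mem _⟩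
  have hC1y : ∀ a ∈ C1, y' * a * y'⁻¹ ∈ C1 := by
    rintro a ⟨ha, ha'⟩
    refine ⟨(inferInstance : W.Normal).conj_mem a ha y', ?_⟩
    have hsy' : y'⁻¹ * s * y' = s := by rw [mul_assoc, hsy, inv_mul_cancel_left]
    obtain ⟨k, hk⟩ := mem_zpowers_iff.1 ha'
    rw [show y' * a * y'⁻¹ * s * (y' * a * y'⁻¹)⁻¹ * s⁻¹ = y' * (a * (y'⁻¹ * s * y') * a⁻¹) * y'⁻¹ * s⁻¹ by group,
      hsy', show a * s * a⁻¹ = vD ^ k * s by rw [hk]; group,
      show y' * (vD ^ k * s) * y'⁻¹ = vD ^ k * s by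
        rw [← mul_assoc, ← ((show Commute vD y' from hvc y').zpow_left k).eq, mul_assoc (vD ^ k), ← hsy,
          mul_assoc (vD ^ k), mul_inv_cancel_right],
      mul_inv_cancel_right]
    exact zpow_mem (mem_zpowers vD) k
  have hC1big : 2 < Nat.card ↥C1 := by
    letI : MulAction ↥(centralizer ({v} : Set G)) (↥W ⧸ A) := MulAction.compHom (↥W ⧸ A) φ
    have h := MathieuEleven.ncard_fixed_mod (p := 2) (x := s) (k := 1)
      (by rw [pow_one, ← hs2, pow_orderOf_eq_one]) (s := (Set.univ : Set (↥W ⧸ A))) fun _ _ => Set.mem_univ _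
    rw [Set.ncard_univ, hQ16] at h
    set F := {a ∈ (Set.univ : Set (↥W ⧸ A)) | s • a = a}
    have h1 : ((1 : ↥W) : ↥W ⧸ A) ∈ F := ⟨trivial, by
      show φ s _ = _
      rw [hφ, map_one]⟩
    obtain ⟨b, hbF, hb1⟩ : ∃ b ∈ F, b ≠ ((1 : ↥W) : ↥W ⧸ A) := by
      refine Set.exists_ne_of_one_lt_ncard ?_ _
      have := (Set.ncard_pos (Set.toFinite F)).2 ⟨_, h1⟩
      omega
    obtain ⟨w, rfl⟩ := QuotientGroup.mk_surjective b
    have hw : φ s (w : ↥W ⧸ A) = (w : ↥W ⧸ A) := hbF.2
    rw [hφ, eq_comm, QuotientGroup.eq] at hw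
    have hwC1 : (w : ↥(centralizer ({v} : Set G))) ∈ C1 := by
      refine ⟨w.2, ?_⟩
      have h2 : ((w⁻¹ * MulAut.conjNormal s w : ↥W) : ↥(centralizer ({v} : Set G))) ∈ zpowers vD := hw
      push_cast [MulAut.conjNormal_apply] at h2
      obtain ⟨k, hk⟩ := mem_zpowers_iff.1 h2
      have h3 := inv_mem h2
      rw [show ((w : ↥(centralizer ({v} : Set G)))⁻¹ * (s * w * s⁻¹))⁻¹ =
        s * (w : ↥(centralizer ({v} : Set G)))⁻¹ * s⁻¹ * w by group] at h3
      obtain ⟨j, hj⟩ := mem_zpowers_iff.1 h3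
      rw [show (w : ↥(centralizer ({v} : Set G))) * s * (w : ↥(centralizer ({v} : Set G)))⁻¹ * s⁻¹ =
        (w : ↥(centralizer ({v} : Set G))) * (s * (w : ↥(centralizer ({v} : Set G)))⁻¹ * s⁻¹ * w) *
          (w : ↥(centralizer ({v} : Set G)))⁻¹ by group, ← hj,
        ← ((show Commute vD w from hvc w).zpow_left j).eq, mul_inv_cancel_right]
      exact zpow_mem (mem_zpowers vD) j
    by_contra hle
    have heq : zpowers vD = C1 := Subgroup.eq_of_le_of_card_ge hvC1 (by rw [Nat.card_zpowers, hv2]; omega)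
    refine hb1 ?_
    rw [QuotientGroup.eq]
    show (w⁻¹ * 1 : ↥W) ∈ A
    rw [mul_one]
    exact inv_mem (show w ∈ A from show (w : ↥(centralizer ({v} : Set G))) ∈ zpowers vD from heq.symm ▸ hwC1)
  have hfix2 : ∀ K : Subgroup ↥(centralizer ({v} : Set G)), K ≤ W → vD ∈ K →
      Nat.card ↥(K ⊓ centralizer ({y'} : Set ↥(centralizer ({v} : Set G)))) = 2 := by
    intro K hK hvK
    refine le_antisymm (he ▸ Nat.le_of_dvd Nat.card_pos (card_dvd_of_le (inf_le_inf_right _ hK))) ?_
    rw [← hv2, ← Nat.card_zpowers]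
    exact Nat.le_of_dvd Nat.card_pos (card_dvd_of_le (zpowers_le.2 (mem_inf.2 ⟨hvK,
      mem_centralizer_singleton_iff.2 (hvc y')⟩)))
  have hsize : ∀ K : Subgroup ↥(centralizer ({v} : Set G)), K ≤ W → vD ∈ K → (∀ a ∈ K, y' * a * y'⁻¹ ∈ K) →
      2 < Nat.card ↥K → K = W := by
    intro K hK hvK hKy hbig
    have hm := card_fixed_mod hy hKy
    rw [hfix2 K hK hvK] at hm
    obtain ⟨k, -, hk⟩ := (Nat.dvd_prime_pow Nat.prime_two).1
      (show Nat.card ↥K ∣ 2 ^ 5 by rw [show 2 ^ 5 = 32 from rfl, ← hW]; exact card_dvd_of_le hK)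
    refine Subgroup.eq_of_le_of_card_ge hK ?_
    rw [hW, hk]
    rw [hk] at hm hbig
    have hk5 : k ≤ 5 := by
      by_contra hlt
      have := Nat.le_of_dvd (by norm_num) (show 2 ^ k ∣ 32 by rw [← hk, ← hW]; exact card_dvd_of_le hK)
      have := Nat.pow_le_pow_right (show 0 < 2 by norm_num) (show 6 ≤ k by omega)
      omega
    interval_cases k <;> first | omega | norm_num
  have hC1 : C1 = W := hsize C1 hC1W (hvC1 (mem_zpowers vD)) hC1y hC1big
  -- the kernel of the commutator map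
  let c : ↥W →* ↥(zpowers vD) :=
    { toFun := fun w => ⟨(w : ↥(centralizer ({v} : Set G))) * s * (w : ↥(centralizer ({v} : Set G)))⁻¹ * s⁻¹,
        ((hC1.symm ▸ w.2 : (w : ↥(centralizer ({v} : Set G))) ∈ C1)).2⟩
      map_one' := Subtype.ext (by simp)
      map_mul' := fun a b => Subtype.ext (by
        obtain ⟨k, hk⟩ := mem_zpowers_iff.1 ((hC1.symm ▸ b.2 : (b : ↥(centralizer ({v} : Set G))) ∈ C1)).2
        show ((a * b : ↥W) : ↥(centralizer ({v} : Set G))) * s * ((a * b : ↥W) : ↥(centralizer ({v} : Set G)))⁻¹ * s⁻¹ =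
          _ * _
        push_cast
        rw [show (a : ↥(centralizer ({v} : Set G))) * b * s * ((a : ↥(centralizer ({v} : Set G))) * b)⁻¹ * s⁻¹ =
          ((a : ↥(centralizer ({v} : Set G))) * ((b : ↥(centralizer ({v} : Set G))) * s *
            (b : ↥(centralizer ({v} : Set G)))⁻¹ * s⁻¹) * (a : ↥(centralizer ({v} : Set G)))⁻¹) *
            ((a : ↥(centralizer ({v} : Set G))) * s * (a : ↥(centralizer ({v} : Set G)))⁻¹ * s⁻¹) by group,
          ← hk, ← ((show Commute vD (a : ↥(centralizer ({v} : Set G))) from hvc _).zpow_left k).eq, mul_inv_cancel_right]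
        exact ((show Commute vD _ from hvc _).zpow_left k).eq) }
  set C2 := W ⊓ centralizer ({s} : Set ↥(centralizer ({v} : Set G))) with hC2
  have hC2big : 2 < Nat.card ↥C2 := by
    have h1 := card_eq_card_quotient_mul_card_subgroup c.ker
    have h2 : Nat.card (↥W ⧸ c.ker) ≤ 2 := by
      rw [Nat.card_congr (QuotientGroup.quotientKerEquivRange c).toEquiv]
      refine (Subgroup.card_le_card_group c.range).trans_eq ?_
      rw [Nat.card_zpowers, hv2]
    have h3 : Nat.card ↥c.ker ≤ Nat.card ↥C2 := Nat.card_le_card_of_injective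
      (fun w => ⟨(w.1 : ↥(centralizer ({v} : Set G))), mem_inf.2 ⟨w.1.2, mem_centralizer_singleton_iff.2
        (mul_inv_eq_iff_eq_mul.1 (mul_inv_eq_one.1 (congrArg Subtype.val (MonoidHom.mem_ker.1 w.2))))⟩⟩)
      fun a b e => Subtype.ext (Subtype.ext (congrArg (fun z : ↥C2 => z.1) e))
    rw [hW] at h1
    have h4 : Nat.card (↥W ⧸ c.ker) * Nat.card ↥c.ker ≤ 2 * Nat.card ↥C2 := Nat.mul_le_mul h2 h3
    omega
  have hC2W : C2 = W := by
    refine hsize C2 inf_le_left (mem_inf.2 ⟨hvW, mem_centralizer_singleton_iff.2 (hvc s)⟩) (fun a ha => ?_) hC2big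
    refine mem_inf.2 ⟨(inferInstance : W.Normal).conj_mem a (mem_inf.1 ha).1 y', mem_centralizer_singleton_iff.2 ?_⟩
    exact ((show Commute y' s from hsy.symm).mul_left (show Commute a s from mem_centralizer_singleton_iff.1
      (mem_inf.1 ha).2)).mul_left ((show Commute y' s from hsy.symm).inv_left) |>.eq
  -- the centraliser of the core
  set N := centralizer (W : Set ↥(centralizer ({v} : Set G))) with hN
  have hsN : s ∈ N := mem_centralizer_iff.2 fun w hw =>
    mem_centralizer_singleton_iff.1 (mem_inf.1 (hC2W.symm ▸ hw : w ∈ C2)).2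
  have hNn : (N.map (QuotientGroup.mk' W)).Normal :=
    (inferInstance : N.Normal).map _ (QuotientGroup.mk'_surjective W)
  have hne : N.map (QuotientGroup.mk' W) ≠ ⊥ := fun e => hqW (by
    have := mem_map_of_mem (QuotientGroup.mk' W) hsN
    rwa [e, mem_bot, QuotientGroup.mk'_apply, QuotientGroup.eq_one_iff] at this)
  have hyN : y' ∈ N := mem_of_image L.pgroup Nat.prime_five (by norm_num) hy (socle_le hSn hSs hcen hNn hne hyS)
  have hle : W ≤ centralizer ({y'} : Set ↥(centralizer ({v} : Set G))) := fun w hw =>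
    mem_centralizer_singleton_iff.2 (mem_centralizer_iff.1 hyN w hw)
  rw [inf_eq_left.2 hle, hW] at he
  norm_num at he

/-- The orders of the centraliser and of its core. -/
theorem beta {y v : G} (hy : orderOf y = 5) (hv : orderOf v = 2) (hvy : v * y = y * v)
    (hCv : Nat.card ↥(centralizer ({v} : Set G)) = 46080 ∨ Nat.card ↥(centralizer ({v} : Set G)) = 17280 ∨
      Nat.card ↥(centralizer ({v} : Set G)) = 7680)
    {W : Subgroup ↥(centralizer ({v} : Set G))} [W.Normal] {y' : ↥(centralizer ({v} : Set G))}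
    (L : Local W 5 y') (hvW : ⟨v, self_mem_centralizer v⟩ ∈ W) (hyo : orderOf y' = 5)
    (hC : Nat.card ↥(centralizer ({y'} : Set ↥(centralizer ({v} : Set G)))) = 20)
    (hcase : (Nat.card ↥(W ⊓ centralizer ({y'} : Set ↥(centralizer ({v} : Set G)))) = 2 ∧ Nat.card ↥W % 5 = 2 ∧
          Nat.card ↥(normalizer (zpowers (QuotientGroup.mk' W y') :
            Set (↥(centralizer ({v} : Set G)) ⧸ W))) = 40) ∨
        (Nat.card ↥(W ⊓ centralizer ({y'} : Set ↥(centralizer ({v} : Set G)))) = 4 ∧ Nat.card ↥W % 5 = 4 ∧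
          Nat.card ↥(normalizer (zpowers (QuotientGroup.mk' W y') :
            Set (↥(centralizer ({v} : Set G)) ⧸ W))) = 20)) :
    (Nat.card ↥(centralizer ({v} : Set G)) = 7680 ∨ Nat.card ↥(centralizer ({v} : Set G)) = 46080) ∧
      Nat.card ↥W = 64 ∧ Nat.card ↥(W ⊓ centralizer ({y'} : Set ↥(centralizer ({v} : Set G)))) = 4 := by
  obtain ⟨w, hw⟩ := IsPGroup.iff_card.1 L.pgroup
  have hw10 : w ≤ 10 := by
    by_contra hlt
    have h1 := (pow_dvd_pow 2 (by omega : 11 ≤ w)).trans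
      (hw ▸ (card_subgroup_dvd_card W).trans (cent_five_dvd H hy hv hvy))
    norm_num at h1
  set n := Nat.card (Sylow 5 (↥(centralizer ({v} : Set G)) ⧸ W)) with hn
  set N := Nat.card ↥(normalizer (zpowers (QuotientGroup.mk' W y') : Set (↥(centralizer ({v} : Set G)) ⧸ W))) with hN
  have hX : Nat.card (↥(centralizer ({v} : Set G)) ⧸ W) = n * N := by rw [hn, hN, ← L.sylow]
  have hcard : n * N * 2 ^ w = Nat.card ↥(centralizer ({v} : Set G)) := by rw [← L.card, hX, hw]
  rw [hw] at hcase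
  -- possibilities
  have hposs : (w = 6 ∧ N = 20 ∧ Nat.card ↥(W ⊓ centralizer ({y'} : Set ↥(centralizer ({v} : Set G)))) = 4 ∧
        (Nat.card ↥(centralizer ({v} : Set G)) = 7680 ∨ Nat.card ↥(centralizer ({v} : Set G)) = 46080)) ∨
      (w = 5 ∧ (n = 36 ∨ n = 6) ∧
        Nat.card ↥(W ⊓ centralizer ({y'} : Set ↥(centralizer ({v} : Set G)))) = 2) ∨
      ((w = 1 ∧ N = 40 ∨ w = 2 ∧ N = 20) ∧ (n = 216 ∨ n = 576 ∨ n = 96) ∧
        (n = 576 → Nat.card ↥(centralizer ({v} : Set G)) = 46080)) := by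
    rcases hcase with ⟨he, hm, hN'⟩ | ⟨he, hm, hN'⟩ <;> rw [hN'] at hcard <;>
      interval_cases w <;> norm_num at hm <;> rcases hCv with e | e | e <;> rw [e] at hcard <;> omega
  rcases hposs with ⟨rfl, -, he4, hDc⟩ | hposs
  · exact ⟨hDc, by rw [hw]; norm_num, he4⟩
  exfalso
  have hn' : n = 36 ∨ n = 6 ∨ n = 216 ∨ n = 576 ∨ n = 96 := by omega
  have hD' : Nat.card ↥(centralizer ({v} : Set G)) ∣ 2 ^ 10 * 3 ^ 3 * 5 := by
    rw [show 2 ^ 10 * 3 ^ 3 * 5 = 138240 from rfl]; exact cent_five_dvd H hy hv hvy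
  obtain ⟨S, hSn, hSs, hSnc, hSmem, hScen, hScard, hSp⟩ := L.exists_socle (Or.inl rfl) hD' (by rw [← hn]; omega)
  haveI := hSs
  rcases hposs with ⟨rfl, -, he2⟩ | ⟨hwN, hns, hn576⟩
  · exact no_small_fixed H hv L hyo hvW hC he2 (by rw [hw]; norm_num) hSn hSs hScen (hSmem _ L.ord)
  obtain ⟨m, hm, hm5, hmN⟩ := socle_card (hScard.trans hn.symm) hSp hX (by omega) (by omega)
  have hm' : m = 5 ∨ m = 10 ∨ m = 20 ∨ m = 40 := by
    have h40 : m ∣ 40 := by
      rcases hwN with ⟨-, e⟩ | ⟨-, e⟩ <;> rw [e] at hmN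
      · exact hmN
      · exact hmN.trans (by norm_num)
    have hall : ∀ d ∈ Nat.divisors 40, 5 ∣ d → d = 5 ∨ d = 10 ∨ d = 20 ∨ d = 40 := by decide +kernel
    exact hall m (Nat.mem_divisors.2 ⟨h40, by norm_num⟩) hm5
  have hkill : ∀ k, Nat.card ↥S = k → k < 6000 → k ∉ [60, 168, 360, 504, 660, 1092, 2448, 2520, 3420, 4080, 5616] →
      False := fun k hk h6 hl => false_small hSs hSnc hk h6 hl
  have hlast : n = 576 ∧ m = 20 := by
    rcases hns with e | e | e <;> rcases hm' with e' | e' | e' | e' <;> rw [e, e'] at hm <;>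
      first
        | exact ⟨e, e'⟩
        | exact (false_of_degree hSnc (hm.trans (by rfl : _ = 8640)) check_8640).elim
        | exact (false_of_degree hSnc (hm.trans (by rfl : _ = 23040)) check_23040).elim
        | exact (hkill _ hm (by norm_num) (by decide)).elim
  rw [hlast.1, hlast.2] at hm
  have hnc : ¬ IsCyclic ↥S := fun hc => hSnc fun a b => by
    letI : CommGroup ↥S := IsCyclic.commGroup
    exact mul_comm a b
  obtain ⟨q, hq⟩ := Order11520.dvd_cnt_three hnc (by rw [hm]) (hScard.trans (hn.symm.trans hlast.1))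
  -- lifts
  have hle : cnt ↥S 3 ≤ ncom v 3 := by
    have hl : ∀ z : {z : ↥S // orderOf z = 3}, ∃ g : ↥(centralizer ({v} : Set G)),
        orderOf g = 3 ∧ QuotientGroup.mk' W g = (z.1 : ↥(centralizer ({v} : Set G)) ⧸ W) := fun z =>
      exists_lift_three hw (by rw [Subgroup.orderOf_coe]; exact z.2)
    choose g hg hgz using hl
    refine Nat.card_le_card_of_injective (fun z => ⟨(g z : G), by rw [Subgroup.orderOf_coe]; exact hg z,
      mem_centralizer_singleton_iff.1 (g z).2⟩) fun a b e => Subtype.ext (Subtype.ext ?_)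
    have e' : g a = g b := Subtype.ext (congrArg (fun t : {c : G // orderOf c = 3 ∧ c * v = v * c} => t.1) e)
    rw [← hgz a, ← hgz b, e']
  have h9 : cnt ↥S 9 = 0 := by
    by_contra hne
    obtain ⟨z, hz⟩ := (cnt_ne_zero_iff 9).1 hne
    obtain ⟨g, hgz⟩ := QuotientGroup.mk'_surjective W (z : ↥(centralizer ({v} : Set G)) ⧸ W)
    have h1 : 9 ∣ orderOf (g : G) := by
      rw [Subgroup.orderOf_coe, ← hz, ← Subgroup.orderOf_coe, ← hgz]
      exact orderOf_map_dvd _ g
    exact no_order H (n := 9) (by decide +kernel) _ (orderOf_pow_orderOf_div (orderOf_pos (g : G)).ne' h1)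
  have hd : 9 ∣ ∑ d ∈ Nat.divisors 9, cnt ↥S d := dvd_sum_divisors (by rw [hm]; norm_num)
  rw [show Nat.divisors 9 = {1, 3, 9} by decide, Finset.sum_insert (by decide), Finset.sum_pair (by norm_num),
    cnt_one, h9] at hd
  have hbound := class_six_le (G := G) hv
  rw [show cnt G (2 * 3) = 20401920 from cnt_val H (n := 2 * 3) (v := 20401920)] at hbound
  have hK : Nat.card {b : G // IsConj v b} = 5313 := by
    have h := M12Nse.card_isConj_mul v
    rw [hn576 hlast.1, H.card] at h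
    omega
  rw [hK] at hbound
  omega

end Cfsg.Lib.M24Nse
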