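import Cfsg.Agent.M24Nse.Beta

/-!
The normaliser of the core in the largest case of the centraliser of an involution commuting with an element of
order five.
-/

set_option autoImplicit false
set_option linter.unusedSectionVars false
set_option linter.style.haveILetI false
set_option maxRecDepth 100000
set_option maxHeartbeats 1000000

namespace Cfsg.Lib.M24Nse

open Subgroup Cfsg.Lib.SameOrder

universe u

variable {G : Type u} [Group G] [Finite G]

local instance fact_two_mfbb : Fact (Nat.Prime 2) := ⟨Nat.prime_two⟩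
local instance fact_three_mfbb : Fact (Nat.Prime 3) := ⟨Nat.prime_three⟩
local instance fact_five_mfbb : Fact (Nat.Prime 5) := ⟨Nat.prime_five⟩

/-- the data of the largest case -/
structure Big (N : Subgroup G) (W V : Subgroup ↥N) [W.Normal] [V.Normal] (y t : ↥N)
    (S : Subgroup (↥N ⧸ W)) : Prop where
  cardW : Nat.card ↥W = 64
  cardV : Nat.card ↥V = 4
  le : V ≤ W
  hy : orderOf y = 5
  ht : orderOf t = 3
  comm : t * y = y * t
  fixy : W ⊓ centralizer ({y} : Set ↥N) = V
  fixt : V ⊓ centralizer ({t} : Set ↥N) = ⊥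
  sq : ∀ a ∈ V, a * a = 1
  central : ∀ a ∈ V, ∀ w ∈ W, a * w = w * a
  normS : S.Normal
  simple : IsSimpleGroup ↥S
  noncomm : ¬ ∀ a b : ↥S, a * b = b * a
  cardS : Nat.card ↥S = 360
  memS : QuotientGroup.mk' W y ∈ S

theorem small_four_sq {V : Subgroup G} (hV : Nat.card ↥V = 4) (h : ∀ a ∈ V, orderOf a ≤ 3) {a : G} (ha : a ∈ V) :
    a * a = 1 := by
  have h1 : orderOf a ∣ 4 := hV ▸ Subgroup.orderOf_dvd_natCard V ha
  have h2 := h a ha
  have h3 := orderOf_pos a
  have h4 : orderOf a ∣ 2 := by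
    interval_cases h5 : orderOf a
    · exact one_dvd _
    · exact dvd_rfl
    · norm_num at h1
  rw [← pow_two]
  exact orderOf_dvd_iff_pow_eq_one.1 h4

variable (H : Counts G)
include H

/-- A subgroup of order four commuting with an element of order five contains all the involutions doing so. -/
theorem four_all {V : Subgroup G} (hV : Nat.card ↥V = 4) {y : G} (hy : orderOf y = 5)
    (hVy : ∀ a ∈ V, a * y = y * a) (hsq : ∀ a ∈ V, a * a = 1) {a : G} (ha : orderOf a = 2) (hay : a * y = y * a) :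
    a ∈ V := by
  have h1 : Nat.card {b : ↥V // b ≠ 1} = 3 := by
    show Nat.card ↥{b : ↥V | b ≠ 1} = 3
    rw [Nat.card_coe_set_eq, show {b : ↥V | b ≠ 1} = ({1} : Set ↥V)ᶜ from rfl, Set.ncard_compl, Set.ncard_singleton,
      hV]
  let f : {b : ↥V // b ≠ 1} → {b : G // orderOf b = 2 ∧ b * y = y * b} := fun b =>
    ⟨b.1.1, orderOf_eq_prime (by rw [pow_two]; exact hsq _ b.1.2) (fun e => b.2 (Subtype.ext e)), hVy _ b.1.2⟩
  have hf : Function.Injective f := fun b c e => Subtype.ext (Subtype.ext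
    (congrArg (fun z : {b : G // orderOf b = 2 ∧ b * y = y * b} => z.1) e))
  obtain ⟨b, hb⟩ := ((Nat.bijective_iff_injective_and_card f).2
    ⟨hf, h1.trans (ncom_five H hy).1.symm⟩).2 ⟨a, ha, hay⟩
  have e : (b.1 : G) = a := congrArg (fun z : {b : G // orderOf b = 2 ∧ b * y = y * b} => z.1) hb
  exact e ▸ b.1.2

/-- no element of order eleven or twenty-three normalises a subgroup of order sixty-four -/
theorem normalizer_not {W : Subgroup G} (hW : Nat.card ↥W = 64) {q : ℕ} (hq : q = 11 ∨ q = 23) :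
    ¬ q ∣ Nat.card ↥(normalizer (W : Set G)) := fun h => by
  haveI : Fact q.Prime := ⟨by rcases hq with rfl | rfl <;> norm_num⟩
  obtain ⟨⟨g, hg⟩, hgo⟩ := exists_prime_orderOf_dvd_card' q h
  rw [Subgroup.orderOf_mk] at hgo
  have hm := card_fixed_mod hgo fun a ha => (Subgroup.mem_normalizer_iff.1 hg a).1 ha
  obtain ⟨k, hk⟩ := IsPGroup.iff_card.1 ((IsPGroup.of_card (p := 2) (n := 6) (by rw [hW]; norm_num) :
    IsPGroup 2 ↥W).to_le (inf_le_left : W ⊓ centralizer ({g} : Set G) ≤ W))
  have hk0 : k ≠ 0 := fun e => by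
    rw [hW, hk, e] at hm
    rcases hq with rfl | rfl <;> norm_num at hm
  obtain ⟨⟨a, ha⟩, hao⟩ := exists_prime_orderOf_dvd_card' (G := ↥(W ⊓ centralizer ({g} : Set G))) 2
    (hk ▸ dvd_pow_self 2 hk0)
  rw [Subgroup.orderOf_mk] at hao
  have hc := mem_centralizer_singleton_iff.1 (mem_inf.1 ha).2
  rcases hq with rfl | rfl
  · exact order_comm H hc hao hgo (by norm_num)
  · exact order_comm H hc hao hgo (by norm_num)

theorem exists_big {y v : G} (hy : orderOf y = 5) (hv : orderOf v = 2) (hvy : v * y = y * v)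
    (hCv : Nat.card ↥(centralizer ({v} : Set G)) = 46080)
    {W : Subgroup ↥(centralizer ({v} : Set G))} [W.Normal] {y' : ↥(centralizer ({v} : Set G))}
    (hyy : (y' : G) = y)
    (L : Local W 5 y') (hvW : ⟨v, self_mem_centralizer v⟩ ∈ W)
    (hC : Nat.card ↥(centralizer ({y'} : Set ↥(centralizer ({v} : Set G)))) = 20)
    (hW : Nat.card ↥W = 64)
    (he : Nat.card ↥(W ⊓ centralizer ({y'} : Set ↥(centralizer ({v} : Set G)))) = 4) :
    ∃ (N : Subgroup G) (W' V' : Subgroup ↥N) (_ : W'.Normal) (_ : V'.Normal) (yN tN : ↥N) (S' : Subgroup (↥N ⧸ W')),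
      Big N W' V' yN tN S' := by
  classical
  subst hyy
  have hyo : orderOf y' = 5 := by rwa [Subgroup.orderOf_coe] at hy
  set f := QuotientGroup.mk' W with hf
  set vD : ↥(centralizer ({v} : Set G)) := ⟨v, self_mem_centralizer v⟩ with hvD
  -- the quotient
  have hX : Nat.card (↥(centralizer ({v} : Set G)) ⧸ W) = 720 := by
    have := L.card
    rw [hW, hCv] at this
    omega
  have hCX : Nat.card ↥(centralizer ({f y'} : Set (↥(centralizer ({v} : Set G)) ⧸ W))) = 5 := by
    have := L.cent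
    rw [he, hC] at this
    exact Nat.eq_of_mul_eq_mul_right (show 0 < 4 by norm_num) this
  have hn36 : Nat.card (Sylow 5 (↥(centralizer ({v} : Set G)) ⧸ W)) = 36 := by
    have h1 := L.norm
    have h2 := L.sylow
    rw [he, card_norm_sub _ y'.2, (five_v H hy hv hvy).2] at h1
    rw [hX] at h2
    rw [show Nat.card ↥(normalizer (zpowers (f y') : Set (↥(centralizer ({v} : Set G)) ⧸ W))) = 20 from
      Nat.eq_of_mul_eq_mul_right (show 0 < 4 by norm_num) h1] at h2
    omega
  have hD' : Nat.card ↥(centralizer ({v} : Set G)) ∣ 2 ^ 10 * 3 ^ 3 * 5 := by rw [hCv]; norm_num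
  obtain ⟨S, hSn, hSs, hSnc, hSmem, hScen, hScard, hSp⟩ := L.exists_socle (Or.inl rfl) hD' (by rw [hn36]; norm_num)
  haveI := hSs
  have hS360 : Nat.card ↥S = 360 := by
    obtain ⟨m, hm, hm5, hm20⟩ := socle_card (N := 20) (hScard.trans hn36) hSp (by rw [hX]) (by norm_num) (by norm_num)
    have hall : ∀ d ∈ Nat.divisors 20, 5 ∣ d → d = 5 ∨ d = 10 ∨ d = 20 := by decide +kernel
    rcases hall m (Nat.mem_divisors.2 ⟨hm20, by norm_num⟩) hm5 with rfl | rfl | rfl
    · exact (false_small hSs hSnc hm (by norm_num) (by decide)).elim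
    · exact hm.trans (by norm_num)
    · exact (false_small hSs hSnc hm (by norm_num) (by decide)).elim
  -- the four-group
  set V := W ⊓ centralizer ({y'} : Set ↥(centralizer ({v} : Set G))) with hVdef
  have hVy : ∀ a ∈ V, a * y' = y' * a := fun a ha => mem_centralizer_singleton_iff.1 (mem_inf.1 ha).2
  have hsq : ∀ a ∈ V, a * a = 1 := fun a ha => small_four_sq he (fun b hb => by
    have h4 : orderOf b ∣ 4 := he ▸ Subgroup.orderOf_dvd_natCard V hb
    have hm := five_orders H (y := (y' : G)) (c := (b : G)) hy (congrArg Subtype.val (hVy b hb)) (by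
      rw [Subgroup.orderOf_coe]
      exact fun h5 => by have := h5.trans h4; norm_num at this)
    rw [Subgroup.orderOf_coe] at hm
    simp only [List.mem_cons, List.not_mem_nil, or_false] at hm
    omega) ha
  have hvV : vD ∈ V := mem_inf.2 ⟨hvW, mem_centralizer_singleton_iff.2 (central_self v y')⟩
  have hfix : ∀ K : Subgroup ↥(centralizer ({v} : Set G)), K ≤ W → V ≤ K → (∀ a ∈ K, y' * a * y'⁻¹ ∈ K) →
      4 < Nat.card ↥K → K = W := by
    intro K hK hVK hKy hbig
    have hm := card_fixed_mod hyo hKy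
    rw [show K ⊓ centralizer ({y'} : Set ↥(centralizer ({v} : Set G))) = V from
      le_antisymm (inf_le_inf_right _ hK) (le_inf hVK inf_le_right), he] at hm
    obtain ⟨k, hk6, hk⟩ := (Nat.dvd_prime_pow Nat.prime_two).1
      (show Nat.card ↥K ∣ 2 ^ 6 by rw [show 2 ^ 6 = 64 from rfl, ← hW]; exact card_dvd_of_le hK)
    refine Subgroup.eq_of_le_of_card_ge hK ?_
    rw [hW, hk]
    rw [hk] at hm hbig
    interval_cases k <;> first | omega | norm_num
  have hVn : ∀ w ∈ W, ∀ a ∈ V, w * a * w⁻¹ ∈ V := by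
    set K := W ⊓ normalizer (V : Set ↥(centralizer ({v} : Set G))) with hK
    suffices hKW : K = W from fun w hw a ha =>
      (Subgroup.mem_normalizer_iff.1 (mem_inf.1 (hKW.symm ▸ hw : w ∈ K)).2 a).1 ha
    have hVK : V ≤ K := le_inf inf_le_left le_normalizer
    refine hfix K inf_le_left hVK (fun a ha => mem_inf.2 ⟨(inferInstance : W.Normal).conj_mem a (mem_inf.1 ha).1 y',
      mul_mem (mul_mem ?_ (mem_inf.1 ha).2) (inv_mem ?_)⟩) ?_
    iterate 2
      exact centralizer_le_normalizer _ (mem_centralizer_iff.2 fun b hb => hVy b hb)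
    have hne : V.subgroupOf W < ⊤ := lt_top_iff_ne_top.2 fun e => by
      rw [subgroupOf_eq_top] at e
      have := Nat.le_of_dvd Nat.card_pos (card_dvd_of_le e)
      rw [he, hW] at this
      norm_num at this
    haveI := L.pgroup.isNilpotent
    obtain ⟨z, hz, hzV⟩ := SetLike.exists_of_lt (Group.normalizerCondition_of_isNilpotent _ hne)
    have hzK : (z : ↥(centralizer ({v} : Set G))) ∈ K := mem_inf.2 ⟨z.2, by
      refine Subgroup.mem_normalizer_iff.2 fun a => ⟨fun ha => ?_, fun ha => ?_⟩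
      · exact (Subgroup.mem_normalizer_iff.1 hz ⟨a, (mem_inf.1 ha).1⟩).1 ha
      · have haW : a ∈ W := by
          have := (inferInstance : W.Normal).conj_mem _ (mem_inf.1 ha).1 (z : ↥(centralizer ({v} : Set G)))⁻¹
          simpa [mul_assoc] using this
        exact (Subgroup.mem_normalizer_iff.1 hz ⟨a, haW⟩).2 ha⟩
    rw [← he]
    refine lt_of_le_of_ne (Nat.le_of_dvd Nat.card_pos (card_dvd_of_le hVK)) fun e => hzV ?_
    rwa [← Subgroup.eq_of_le_of_card_ge hVK e.ge] at hzK
  have hcent : ∀ a ∈ V, ∀ w ∈ W, a * w = w * a := by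
    intro a ha
    set K := W ⊓ centralizer ({a} : Set ↥(centralizer ({v} : Set G))) with hK
    suffices hKW : K = W from fun w hw => (mem_centralizer_singleton_iff.1 (mem_inf.1 (hKW.symm ▸ hw : w ∈ K)).2).symm
    refine hfix K inf_le_left ?_ (fun b hb => mem_inf.2 ⟨(inferInstance : W.Normal).conj_mem b (mem_inf.1 hb).1 y',
      mul_mem (mul_mem ?_ (mem_inf.1 hb).2) (inv_mem ?_)⟩) ?_
    · intro b hb
      refine mem_inf.2 ⟨(mem_inf.1 hb).1, mem_centralizer_singleton_iff.2 ?_⟩
      have hi : ∀ {c}, c ∈ V → c⁻¹ = c := fun {c} hc => inv_eq_of_mul_eq_one_left (hsq c hc)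
      calc b * a = (b * a)⁻¹ := (hi (mul_mem hb ha)).symm
        _ = a⁻¹ * b⁻¹ := mul_inv_rev _ _
        _ = a * b := by rw [hi hb, hi ha]
    iterate 2
      exact mem_centralizer_singleton_iff.2 (hVy a ha).symm
    by_cases hav : a = 1 ∨ a = vD
    · rw [show K = W from inf_eq_left.2 fun w hw => mem_centralizer_singleton_iff.2 (by
        rcases hav with rfl | rfl
        · simp
        · exact (central_self v w).symm), hW]
      norm_num
    push Not at hav
    obtain ⟨ha1, hav⟩ := hav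
    have hv1 : vD ≠ 1 := fun e => by
      have : v = 1 := congrArg Subtype.val e
      rw [this, orderOf_one] at hv; norm_num at hv
    have havV : a * vD ∈ V := mul_mem ha hvV
    have h4 : (V : Set ↥(centralizer ({v} : Set G))) = {1, vD, a, a * vD} := by
      refine (Set.eq_of_subset_of_ncard_le ?_ ?_ (Set.toFinite _)).symm
      · rintro z (rfl | rfl | rfl | rfl)
        exacts [V.one_mem, hvV, ha, havV]
      · rw [← Nat.card_coe_set_eq]
        refine le_trans (le_of_eq he) (Set.ncard_eq_four.2 ⟨1, vD, a, a * vD, hv1.symm, Ne.symm ha1, ?_, Ne.symm hav, ?_, ?_, rfl⟩).ge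
        · intro e
          exact hav ((eq_inv_of_mul_eq_one_left e.symm).trans (inv_eq_of_mul_eq_one_left (hsq vD hvV)))
        · intro e
          exact ha1 (mul_eq_right.1 e.symm)
        · intro e
          exact hv1 (mul_eq_left.1 e.symm)
    -- the two possible images
    have htwo : ∀ w ∈ W, w * a * w⁻¹ = a ∨ w * a * w⁻¹ = a * vD := by
      intro w hw
      have h := hVn w hw a ha
      rw [← SetLike.mem_coe, h4] at h
      rcases h with h | h | h | h
      · exact absurd (conj_eq_one_iff.1 h) ha1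
      · refine absurd ((MulAut.conj w).injective (h.trans ?_)) hav
        show vD = w * vD * w⁻¹
        rw [← central_self v w, mul_inv_cancel_right]
      · exact Or.inl h
      · exact Or.inr h
    by_contra hle
    obtain ⟨w1, hw1, hw1K⟩ : ∃ w ∈ W, w ∉ K := by
      by_contra hh
      push Not at hh
      exact hle (by rw [show K = W from le_antisymm inf_le_left hh, hW]; norm_num)
    -- every element outside lies in one coset
    have hcov : ∀ w ∈ W, w ∈ K ∨ w1⁻¹ * w ∈ K := by
      intro w hw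
      rcases htwo w hw with h | h
      · exact Or.inl (mem_inf.2 ⟨hw, mem_centralizer_singleton_iff.2 (mul_inv_eq_iff_eq_mul.1 h)⟩)
      · refine Or.inr (mem_inf.2 ⟨mul_mem (inv_mem hw1) hw, mem_centralizer_singleton_iff.2 (mul_inv_eq_iff_eq_mul.1 ?_)⟩)
        have h' : w1 * a * w1⁻¹ = a * vD := (htwo w1 hw1).resolve_left fun e =>
          hw1K (mem_inf.2 ⟨hw1, mem_centralizer_singleton_iff.2 (mul_inv_eq_iff_eq_mul.1 e)⟩)
        rw [show w1⁻¹ * w * a * (w1⁻¹ * w)⁻¹ = w1⁻¹ * (w * a * w⁻¹) * w1 by group, h, ← h']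
        group
    have h2 : Nat.card ↥W ≤ Nat.card (↥K ⊕ ↥K) := by
      refine Nat.card_le_card_of_injective (fun w : ↥W => if hwK : (w : ↥(centralizer ({v} : Set G))) ∈ K then
        Sum.inl ⟨w.1, hwK⟩ else Sum.inr ⟨w1⁻¹ * w.1, (hcov w w.2).resolve_left hwK⟩) ?_
      intro b c e
      simp only at e
      split_ifs at e with h1 h2
      · exact Subtype.ext (by simpa using e)
      · exact Subtype.ext (by simpa using e)
    rw [Nat.card_sum, hW] at h2
    omega
  -- an element of order three moving the involution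
  obtain ⟨⟨t, ht, hty⟩⟩ : Nonempty {b : G // orderOf b = 3 ∧ b * (y' : G) = (y' : G) * b} := by
    refine (Nat.card_ne_zero.1 ?_).1
    have := (ncom_five H hy).2
    rw [ncom] at this
    omega
  have hnocomm : ∀ a : G, orderOf a = 2 → a * (y' : G) = (y' : G) * a → a * t ≠ t * a := by
    intro a ha hay hat
    refine order_comm H (a := a * t) (x := (y' : G)) ((show Commute a _ from hay).mul_left (show Commute t _ from hty)).eq
      (m := 6) ?_ hy (by norm_num)
    rw [(show Commute a t from hat).orderOf_mul_eq_mul_orderOf_of_coprime (by rw [ha, ht]; norm_num), ha, ht]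
  set VG := V.map (centralizer ({v} : Set G)).subtype with hVG
  have hVGc : Nat.card ↥VG = 4 := by rw [hVG, card_map_of_injective (centralizer ({v} : Set G)).subtype_injective, he]
  have hVGy : ∀ a ∈ VG, a * (y' : G) = (y' : G) * a := by
    rintro _ ⟨b, hb, rfl⟩
    exact congrArg Subtype.val (hVy b hb)
  have hVGsq : ∀ a ∈ VG, a * a = 1 := by
    rintro _ ⟨b, hb, rfl⟩
    exact congrArg Subtype.val (hsq b hb)
  have hvVG : v ∈ VG := ⟨vD, hvV, rfl⟩
  have hcomm_conj : ∀ {a c g : G}, g * c * g⁻¹ = c → a * c = c * a → g * a * g⁻¹ * c = c * (g * a * g⁻¹) := by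
    intro a c g hc hac
    have := conj_comm g hac
    rwa [hc] at this
  have htV : ∀ a ∈ VG, t * a * t⁻¹ ∈ VG := by
    intro a ha
    by_cases ha1 : a = 1
    · subst ha1; simp [VG.one_mem]
    refine four_all H hVGc hy hVGy hVGsq ((MulEquiv.orderOf_eq (MulAut.conj t) a).trans
      (orderOf_eq_prime (by rw [pow_two]; exact hVGsq a ha) ha1)) ?_
    exact hcomm_conj (by rw [hty, mul_inv_cancel_right]) (hVGy a ha)
  -- the centraliser of the four-group
  set R := centralizer (V : Set ↥(centralizer ({v} : Set G))) with hR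
  have hWR : W ≤ R := fun w hw => mem_centralizer_iff.2 fun a ha => hcent a ha w hw
  have hyR : y' ∈ R := mem_centralizer_iff.2 fun a ha => hVy a ha
  have hRmem : ∀ g : G, (∀ a ∈ VG, g * a = a * g) → ∃ hg : g ∈ (centralizer ({v} : Set G)), (⟨g, hg⟩ : ↥(centralizer ({v} : Set G))) ∈ R := fun g hg =>
    ⟨mem_centralizer_singleton_iff.2 (hg v hvVG), mem_centralizer_iff.2 fun a ha =>
      Subtype.ext (hg a ⟨a, ha, rfl⟩).symm⟩
  have hO2 : ∀ M : Subgroup ↥(centralizer ({v} : Set G)), M ≤ R → IsPGroup 2 ↥M → (∀ r ∈ R, ∀ m ∈ M, r * m * r⁻¹ ∈ M) → M ≤ W := by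
    intro M hMR hM2 hMn
    have hyinv : ∀ a ∈ M.map f, f y' * a * (f y')⁻¹ ∈ M.map f := by
      rintro _ ⟨m, hm, rfl⟩
      exact ⟨y' * m * y'⁻¹, hMn y' hyR m hm, by rw [map_mul, map_mul, map_inv]⟩
    have hfixX : ∀ K : Subgroup (↥(centralizer ({v} : Set G)) ⧸ W), IsPGroup 2 ↥K → (∀ a ∈ K, f y' * a * (f y')⁻¹ ∈ K) →
        Nat.card ↥K % 5 = 1 := by
      intro K hK2 hKy
      have h := card_fixed_mod L.ord hKy
      have h1 : Nat.card ↥(K ⊓ centralizer ({f y'} : Set (↥(centralizer ({v} : Set G)) ⧸ W))) = 1 := by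
        obtain ⟨k, hk⟩ := IsPGroup.iff_card.1 hK2
        exact Nat.eq_one_of_dvd_coprimes (Nat.Coprime.pow_left k (by norm_num : Nat.Coprime 2 5))
          (hk ▸ card_dvd_of_le inf_le_left) (hCX ▸ card_dvd_of_le inf_le_right)
      rw [h1] at h
      simpa using h
    obtain ⟨k, hk⟩ := IsPGroup.iff_card.1 (hM2.map f)
    have hk4 : k ≤ 4 := by
      by_contra hlt
      have := (pow_dvd_pow 2 (by omega : 5 ≤ k)).trans (hk ▸ hX ▸ card_subgroup_dvd_card (M.map f))
      norm_num at this
    have hm1 := hfixX _ (hM2.map f) hyinv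
    rw [hk] at hm1
    have hk' : k = 0 ∨ k = 4 := by interval_cases k <;> norm_num at hm1 <;> omega
    rcases hk' with rfl | rfl
    · rw [pow_zero, card_eq_one, Subgroup.map_eq_bot_iff, QuotientGroup.ker_mk'] at hk
      exact hk
    exfalso
    set K := M.map f ⊓ S with hK
    have hKm := hfixX K ((hM2.map f).to_le inf_le_left) fun a ha =>
      mem_inf.2 ⟨hyinv a (mem_inf.1 ha).1, hSn.conj_mem a (mem_inf.1 ha).2 _⟩
    have hK16 : Nat.card ↥K ∣ 16 := by
      refine (card_dvd_of_le inf_le_left).trans (dvd_of_eq ?_)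
      rw [hk]; norm_num
    have hK8 : Nat.card ↥K ∣ 8 := by
      have h := Nat.dvd_gcd hK16 (hS360 ▸ card_dvd_of_le (inf_le_right : K ≤ S))
      exact h.trans (dvd_of_eq (by norm_num))
    have hbig : 8 ≤ Nat.card ↥K := by
      have h1 : S.relIndex (M.map f) ≤ 2 := by
        refine (Nat.le_of_dvd ?_ (Subgroup.relIndex_dvd_index_of_normal S (M.map f))).trans_eq ?_
        · rw [Nat.pos_iff_ne_zero]; exact Subgroup.index_ne_zero_of_finite
        · have := S.index_mul_card
          rw [hS360, hX] at this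
          omega
      have h2 := Subgroup.relIndex_mul_relIndex ⊥ K (M.map f) bot_le inf_le_left
      rw [relIndex_bot_left, relIndex_bot_left, hK, inf_comm, Subgroup.inf_relIndex_right] at h2
      rw [hk] at h2
      rw [hK, inf_comm]
      have h3 : 2 ^ 4 ≤ Nat.card ↥(S ⊓ M.map f) * 2 := by
        rw [← h2]
        exact Nat.mul_le_mul_left _ h1
      omega
    rw [show Nat.card ↥K = 8 from le_antisymm (Nat.le_of_dvd (by norm_num) hK8) hbig] at hKm
    norm_num at hKm
  -- the normaliser of the core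
  set WG := W.map (centralizer ({v} : Set G)).subtype with hWG
  have hWGc : Nat.card ↥WG = 64 := by rw [hWG, card_map_of_injective (centralizer ({v} : Set G)).subtype_injective, hW]
  have hinv_cent : ∀ {g r : G}, (∀ a ∈ VG, g * a * g⁻¹ ∈ VG) → (∀ a ∈ VG, r * a = a * r) →
      ∀ a ∈ VG, g * r * g⁻¹ * a = a * (g * r * g⁻¹) := by
    intro g r hg hr a ha
    have hsurj : ∃ b ∈ VG, g * b * g⁻¹ = a := by
      let φ : ↥VG → ↥VG := fun b => ⟨g * b.1 * g⁻¹, hg b b.2⟩
      have : Function.Surjective φ := Finite.surjective_of_injective fun b c e => Subtype.ext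
        ((MulAut.conj g).injective (congrArg Subtype.val e : g * b.1 * g⁻¹ = g * c.1 * g⁻¹))
      obtain ⟨b, hb⟩ := this ⟨a, ha⟩
      exact ⟨b, b.2, congrArg Subtype.val hb⟩
    obtain ⟨b, hb, rfl⟩ := hsurj
    exact conj_comm g (hr b hb)
  have hcmp : ∀ {a b : ↥(centralizer ({v} : Set G))}, (a : G) = b → a = b := fun e => Subtype.ext e
  have hRG : ∀ {r : ↥(centralizer ({v} : Set G))}, r ∈ R → ∀ a ∈ VG, (r : G) * a = a * r := by
    rintro r hr _ ⟨b, hb, rfl⟩
    exact (congrArg Subtype.val (mem_centralizer_iff.1 hr b hb)).symm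
  have htW : ∀ a ∈ WG, t * a * t⁻¹ ∈ WG := by
    rintro _ ⟨a, ha, rfl⟩
    -- the conjugate core is a normal two-subgroup of the centraliser of the four-group
    have hti : ∀ b ∈ VG, t⁻¹ * b * t⁻¹⁻¹ ∈ VG := fun b hb => by
      have : t⁻¹ = t ^ 2 := inv_eq_of_mul_eq_one_left (by
        rw [← pow_succ, show 2 + 1 = orderOf t by rw [ht], pow_orderOf_eq_one])
      rw [this, show t ^ 2 * b * (t ^ 2)⁻¹ = t * (t * b * t⁻¹) * t⁻¹ by rw [pow_two]; group]
      exact htV _ (htV b hb)
    set M := (WG.map (MulAut.conj t).toMonoidHom).subgroupOf (centralizer ({v} : Set G)) with hM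
    have hMmem : ∀ m : ↥(centralizer ({v} : Set G)), m ∈ M → ∃ w ∈ W, t * (w : G) * t⁻¹ = m := by
      intro m hm
      obtain ⟨_, ⟨w, hw, rfl⟩, e⟩ := mem_subgroupOf.1 hm
      exact ⟨w, hw, e⟩
    have hmemM : ∀ m : ↥(centralizer ({v} : Set G)), (∃ w ∈ W, t * (w : G) * t⁻¹ = m) → m ∈ M := fun m ⟨w, hw, e⟩ =>
      mem_subgroupOf.2 ⟨(w : G), ⟨w, hw, rfl⟩, e⟩
    have hMR : M ≤ R := fun m hm => by
      obtain ⟨w, hw, e⟩ := hMmem m hm
      obtain ⟨hg, hgR⟩ := hRmem _ (hinv_cent htV (hRG (hWR hw)))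
      rwa [show m = ⟨_, hg⟩ from Subtype.ext e.symm]
    have hM2 : IsPGroup 2 ↥M := by
      have h1 : IsPGroup 2 ↥(WG.map (MulAut.conj t).toMonoidHom) :=
        IsPGroup.of_card (n := 6) (by rw [card_map_of_injective (MulAut.conj t).injective, hWGc]; norm_num)
      exact h1.comap_of_injective (centralizer ({v} : Set G)).subtype (centralizer ({v} : Set G)).subtype_injective
    have hMn : ∀ r ∈ R, ∀ m ∈ M, r * m * r⁻¹ ∈ M := fun r hr m hm => by
      obtain ⟨w, hw, e⟩ := hMmem m hm
      obtain ⟨hg, -⟩ := hRmem _ (hinv_cent hti (hRG hr))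
      refine hmemM _ ⟨⟨_, hg⟩ * w * ⟨_, hg⟩⁻¹, (inferInstance : W.Normal).conj_mem w hw _, ?_⟩
      push_cast
      rw [← e]
      group
    obtain ⟨hg, -⟩ := hRmem _ (hinv_cent htV (hRG (hWR ha)))
    exact ⟨⟨_, hg⟩, hO2 M hMR hM2 hMn (hmemM _ ⟨a, ha, rfl⟩), rfl⟩
  set N := normalizer (WG : Set G) with hN
  have hDN : (centralizer ({v} : Set G)) ≤ N := fun d hd => Subgroup.mem_normalizer_iff.2 fun a => by
    constructor
    · rintro ⟨w, hw, rfl⟩
      exact ⟨⟨d, hd⟩ * w * ⟨d, hd⟩⁻¹, (inferInstance : W.Normal).conj_mem w hw _, rfl⟩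
    · rintro ⟨w, hw, e⟩
      refine ⟨⟨d, hd⟩⁻¹ * w * ⟨d, hd⟩, by simpa using (inferInstance : W.Normal).conj_mem w hw ⟨d, hd⟩⁻¹, ?_⟩
      show d⁻¹ * (w : G) * d = a
      rw [show ((w : G)) = d * a * d⁻¹ from e]
      group
  have htN : t ∈ N := by
    refine Subgroup.mem_normalizer_iff.2 fun a => ⟨htW a, fun ha => ?_⟩
    have h3 : t ^ 3 = 1 := by rw [← ht, pow_orderOf_eq_one]
    have := htW _ (htW _ ha)
    rwa [show t * (t * (t * a * t⁻¹) * t⁻¹) * t⁻¹ = t ^ 3 * a * (t ^ 3)⁻¹ by rw [pow_succ, pow_two]; group, h3,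
      one_mul, inv_one, mul_one] at this
  have hN0 : Nat.card ↥N ∣ 967680 := by
    refine Nat.Coprime.dvd_of_dvd_mul_right (n := 11 * 23) (Nat.Coprime.mul_right ?_ ?_)
      ((card_subgroup_dvd_card N).trans (dvd_of_eq (by rw [H.card])))
    · exact ((Nat.Prime.coprime_iff_not_dvd (by norm_num)).2 (normalizer_not H hWGc (Or.inl rfl))).symm
    · exact ((Nat.Prime.coprime_iff_not_dvd (by norm_num)).2 (normalizer_not H hWGc (Or.inr rfl))).symm
  obtain ⟨k, hk⟩ : 46080 ∣ Nat.card ↥N := hCv ▸ card_dvd_of_le hDN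
  have hk21 : k ∣ 21 := Nat.dvd_of_mul_dvd_mul_left (show 0 < 46080 by norm_num) (hk ▸ hN0)
  have hyN : (y' : G) ∈ N := hDN y'.2
  have hNy : Nat.card ↥(N ⊓ normalizer (zpowers (y' : G) : Set G)) = 240 := by
    refine Nat.dvd_antisymm (card_norm_five H hy ▸ card_dvd_of_le inf_le_right) ?_
    have h80 : 80 ∣ Nat.card ↥(N ⊓ normalizer (zpowers (y' : G) : Set G)) :=
      (five_v H hy hv hvy).2 ▸ card_dvd_of_le (inf_le_inf_right _ hDN)
    have h3 : 3 ∣ Nat.card ↥(N ⊓ normalizer (zpowers (y' : G) : Set G)) := by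
      rw [← ht]
      exact Subgroup.orderOf_dvd_natCard _ (mem_inf.2 ⟨htN, cent_le_norm H _ (mem_centralizer_singleton_iff.2 hty)⟩)
    exact (show Nat.Coprime 80 3 by norm_num).mul_dvd_of_dvd_of_dvd h80 h3
  have hk3 : k = 3 := by
    have h5 : 5 ∣ Nat.card ↥N := ⟨9216 * k, by rw [hk]; ring⟩
    have h := sylow_mul_norm N (sylow_five_sub H N h5) hy hyN
    rw [hNy, hk] at h
    have hm : Nat.card (Sylow 5 ↥N) % 5 = 1 := card_sylow_modEq_one 5 ↥N
    rw [show Nat.card (Sylow 5 ↥N) = 192 * k from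
      Nat.eq_of_mul_eq_mul_right (show 0 < 240 by norm_num) (h.trans (by ring))] at hm
    have hall : ∀ d ∈ Nat.divisors 21, (192 * d) % 5 = 1 → d = 3 := by decide +kernel
    exact hall k (Nat.mem_divisors.2 ⟨hk21, by norm_num⟩) hm
  -- the class of the involution
  set T := Set.range fun g : ↥N => (g : G) * v * (g : G)⁻¹ with hT
  have hT3 : T.ncard = 3 := by
    have h := orbit_mul (K := N) (u := v) (hDN (self_mem_centralizer v))
    rw [show centralizer ({v} : Set G) ⊓ N = (centralizer ({v} : Set G)) from inf_eq_left.2 hDN, hCv, hk, hk3] at h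
    exact Nat.eq_of_mul_eq_mul_right (show 0 < 46080 by norm_num) (h.trans (by norm_num))
  have hVT : ∀ a ∈ VG, a ≠ 1 → a ∈ T := by
    set U := (VG : Set G) \ {1} with hU
    have hU3 : U.ncard = 3 := by
      rw [hU, Set.ncard_sdiff (Set.singleton_subset_iff.2 VG.one_mem), Set.ncard_singleton, ← Nat.card_coe_set_eq]
      exact (congrArg (· - 1) hVGc).trans rfl
    set U' : Set G := {v, t * v * t⁻¹, t * (t * v * t⁻¹) * t⁻¹} with hU'
    have hv1 : v ≠ 1 := fun e => by rw [e, orderOf_one] at hv; norm_num at hv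
    have hne1 : t * v * t⁻¹ ≠ v := fun e => hnocomm v hv hvy (mul_inv_eq_iff_eq_mul.1 e).symm
    have hU'U : U' ⊆ U := by
      rintro a (rfl | rfl | rfl)
      · exact ⟨hvVG, hv1⟩
      · exact ⟨htV v hvVG, fun e => hv1 (conj_eq_one_iff.1 e)⟩
      · exact ⟨htV _ (htV v hvVG), fun e => hv1 (conj_eq_one_iff.1 (conj_eq_one_iff.1 e))⟩
    have hU'3 : U'.ncard = 3 := by
      refine Set.ncard_eq_three.2 ⟨_, _, _, Ne.symm hne1, fun e => hne1 ?_,
        fun e => hne1 ((MulAut.conj t).injective (e : t * v * t⁻¹ = t * (t * v * t⁻¹) * t⁻¹)).symm, rfl⟩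
      have h3 : t ^ 3 = 1 := by rw [← ht, pow_orderOf_eq_one]
      calc t * v * t⁻¹ = t * (t * (t * v * t⁻¹) * t⁻¹) * t⁻¹ := by rw [← e]
        _ = t ^ 3 * v * (t ^ 3)⁻¹ := by rw [pow_succ, pow_two]; group
        _ = v := by rw [h3]; simp
    have heq : U' = U := Set.eq_of_subset_of_ncard_le hU'U (by omega) (Set.toFinite _)
    intro a ha ha1
    have : a ∈ U' := heq.symm ▸ (⟨ha, ha1⟩ : a ∈ U)
    rcases this with rfl | rfl | rfl
    · exact ⟨⟨1, one_mem _⟩, by simp⟩
    · exact ⟨⟨t, htN⟩, rfl⟩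
    · exact ⟨⟨t * t, mul_mem htN htN⟩, by simp only; group⟩
  have hTV : T = (VG : Set G) \ {1} := by
    refine (Set.eq_of_subset_of_ncard_le (fun a ha => hVT a ha.1 ha.2) ?_ (Set.toFinite _)).symm
    rw [hT3, Set.ncard_sdiff (Set.singleton_subset_iff.2 VG.one_mem), Set.ncard_singleton, ← Nat.card_coe_set_eq]
    exact le_of_eq ((congrArg (· - 1) hVGc).trans rfl).symm
  have hNV : ∀ g ∈ N, ∀ a ∈ VG, g * a * g⁻¹ ∈ VG := by
    intro g hg a ha
    by_cases ha1 : a = 1
    · subst ha1; simp [VG.one_mem]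
    obtain ⟨⟨b, hb⟩, e⟩ := hVT a ha ha1
    have h : g * a * g⁻¹ ∈ T := ⟨⟨g * b, mul_mem hg hb⟩, by simp only at e ⊢; rw [← e]; group⟩
    rw [hTV] at h
    exact h.1
  -- the subgroups of the normaliser
  set W' := WG.subgroupOf N with hW'
  set V' := VG.subgroupOf N with hV'
  haveI hW'n : W'.Normal := Subgroup.normal_in_normalizer
  haveI hV'n : V'.Normal := ⟨fun a ha g => hNV g g.2 a ha⟩
  have hWGN : WG ≤ N := le_normalizer
  have hVGW : VG ≤ WG := Subgroup.map_mono inf_le_left
  let ι : ↥(centralizer ({v} : Set G)) →* ↥N := Subgroup.inclusion hDN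
  let j : ↥(centralizer ({v} : Set G)) ⧸ W →* ↥N ⧸ W' := QuotientGroup.map W W' ι fun w hw => ⟨w, hw, rfl⟩
  have hj : Function.Injective j := by
    rw [← MonoidHom.ker_eq_bot_iff, eq_bot_iff]
    intro z hz
    obtain ⟨d, rfl⟩ := QuotientGroup.mk'_surjective W z
    have hd : ((ι d : ↥N) : ↥N ⧸ W') = 1 := hz
    rw [QuotientGroup.eq_one_iff] at hd
    obtain ⟨w, hw, e⟩ := hd
    rw [mem_bot, QuotientGroup.mk'_apply, QuotientGroup.eq_one_iff]
    rwa [show d = w from Subtype.ext e.symm]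
  set S' := S.map j with hS'
  have hS'n : S'.Normal := by
    constructor
    rintro _ ⟨z, hz, rfl⟩ g
    obtain ⟨n, rfl⟩ := QuotientGroup.mk'_surjective W' g
    -- the elements of order five generate the socle
    set C : Subgroup (↥(centralizer ({v} : Set G)) ⧸ W) := closure {z | orderOf z = 5}
    have hCn : C.Normal := by
      constructor
      intro x hx g
      induction hx using Subgroup.closure_induction with
      | mem x hx => exact subset_closure ((MulEquiv.orderOf_eq (MulAut.conj g) x).trans hx)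
      | one => simp
      | mul x y _ _ hx hy =>
        have := mul_mem hx hy
        rwa [show g * x * g⁻¹ * (g * y * g⁻¹) = g * (x * y) * g⁻¹ by group] at this
      | inv x _ hx =>
        have := inv_mem hx
        rwa [show (g * x * g⁻¹)⁻¹ = g * x⁻¹ * g⁻¹ by group] at this
    have hC1 : C ≠ ⊥ := fun e => by
      have h1 : f y' ∈ C := subset_closure L.ord
      rw [e, mem_bot] at h1
      have := L.ord
      rw [← hf, h1, orderOf_one] at this
      norm_num at this
    have hSC : S ≤ C := socle_le hSn hSs hScen hCn hC1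
    set K := (S'.comap (MulAut.conj (QuotientGroup.mk' W' n)).toMonoidHom).comap j with hK
    suffices hCK : C ≤ K from hCK (hSC hz)
    rw [closure_le]
    intro x hx
    obtain ⟨d, rfl⟩ := QuotientGroup.mk'_surjective W x
    have hxS := hSmem _ hx
    -- a lift of order five
    obtain ⟨i, hi1, hi0⟩ := Nat.chineseRemainder (show Nat.Coprime 5 64 by norm_num) 1 0
    have hfi : f (d ^ i) = f d := by rw [map_pow]; exact pow_eq_self_of_modEq hx hi1
    have hd5 : orderOf (d ^ i) = 5 := by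
      have h5 : (d ^ i) ^ 5 = 1 := by
        obtain ⟨q, rfl⟩ := Nat.modEq_zero_iff_dvd.1 hi0
        have hd5W : d ^ 5 ∈ W := by
          rw [← QuotientGroup.eq_one_iff, ← QuotientGroup.mk'_apply, map_pow, ← hx, pow_orderOf_eq_one]
        have h64 : (d ^ 5) ^ 64 = 1 := by
          rw [← orderOf_dvd_iff_pow_eq_one, ← hW]
          exact Subgroup.orderOf_dvd_natCard _ hd5W
        rw [← pow_mul, show 64 * q * 5 = 5 * 64 * q by ring, pow_mul, pow_mul, h64, one_pow]
      refine ((Nat.dvd_prime Nat.prime_five).1 (orderOf_dvd_of_pow_eq_one h5)).resolve_left fun e => ?_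
      rw [orderOf_eq_one_iff] at e
      rw [e, map_one] at hfi
      rw [hf] at hfi
      rw [Set.mem_ofPred_eq, ← hfi, orderOf_one] at hx
      norm_num at hx
    -- it centralises the four-group
    have hRn : R.Normal := ⟨fun r hr g => by
      obtain ⟨hg, hgR⟩ := hRmem _ (hinv_cent (hNV g (hDN g.2)) (hRG hr))
      exact hgR⟩
    have hdR : d ^ i ∈ R := by
      refine mem_of_image L.pgroup Nat.prime_five (by norm_num) hd5 ?_
      refine socle_le hSn hSs hScen (hRn.map f (QuotientGroup.mk'_surjective W)) (fun e => ?_) ?_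
      · have h1 := mem_map_of_mem f hyR
        rw [e, mem_bot] at h1
        have := L.ord
        rw [← hf, h1, orderOf_one] at this
        norm_num at this
      · rw [← hf, hfi]; exact hxS
    obtain ⟨hg, hgR⟩ := hRmem _ (hinv_cent (hNV (n : G) n.2) (hRG hdR))
    set d' : ↥(centralizer ({v} : Set G)) := ⟨_, hg⟩ with hd'
    have hd'5 : orderOf d' = 5 := by
      rw [← Subgroup.orderOf_coe]
      exact (MulEquiv.orderOf_eq (MulAut.conj (n : G)) _).trans ((Subgroup.orderOf_coe _).trans hd5)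
    have hd'S : f d' ∈ S := by
      refine hSmem _ (((Nat.dvd_prime Nat.prime_five).1 (hd'5 ▸ orderOf_map_dvd f d')).resolve_left fun e => ?_)
      rw [orderOf_eq_one_iff, hf, QuotientGroup.mk'_apply, QuotientGroup.eq_one_iff] at e
      have := (Subgroup.orderOf_dvd_natCard _ e)
      rw [hd'5, hW] at this
      norm_num at this
    refine ⟨f d', hd'S, ?_⟩
    show j (f d') = QuotientGroup.mk' W' n * j (f d) * (QuotientGroup.mk' W' n)⁻¹
    rw [← hfi]
    show ((ι d' : ↥N) : ↥N ⧸ W') = (n : ↥N ⧸ W') * ((ι (d ^ i) : ↥N) : ↥N ⧸ W') * (n : ↥N ⧸ W')⁻¹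
    rw [← QuotientGroup.mk_inv, ← QuotientGroup.mk_mul, ← QuotientGroup.mk_mul]
    rfl
  refine ⟨N, W', V', hW'n, hV'n, ⟨(y' : G), hyN⟩, ⟨t, htN⟩, S', ?_⟩
  haveI hS's : IsSimpleGroup ↥S' := MulEquiv.isSimpleGroup (Subgroup.equivMapOfInjective S j hj).symm
  exact {
    cardW := by rw [hW', Nat.card_congr (subgroupOfEquivOfLe hWGN).toEquiv, hWGc]
    cardV := by rw [hV', Nat.card_congr (subgroupOfEquivOfLe (hVGW.trans hWGN)).toEquiv, hVGc]
    le := fun a ha => hVGW ha
    hy := by rw [Subgroup.orderOf_mk]; exact hy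
    ht := by rw [Subgroup.orderOf_mk]; exact ht
    comm := Subtype.ext hty
    fixy := by
      ext a
      simp only [mem_inf, mem_centralizer_singleton_iff, hW', hV', mem_subgroupOf]
      constructor
      · rintro ⟨⟨w, hw, e⟩, hc⟩
        refine ⟨w, mem_inf.2 ⟨hw, mem_centralizer_singleton_iff.2 (Subtype.ext ?_)⟩, e⟩
        have := congrArg Subtype.val hc
        show (w : G) * y' = y' * w
        rw [show (w : G) = a from e]
        exact this
      · intro ha
        exact ⟨hVGW ha, Subtype.ext (hVGy _ ha)⟩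
    fixt := by
      rw [eq_bot_iff]
      intro a ha
      obtain ⟨ha, hc⟩ := mem_inf.1 ha
      rw [mem_bot]
      by_contra ha1
      have ha1' : (a : G) ≠ 1 := fun e => ha1 (Subtype.ext e)
      exact hnocomm a (orderOf_eq_prime (by rw [pow_two]; exact hVGsq _ ha) ha1') (hVGy _ ha)
        (congrArg Subtype.val (mem_centralizer_singleton_iff.1 hc))
    sq := fun a ha => Subtype.ext (hVGsq _ ha)
    central := fun a ha w hw => by
      obtain ⟨a', ha', ea⟩ := mem_subgroupOf.1 ha
      obtain ⟨w', hw', ew⟩ := mem_subgroupOf.1 hw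
      refine Subtype.ext ?_
      show (a : G) * w = w * a
      rw [← ea, ← ew]
      exact congrArg Subtype.val (hcent a' ha' w' hw')
    normS := hS'n
    simple := hS's
    noncomm := fun hc => hSnc fun a b => (Subgroup.equivMapOfInjective S j hj).injective (by
      rw [map_mul, map_mul]; exact hc _ _)
    cardS := by rw [hS', card_map_of_injective hj, hS360]
    memS := ⟨f y', hSmem _ L.ord, rfl⟩ }

end Cfsg.Lib.M24Nse
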