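import Cfsg.Agent.M24Nse.BetaBig
import Cfsg.Agent.PermGen.AltPair

/-!
The largest case of the centraliser of an involution commuting with an element of order five does not occur.
-/

set_option autoImplicit false
set_option linter.unusedSectionVars false
set_option linter.style.haveILetI false
set_option maxRecDepth 100000
set_option maxHeartbeats 1000000

namespace Cfsg.Lib.M24Nse

open Subgroup Cfsg.Lib.SameOrder
open scoped Pointwise

universe u

section General

variable {S : Type u} [Group S] [Finite S]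

local instance fact_three_mfbk0 : Fact (Nat.Prime 3) := ⟨Nat.prime_three⟩

/-- A simple group of order 360 has ten Sylow 3-subgroups. -/
theorem card_sylow_three_simple [IsSimpleGroup S] (hnc : ¬ ∀ a b : S, a * b = b * a) (hc : Nat.card S = 360) :
    Nat.card (Sylow 3 S) = 10 := by
  classical
  have := Fintype.ofFinite (Sylow 3 S)
  obtain ⟨P⟩ : Nonempty (Sylow 3 S) := inferInstance
  have hP : Nat.card ↥(P : Subgroup S) = 9 := by
    simpa using Cfsg.Lib.Small.card_sylow_of_factor P (a := 2) (m := 40) (by rw [hc]; norm_num) (by norm_num)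
  have hidx : (P : Subgroup S).index = 40 := by
    have := (P : Subgroup S).index_mul_card
    rw [hP, hc] at this
    omega
  have hall : ∀ d ∈ Nat.divisors 40, d % 3 = 1 → d = 1 ∨ d = 4 ∨ d = 10 ∨ d = 40 := by decide +kernel
  have hn := hall (Nat.card (Sylow 3 S)) (Nat.mem_divisors.2 ⟨hidx ▸ P.card_dvd_index, by norm_num⟩)
    (card_sylow_modEq_one 3 S)
  have hnorm : ∀ Q : Sylow 3 S, normalizer ((Q : Subgroup S) : Set S) ≠ ⊤ := fun Q htop => by
    haveI hQn : (Q : Subgroup S).Normal := normalizer_eq_top_iff.1 htop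
    have hQ : Nat.card ↥(Q : Subgroup S) = 9 := by
      simpa using Cfsg.Lib.Small.card_sylow_of_factor Q (a := 2) (m := 40) (by rw [hc]; norm_num) (by norm_num)
    rcases hQn.eq_bot_or_eq_top with e | e
    · rw [e, Subgroup.card_bot] at hQ; norm_num at hQ
    · rw [e, Subgroup.card_top, hc] at hQ; norm_num at hQ
  rcases hn with e | e | e | e
  · exfalso
    refine hnorm P ?_
    rw [← Subgroup.index_eq_one]
    exact P.card_eq_index_normalizer.symm.trans e
  · exfalso
    have hker : (MulAction.toPermHom S (Sylow 3 S)).ker = ⊥ := by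
      refine ((inferInstance : (MulAction.toPermHom S (Sylow 3 S)).ker.Normal).eq_bot_or_eq_top).resolve_right
        fun htop => hnorm P (eq_top_iff.2 fun g _ => ?_)
      have hg := DFunLike.congr_fun (MonoidHom.mem_ker.1 (htop.symm ▸ mem_top g : g ∈ (MulAction.toPermHom S (Sylow 3 S)).ker)) P
      exact Sylow.smul_eq_iff_mem_normalizer.1 hg
    have h := Subgroup.card_subgroup_dvd_card (MulAction.toPermHom S (Sylow 3 S)).range
    rw [← Nat.card_congr (MonoidHom.ofInjective ((MonoidHom.ker_eq_bot_iff _).1 hker)).toEquiv, hc, Nat.card_perm,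
      e] at h
    norm_num [Nat.factorial] at h
  · exact e
  · exfalso
    have hN : normalizer ((P : Subgroup S) : Set S) = (P : Subgroup S) := by
      refine (Subgroup.eq_of_le_of_card_ge le_normalizer ?_).symm
      have h := Cfsg.Lib.Small.card_normalizer_mul P
      rw [e, hc] at h
      rw [hP]
      omega
    have hab : ∀ a ∈ (P : Subgroup S), ∀ b ∈ (P : Subgroup S), a * b = b * a := fun a ha b hb =>
      congrArg Subtype.val (IsPGroup.isMulCommutative_of_card_eq_prime_sq (p := 3)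
        (by rw [hP]; norm_num) |>.is_comm.comm (⟨a, ha⟩ : ↥(P : Subgroup S)) ⟨b, hb⟩)
    obtain ⟨L, hL, hmul, -⟩ := Cfsg.Lib.PermGen.burnside_complement P (fun a ha =>
      mem_centralizer_iff.2 fun b hb => hab b hb a (hN ▸ ha))
    rw [hP, hc] at hmul
    rcases hL.eq_bot_or_eq_top with e' | e'
    · rw [e', Subgroup.card_bot] at hmul; norm_num at hmul
    · rw [e', Subgroup.card_top, hc] at hmul; norm_num at hmul

local instance fact_five_mfbk0 : Fact (Nat.Prime 5) := ⟨Nat.prime_five⟩

/-- An automorphism of order dividing three commuting with conjugation by an element of order five is trivial. -/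
theorem aut_trivial [IsSimpleGroup S] (hnc : ¬ ∀ a b : S, a * b = b * a) (hc : Nat.card S = 360)
    (τ : MulAut S) (h3 : τ ^ 3 = 1) {a : S} (ha : orderOf a = 5) (hfix : τ a = a) : τ = 1 := by
  classical
  have := Fintype.ofFinite (Sylow 3 S)
  set π : MulAut S := MulAut.conj a with hπ
  have hcomm : τ * π = π * τ := by
    refine MulEquiv.ext fun z => ?_
    show τ (a * z * a⁻¹) = a * τ z * a⁻¹
    rw [map_mul, map_mul, map_inv, hfix]
  have hfree : ∀ Q : Sylow 3 S, π • Q ≠ Q := fun Q hQ => by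
    have hm : a ∈ normalizer ((Q : Subgroup S) : Set S) := Sylow.smul_eq_iff_mem_normalizer.1 hQ
    have h := Cfsg.Lib.Small.card_normalizer_mul Q
    rw [card_sylow_three_simple hnc hc, hc] at h
    have h5 := ha ▸ Subgroup.orderOf_dvd_natCard _ hm
    rw [show Nat.card ↥(normalizer ((Q : Subgroup S) : Set S)) = 36 by omega] at h5
    norm_num at h5
  set F := {Q : Sylow 3 S | τ • Q = Q} with hF
  have h1 := MathieuEleven.ncard_fixed_mod (p := 3) (x := τ) (k := 1) (by rw [pow_one]; exact h3)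
    (s := (Set.univ : Set (Sylow 3 S))) fun _ _ => Set.mem_univ _
  rw [Set.ncard_univ, card_sylow_three_simple hnc hc,
    show {Q ∈ (Set.univ : Set (Sylow 3 S)) | τ • Q = Q} = F from Set.ext fun Q => ⟨fun h => h.2, fun h => ⟨trivial, h⟩⟩] at h1
  have h2 := MathieuEleven.ncard_fixed_mod (p := 5) (x := π) (k := 1)
    (by rw [pow_one, hπ, ← map_pow, ← ha, pow_orderOf_eq_one, map_one]) (s := F) (fun Q hQ => by
      show τ • (π • Q) = π • Q
      rw [← mul_smul, hcomm, mul_smul, show τ • Q = Q from hQ])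
  rw [show {Q ∈ F | π • Q = Q} = ∅ from Set.eq_empty_iff_forall_notMem.2 fun Q hQ => hfree Q hQ.2,
    Set.ncard_empty] at h2
  have hle : F.ncard ≤ 10 := by
    rw [← card_sylow_three_simple hnc hc, ← Set.ncard_univ]
    exact Set.ncard_le_ncard (Set.subset_univ _) (Set.toFinite _)
  have hall : ∀ Q : Sylow 3 S, τ • Q = Q := fun Q => by
    have : F = Set.univ := Set.eq_of_subset_of_ncard_le (Set.subset_univ _)
      (by rw [Set.ncard_univ, card_sylow_three_simple hnc hc]; omega) (Set.toFinite _)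
    exact (this.symm ▸ Set.mem_univ Q : Q ∈ F)
  refine MulEquiv.ext fun g => ?_
  have hgQ : ∀ Q : Sylow 3 S, MulAut.conj (g⁻¹ * τ g) • Q = Q := fun Q => by
    have he : MulAut.conj (τ g) * τ = τ * MulAut.conj g := MulEquiv.ext fun z => by
      show τ g * τ z * (τ g)⁻¹ = τ (g * z * g⁻¹)
      rw [map_mul, map_mul, map_inv]
    have h := hall (MulAut.conj g • Q)
    rw [← mul_smul, ← he, mul_smul, hall Q] at h
    rw [map_mul, mul_smul, h, map_inv, inv_smul_smul]
  have hker : (MulAction.toPermHom S (Sylow 3 S)).ker = ⊥ := by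
    refine ((inferInstance : (MulAction.toPermHom S (Sylow 3 S)).ker.Normal).eq_bot_or_eq_top).resolve_right
      fun htop => ?_
    obtain ⟨P⟩ : Nonempty (Sylow 3 S) := inferInstance
    have hN : normalizer ((P : Subgroup S) : Set S) = ⊤ := eq_top_iff.2 fun g _ => by
      have hg := DFunLike.congr_fun
        (MonoidHom.mem_ker.1 (htop.symm ▸ mem_top g : g ∈ (MulAction.toPermHom S (Sylow 3 S)).ker)) P
      exact Sylow.smul_eq_iff_mem_normalizer.1 hg
    have h : Nat.card (Sylow 3 S) = 1 := P.card_eq_index_normalizer.trans (Subgroup.index_eq_one.2 hN)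
    rw [card_sylow_three_simple hnc hc] at h
    norm_num at h
  have hmem : g⁻¹ * τ g ∈ (MulAction.toPermHom S (Sylow 3 S)).ker := MonoidHom.mem_ker.2 (Equiv.ext fun Q => hgQ Q)
  rw [hker, mem_bot] at hmem
  exact (inv_mul_eq_one.1 hmem).symm

end General

variable {G : Type u} [Group G] [Finite G]

local instance fact_two_mfbk : Fact (Nat.Prime 2) := ⟨Nat.prime_two⟩
local instance fact_three_mfbk : Fact (Nat.Prime 3) := ⟨Nat.prime_three⟩
local instance fact_five_mfbk : Fact (Nat.Prime 5) := ⟨Nat.prime_five⟩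
local instance fact_seven_mfbk : Fact (Nat.Prime 7) := ⟨by norm_num⟩

variable (H : Counts G)
include H

theorem cent_five_three {y t : G} (hy : orderOf y = 5) (ht : orderOf t = 3) (hty : t * y = y * t) :
    Nat.card ↥(centralizer ({t} : Set G) ⊓ centralizer ({y} : Set G)) = 15 := by
  have hd : Nat.card ↥(centralizer ({t} : Set G) ⊓ centralizer ({y} : Set G)) ∣ 15 * 4 :=
    (card_dvd_of_le inf_le_right).trans (dvd_of_eq (card_cent_five H hy))
  have hodd : ¬ 2 ∣ Nat.card ↥(centralizer ({t} : Set G) ⊓ centralizer ({y} : Set G)) := fun h => by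
    obtain ⟨⟨a, ha⟩, hao⟩ := exists_prime_orderOf_dvd_card' 2 h
    rw [Subgroup.orderOf_mk] at hao
    obtain ⟨ha1, ha2⟩ := mem_inf.1 ha
    have h1 := mem_centralizer_singleton_iff.1 ha1
    refine order_comm H (a := a * t) (x := y)
      ((show Commute a y from mem_centralizer_singleton_iff.1 ha2).mul_left (show Commute t y from hty)).eq
      (m := 6) ?_ hy (by norm_num)
    rw [(show Commute a t from h1).orderOf_mul_eq_mul_orderOf_of_coprime (by rw [hao, ht]; norm_num), hao, ht]
  refine Nat.dvd_antisymm ((Nat.Coprime.pow_right 2 ((Nat.Prime.coprime_iff_not_dvd Nat.prime_two).2 hodd).symm).dvd_of_dvd_mul_right hd) ?_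
  have h3 : 3 ∣ Nat.card ↥(centralizer ({t} : Set G) ⊓ centralizer ({y} : Set G)) :=
    ht ▸ Subgroup.orderOf_dvd_natCard _ (mem_inf.2 ⟨mem_centralizer_singleton_iff.2 rfl, mem_centralizer_singleton_iff.2 hty⟩)
  have h5 : 5 ∣ Nat.card ↥(centralizer ({t} : Set G) ⊓ centralizer ({y} : Set G)) :=
    hy ▸ Subgroup.orderOf_dvd_natCard _ (mem_inf.2 ⟨mem_centralizer_singleton_iff.2 hty.symm, mem_centralizer_singleton_iff.2 rfl⟩)
  exact (show Nat.Coprime 3 5 by norm_num).mul_dvd_of_dvd_of_dvd h3 h5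

/-- all elements of order three commuting with an element of order five have centralisers of equal order -/
theorem cent_three_five {y t y₂ t₂ : G} (hy : orderOf y = 5) (ht : orderOf t = 3) (hty : t * y = y * t)
    (hy₂ : orderOf y₂ = 5) (ht₂ : orderOf t₂ = 3) (hty₂ : t₂ * y₂ = y₂ * t₂) :
    Nat.card ↥(centralizer ({t₂} : Set G)) = Nat.card ↥(centralizer ({t} : Set G)) := by
  obtain ⟨g, hg⟩ := exists_conj_zpowers (card_sylow_five H) hy₂ hy
  set t₃ := g * t₂ * g⁻¹ with ht₃
  have h3o : orderOf t₃ = 3 := (MulEquiv.orderOf_eq (MulAut.conj g) t₂).trans ht₂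
  have h3y : t₃ * y = y * t₃ := (hg _).1 (conj_comm g hty₂)
  -- Sylow subgroups of the centraliser
  set C := centralizer ({y} : Set G)
  have hS : ∀ P : Sylow 3 ↥C, Nat.card ↥(P : Subgroup ↥C) = 3 := fun P => by
    simpa using Cfsg.Lib.Small.card_sylow_of_factor P (a := 1) (m := 20) (by rw [card_cent_five H hy]; norm_num) (by norm_num)
  obtain ⟨c, hc⟩ := exists_conj_zpowers (G := ↥C) hS (x := (⟨t₃, mem_centralizer_singleton_iff.2 h3y⟩ : ↥C))
    (y := (⟨t, mem_centralizer_singleton_iff.2 hty⟩ : ↥C)) (by rw [Subgroup.orderOf_mk]; exact h3o)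
    (by rw [Subgroup.orderOf_mk]; exact ht)
  obtain ⟨P, hP⟩ := M12Nse.exists_sylow_zpowers hS (x := (⟨t₃, mem_centralizer_singleton_iff.2 h3y⟩ : ↥C))
    (by rw [Subgroup.orderOf_mk]; exact h3o)
  obtain ⟨Q, hQ⟩ := M12Nse.exists_sylow_zpowers hS (x := (⟨t, mem_centralizer_singleton_iff.2 hty⟩ : ↥C))
    (by rw [Subgroup.orderOf_mk]; exact ht)
  obtain ⟨d, hd⟩ := MulAction.exists_smul_eq ↥C P Q
  obtain ⟨k, hk⟩ := mem_zpowers_iff.1 (show d * (⟨t₃, mem_centralizer_singleton_iff.2 h3y⟩ : ↥C) * d⁻¹ ∈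
      zpowers (⟨t, mem_centralizer_singleton_iff.2 hty⟩ : ↥C) by
    rw [← hQ, ← hd, Sylow.coe_subgroup_smul, hP]
    exact smul_mem_pointwise_smul _ (MulAut.conj d) _ (mem_zpowers _))
  have hk' : t ^ k = (d : G) * t₃ * (d : G)⁻¹ := congrArg Subtype.val hk
  have he : centralizer ({(d : G) * t₃ * (d : G)⁻¹} : Set G) = centralizer ({t} : Set G) := by
    have h1 : zpowers ((d : G) * t₃ * (d : G)⁻¹) = zpowers t := Subgroup.eq_of_le_of_card_ge
      (zpowers_le.2 (hk' ▸ zpow_mem (mem_zpowers t) k)) (by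
        rw [Nat.card_zpowers, Nat.card_zpowers, ← MulAut.conj_apply, MulEquiv.orderOf_eq, h3o, ht])
    rw [← centralizer_closure, ← centralizer_closure (s := ({t} : Set G)), ← zpowers_eq_closure, ← zpowers_eq_closure, h1]
  rw [← he, M12Nse.card_centralizer_conj, ht₃, M12Nse.card_centralizer_conj]

theorem norm_cent_three {y t : G} (hy : orderOf y = 5) (ht : orderOf t = 3) (hty : t * y = y * t) :
    Nat.card ↥(centralizer ({t} : Set G) ⊓ normalizer (zpowers y : Set G)) = 30 ∨
      Nat.card ↥(centralizer ({t} : Set G) ⊓ normalizer (zpowers y : Set G)) = 60 := by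
  have hC := cent_five_three H hy ht hty
  have htC : t ∈ centralizer ({y} : Set G) := mem_centralizer_singleton_iff.2 hty
  have h1 := orbit_mul (K := centralizer ({y} : Set G)) (u := t) htC
  rw [hC, card_cent_five H hy] at h1
  have h2 := orbit_mul (K := normalizer (zpowers y : Set G)) (u := t) (cent_le_norm H y htC)
  rw [card_norm_five H hy] at h2
  set T1 := Set.range fun g : ↥(centralizer ({y} : Set G)) => (g : G) * t * (g : G)⁻¹
  set T2 := Set.range fun g : ↥(normalizer (zpowers y : Set G)) => (g : G) * t * (g : G)⁻¹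
  have hsub : T1 ⊆ T2 := by rintro _ ⟨g, rfl⟩; exact ⟨⟨g, cent_le_norm H y g.2⟩, rfl⟩
  have hle := Set.ncard_le_ncard hsub (Set.toFinite _)
  have h8 : T2.ncard ≤ 8 := by
    have h : ({b | orderOf b = 3 ∧ b * y = y * b} : Set G).ncard = 8 := by
      rw [← Nat.card_coe_set_eq]; exact (ncom_five H hy).2
    rw [← h]
    refine Set.ncard_le_ncard ?_ (Set.toFinite _)
    rintro _ ⟨g, rfl⟩
    refine ⟨(MulEquiv.orderOf_eq (MulAut.conj (g : G)) t).trans ht, ?_⟩
    have hgy : (g : G)⁻¹ * y * g ∈ zpowers y := by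
      have := (Subgroup.mem_normalizer_iff.1 (inv_mem g.2) y).1 (mem_zpowers y)
      simpa using this
    obtain ⟨k, hk⟩ := mem_zpowers_iff.1 hgy
    have hcom : t * ((g : G)⁻¹ * y * g) = (g : G)⁻¹ * y * g * t := hk ▸ ((show Commute t y from hty).zpow_right k).eq
    have := conj_comm (g : G) hcom
    rwa [show (g : G) * ((g : G)⁻¹ * y * g) * (g : G)⁻¹ = y by group] at this
  set M := Nat.card ↥(centralizer ({t} : Set G) ⊓ normalizer (zpowers y : Set G)) with hM
  have hM15 : 15 ∣ M := hC ▸ card_dvd_of_le (inf_le_inf_left _ (cent_le_norm H y))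
  obtain ⟨m, hm⟩ := hM15
  rw [hm] at h2 ⊢
  have hT1 : T1.ncard = 4 := by omega
  have hm16 : T2.ncard * m = 16 := by
    refine Nat.eq_of_mul_eq_mul_left (show 0 < 15 by norm_num) ?_
    linear_combination h2
  have hT : T2.ncard ∈ Nat.divisors 16 := Nat.mem_divisors.2 ⟨⟨m, hm16.symm⟩, by norm_num⟩
  have hall : ∀ d ∈ Nat.divisors 16, 4 ≤ d → d ≤ 8 → d = 4 ∨ d = 8 := by decide +kernel
  rcases hall _ hT (hT1 ▸ hle) h8 with e | e <;> rw [e] at hm16 <;> omega

theorem seven_three_shape {x t : G} (hx : orderOf x = 7) (ht : orderOf t = 3) (htx : t * x = x * t) :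
    ∃ n : ℕ, Nat.card ↥(centralizer ({t} : Set G)) = 63 * n ∧ n % 7 = 1 ∧ n ∣ 15360 := by
  have h42 := card_cent_seven H hx
  have htC : t ∈ centralizer ({x} : Set G) := mem_centralizer_singleton_iff.2 htx
  have hodd : ¬ 2 ∣ Nat.card ↥(centralizer ({t} : Set G) ⊓ centralizer ({x} : Set G)) := fun h => by
    obtain ⟨⟨a, ha⟩, hao⟩ := exists_prime_orderOf_dvd_card' 2 h
    rw [Subgroup.orderOf_mk] at hao
    obtain ⟨ha1, ha2⟩ := mem_inf.1 ha
    refine order_comm H (a := a * t) (x := x)
      ((show Commute a x from mem_centralizer_singleton_iff.1 ha2).mul_left (show Commute t x from htx)).eq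
      (m := 6) ?_ hx (by norm_num)
    rw [(show Commute a t from mem_centralizer_singleton_iff.1 ha1).orderOf_mul_eq_mul_orderOf_of_coprime
      (by rw [hao, ht]; norm_num), hao, ht]
  have h1 := orbit_mul (K := centralizer ({x} : Set G)) (u := t) htC
  have h2 := orbit_mul (K := normalizer (zpowers x : Set G)) (u := t) (cent_le_norm H x htC)
  rw [h42] at h1
  rw [card_norm_seven H hx] at h2
  set T1 := Set.range fun g : ↥(centralizer ({x} : Set G)) => (g : G) * t * (g : G)⁻¹
  set T2 := Set.range fun g : ↥(normalizer (zpowers x : Set G)) => (g : G) * t * (g : G)⁻¹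
  have hsub : T1 ⊆ T2 := by rintro _ ⟨g, rfl⟩; exact ⟨⟨g, cent_le_norm H x g.2⟩, rfl⟩
  have hle := Set.ncard_le_ncard hsub (Set.toFinite _)
  have h2' : T2.ncard ≤ 2 := by
    have h : ({b | orderOf b = 3 ∧ b * x = x * b} : Set G).ncard = 2 := by
      rw [← Nat.card_coe_set_eq]; exact (ncom_seven H hx).2
    rw [← h]
    refine Set.ncard_le_ncard ?_ (Set.toFinite _)
    rintro _ ⟨g, rfl⟩
    refine ⟨(MulEquiv.orderOf_eq (MulAut.conj (g : G)) t).trans ht, ?_⟩
    have hgy : (g : G)⁻¹ * x * g ∈ zpowers x := by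
      have := (Subgroup.mem_normalizer_iff.1 (inv_mem g.2) x).1 (mem_zpowers x)
      simpa using this
    obtain ⟨k, hk⟩ := mem_zpowers_iff.1 hgy
    have hcom : t * ((g : G)⁻¹ * x * g) = (g : G)⁻¹ * x * g * t := hk ▸ ((show Commute t x from htx).zpow_right k).eq
    have := conj_comm (g : G) hcom
    rwa [show (g : G) * ((g : G)⁻¹ * x * g) * (g : G)⁻¹ = x by group] at this
  have hT1 : T1.ncard = 2 := by
    have hpos : 0 < T1.ncard := (Set.ncard_pos (Set.toFinite _)).2 ⟨t, ⟨1, by simp⟩⟩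
    rcases (show T1.ncard = 1 ∨ T1.ncard = 2 by omega) with e | e
    · exfalso
      rw [e, one_mul] at h1
      exact hodd (h1 ▸ by norm_num)
    · exact e
  rw [show T2.ncard = 2 by omega] at h2
  have h63 : Nat.card ↥(centralizer ({t} : Set G) ⊓ normalizer (zpowers x : Set G)) = 63 := by omega
  have h7 : 7 ∣ Nat.card ↥(centralizer ({t} : Set G)) := hx ▸ M12Nse.dvd_centralizer_orderOf htx.symm
  have h := sylow_mul_norm _ (sylow_seven_sub H _ h7) hx (mem_centralizer_singleton_iff.2 htx.symm)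
  rw [h63] at h
  refine ⟨_, h.symm.trans (mul_comm _ _), card_sylow_modEq_one 7 _, ?_⟩
  have hd : 63 * Nat.card (Sylow 7 ↥(centralizer ({t} : Set G))) ∣ 63 * (15360 * 253) := by
    rw [mul_comm 63 (Nat.card _), h]
    exact (card_subgroup_dvd_card _).trans (dvd_of_eq (by rw [H.card]))
  refine Nat.Coprime.dvd_of_dvd_mul_right ?_ (Nat.dvd_of_mul_dvd_mul_left (by norm_num) hd)
  rw [show 253 = 11 * 23 from rfl]
  have hnot : ∀ q : ℕ, q = 11 ∨ q = 23 → ¬ q ∣ Nat.card (Sylow 7 ↥(centralizer ({t} : Set G))) := by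
    intro q hq hd'
    have : Fact q.Prime := ⟨by rcases hq with rfl | rfl <;> norm_num⟩
    obtain ⟨⟨w, hw⟩, hwo⟩ := exists_prime_orderOf_dvd_card' q (hd'.trans (Dvd.intro _ h))
    rw [Subgroup.orderOf_mk] at hwo
    rcases hq with rfl | rfl
    · exact order_comm H (mem_centralizer_singleton_iff.1 hw) hwo ht (by norm_num)
    · exact order_comm H (mem_centralizer_singleton_iff.1 hw) hwo ht (by norm_num)
  exact Nat.Coprime.mul_right ((Nat.Prime.coprime_iff_not_dvd (by norm_num)).2 (hnot 11 (Or.inl rfl))).symm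
    ((Nat.Prime.coprime_iff_not_dvd (by norm_num)).2 (hnot 23 (Or.inr rfl))).symm

/-- an abelian Sylow 3-subgroup with a large centraliser contradicts the counts -/
theorem false_abelian {y t : G} (hy : orderOf y = 5) (ht : orderOf t = 3) (hty : t * y = y * t)
    (h128 : 128 ∣ Nat.card ↥(centralizer ({t} : Set G)))
    {P : Subgroup G} (hP : Nat.card ↥P = 27) (hab : ∀ a ∈ P, ∀ b ∈ P, a * b = b * a) : False := by
  obtain ⟨x, hx⟩ := exists_order H (n := 7)
  obtain ⟨⟨t₂, ht₂, htx⟩⟩ : Nonempty {b : G // orderOf b = 3 ∧ b * x = x * b} := by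
    refine (Nat.card_ne_zero.1 ?_).1
    have := (ncom_seven H hx).2
    rw [ncom] at this
    omega
  obtain ⟨n, hn, hn7, hnd⟩ := seven_three_shape H hx ht₂ htx
  -- twenty-seven divides
  have h27 : 27 ∣ Nat.card ↥(centralizer ({t₂} : Set G)) := by
    obtain ⟨Q, hQ⟩ := IsPGroup.exists_le_sylow
      (IsPGroup.of_card (p := 3) (n := 1) (by rw [Nat.card_zpowers, ht₂, pow_one]) : IsPGroup 3 ↥(zpowers t₂))
    obtain ⟨R, hR⟩ := (IsPGroup.of_card (p := 3) (n := 3) (by rw [hP]; norm_num) : IsPGroup 3 ↥P).exists_le_sylow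
    have hRc : Nat.card ↥(R : Subgroup G) = 27 := by
      simpa using Cfsg.Lib.Small.card_sylow_of_factor R (a := 3) (m := 9067520) (by rw [H.card]; norm_num) (by norm_num)
    have hPR : P = (R : Subgroup G) := Subgroup.eq_of_le_of_card_ge hR (by rw [hRc, hP])
    obtain ⟨g, hg⟩ := MulAction.exists_smul_eq G R Q
    have hQe : (Q : Subgroup G) = MulAut.conj g • P := by rw [hPR, ← hg, Sylow.coe_subgroup_smul]
    have hle : (Q : Subgroup G) ≤ centralizer ({t₂} : Set G) := by
      intro a ha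
      rw [hQe] at ha
      have ht' : t₂ ∈ (MulAut.conj g • P : Subgroup G) := hQe ▸ hQ (mem_zpowers t₂)
      obtain ⟨a', ha', rfl⟩ := ha
      obtain ⟨b', hb', hb⟩ := ht'
      rw [← hb]
      refine mem_centralizer_singleton_iff.2 ?_
      exact conj_comm g (hab a' ha' b' hb')
    have hQc : Nat.card ↥(Q : Subgroup G) = 27 := by
      simpa using Cfsg.Lib.Small.card_sylow_of_factor Q (a := 3) (m := 9067520) (by rw [H.card]; norm_num) (by norm_num)
    exact hQc ▸ card_dvd_of_le hle
  rw [hn] at h27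
  have h3n : 3 ∣ n := by omega
  obtain ⟨k, rfl⟩ := h3n
  have hk : k ∣ 5120 := Nat.dvd_of_mul_dvd_mul_left (show 0 < 3 by norm_num) hnd
  by_cases h5 : 5 ∣ k
  · -- both primes
    have h5c : 5 ∣ Nat.card ↥(centralizer ({t₂} : Set G)) := by rw [hn]; omega
    obtain ⟨⟨y₂, hy₂m⟩, hy₂⟩ := exists_prime_orderOf_dvd_card' 5 h5c
    rw [Subgroup.orderOf_mk] at hy₂
    have hty₂ := (mem_centralizer_singleton_iff.1 hy₂m).symm
    rw [← cent_three_five H hy ht hty hy₂ ht₂ hty₂, hn] at h128
    have hk128 : 128 ∣ k := by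
      refine (show Nat.Coprime 128 189 by norm_num).dvd_of_dvd_mul_left ?_
      rwa [show 189 * k = 63 * (3 * k) by ring]
    have hall : ∀ d ∈ Nat.divisors 5120, 5 ∣ d → 128 ∣ d → (3 * d) % 7 = 1 → d = 2560 := by decide +kernel
    obtain rfl := hall k (Nat.mem_divisors.2 ⟨hk, by norm_num⟩) h5 hk128 hn7
    have hs := sylow_mul_norm _ (sylow_five_sub H _ h5c) hy₂ (mem_centralizer_singleton_iff.2 hty₂.symm)
    have hm : Nat.card (Sylow 5 ↥(centralizer ({t₂} : Set G))) % 5 = 1 := card_sylow_modEq_one 5 _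
    rw [hn] at hs
    rcases norm_cent_three H hy₂ ht₂ hty₂ with e | e <;> rw [e] at hs <;> omega
  · have hk' : k ∣ 1024 := (Nat.Prime.coprime_iff_not_dvd Nat.prime_five).2 h5 |>.symm.dvd_of_dvd_mul_right
      (show k ∣ 1024 * 5 from hk)
    have hall : ∀ d ∈ Nat.divisors 1024, (3 * d) % 7 ≠ 1 := by decide +kernel
    exact hall k (Nat.mem_divisors.2 ⟨hk', by norm_num⟩) hn7

/-- The largest case does not occur. -/
theorem false_big {N : Subgroup G} {W V : Subgroup ↥N} [W.Normal] [V.Normal] {y t : ↥N} {S : Subgroup (↥N ⧸ W)}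
    (B : Big N W V y t S) : False := by
  classical
  haveI := B.normS
  haveI := B.simple
  set f := QuotientGroup.mk' W with hf
  have hW2 : IsPGroup 2 ↥W := IsPGroup.of_card (n := 6) (by rw [B.cardW]; norm_num)
  have hord : ∀ {g : ↥N} {p : ℕ}, p.Prime → p ≠ 2 → orderOf g = p → orderOf (f g) = p := by
    intro g p hp hp2 hg
    refine ((Nat.dvd_prime hp).1 (hg ▸ orderOf_map_dvd f g)).resolve_left fun e => ?_
    rw [orderOf_eq_one_iff, hf, QuotientGroup.mk'_apply, QuotientGroup.eq_one_iff] at e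
    have h := Subgroup.orderOf_dvd_natCard _ e
    rw [hg, B.cardW] at h
    exact hp2 ((Nat.prime_dvd_prime_iff_eq hp Nat.prime_two).1 (hp.dvd_of_dvd_pow (show p ∣ 2 ^ 6 from h)))
  have hy5 := hord Nat.prime_five (by norm_num) B.hy
  have ht3 := hord Nat.prime_three (by norm_num) B.ht
  -- the automorphism is trivial
  have htS : ∀ z ∈ S, f t * z = z * f t := by
    have h := aut_trivial B.noncomm B.cardS (MulAut.conjNormal (f t) : MulAut ↥S)
      (by rw [← map_pow, ← ht3, pow_orderOf_eq_one, map_one]) (a := ⟨f y, B.memS⟩)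
      (by rw [Subgroup.orderOf_mk]; exact hy5)
      (Subtype.ext (by rw [MulAut.conjNormal_apply]; show f t * f y * (f t)⁻¹ = f y; rw [← map_mul, B.comm, map_mul, mul_inv_cancel_right]))
    intro z hz
    have := congrArg Subtype.val (DFunLike.congr_fun h ⟨z, hz⟩)
    rw [MulAut.conjNormal_apply] at this
    exact mul_inv_eq_iff_eq_mul.1 this
  set K := W ⊓ centralizer ({t} : Set ↥N) with hK
  have hKy : ∀ a ∈ K, y * a * y⁻¹ ∈ K := fun a ha => mem_inf.2 ⟨(inferInstance : W.Normal).conj_mem a (mem_inf.1 ha).1 y,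
    mem_centralizer_singleton_iff.2 (((show Commute y t from B.comm.symm).mul_left
      (show Commute a t from mem_centralizer_singleton_iff.1 (mem_inf.1 ha).2)).mul_left
      (show Commute y t from B.comm.symm).inv_left).eq⟩
  have hK5 : Nat.card ↥K % 5 = 1 := by
    have h := card_fixed_mod B.hy hKy
    rw [show K ⊓ centralizer ({y} : Set ↥N) = ⊥ by
      rw [hK, inf_right_comm, B.fixy, B.fixt], Subgroup.card_bot] at h
    exact h
  obtain ⟨k, hk6, hk⟩ := (Nat.dvd_prime_pow Nat.prime_two).1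
    (show Nat.card ↥K ∣ 2 ^ 6 by rw [show 2 ^ 6 = 64 from rfl, ← B.cardW]; exact card_dvd_of_le inf_le_left)
  rw [hk] at hK5
  have hk' : k = 0 ∨ k = 4 := by interval_cases k <;> norm_num at hK5 <;> omega
  rcases hk' with rfl | rfl
  swap
  · -- an abelian Sylow subgroup
    have hcop : (Nat.card ↥f.ker).Coprime 3 := by rw [hf, QuotientGroup.ker_mk', B.cardW]; norm_num
    have hcent := Cfsg.Lib.Components.centralizer_map_of_coprime_ker (p := 3) (f := f)
      (QuotientGroup.mk'_surjective W) hcop (b := t) (IsPGroup.of_card (n := 1) (by rw [Nat.card_zpowers, B.ht, pow_one]))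
    have hmul := card_map_mul W (centralizer ({t} : Set ↥N))
    rw [← hf, hcent, ← hK, hk] at hmul
    have hSC : S ≤ centralizer ({f t} : Set (↥N ⧸ W)) := fun z hz => mem_centralizer_singleton_iff.2 (htS z hz).symm
    have h360 := B.cardS ▸ card_dvd_of_le hSC
    have hCN : 5760 ∣ Nat.card ↥(centralizer ({t} : Set ↥N)) := by
      rw [← hmul]; exact (dvd_of_eq (by norm_num : 5760 = 360 * 2 ^ 4)).trans (Nat.mul_dvd_mul_right h360 _)
    set T := centralizer ({t} : Set ↥N) ⊓ S.comap f with hT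
    have hTm : T.map f = S := by
      refine le_antisymm (map_le_iff_le_comap.2 inf_le_right) fun z hz => ?_
      obtain ⟨c, hc, e⟩ : z ∈ (centralizer ({t} : Set ↥N)).map f := hcent.symm ▸ hSC hz
      exact ⟨c, mem_inf.2 ⟨hc, show f c ∈ S from e.symm ▸ hz⟩, e⟩
    have hTc : 9 ∣ Nat.card ↥T := by
      have h := card_map_mul W T
      rw [← hf, hTm, B.cardS] at h
      exact (show 9 ∣ 360 by norm_num).trans (Dvd.intro _ h)
    obtain ⟨Q, hQ⟩ := Sylow.exists_subgroup_card_pow_prime (G := ↥T) 3 (n := 2) hTc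
    set Q' := Q.map T.subtype with hQ'
    have hQc : Nat.card ↥Q' = 9 := by rw [hQ', card_map_of_injective T.subtype_injective, hQ]; norm_num
    have hQt : ∀ a ∈ Q', a * t = t * a := by
      rintro _ ⟨a, -, rfl⟩
      exact mem_centralizer_singleton_iff.1 (mem_inf.1 a.2).1
    have hQab : ∀ a ∈ Q', ∀ b ∈ Q', a * b = b * a := fun a ha b hb =>
      congrArg Subtype.val (IsPGroup.isMulCommutative_of_card_eq_prime_sq (p := 3) (G := ↥Q')
        (by rw [hQc]; norm_num) |>.is_comm.comm ⟨a, ha⟩ ⟨b, hb⟩)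
    have htQ : t ∉ Q' := by
      rintro ⟨a, -, e⟩
      have hz : f t ∈ S := by rw [← e]; exact (mem_inf.1 a.2).2
      have hz1 : (⟨f t, hz⟩ : ↥S) ∈ Subgroup.center ↥S :=
        Subgroup.mem_center_iff.2 fun z => Subtype.ext (htS z z.2).symm
      rcases (inferInstance : (Subgroup.center ↥S).Normal).eq_bot_or_eq_top with e' | e'
      · rw [e', mem_bot] at hz1
        have h1 : f t = 1 := congrArg Subtype.val hz1
        rw [h1, orderOf_one] at ht3
        norm_num at ht3
      · exact B.noncomm fun a b => (Subgroup.mem_center_iff.1 (e'.symm ▸ mem_top a : a ∈ Subgroup.center ↥S) b).symm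
    have hn : Q' ≤ normalizer (zpowers t : Set ↥N) := fun a ha => MathieuEleven.mem_normalizer_zpowers (by
      rw [hQt a ha, mul_inv_cancel_right]; exact mem_zpowers t)
    set P := Q' ⊔ zpowers t with hP
    have hP3 : IsPGroup 3 ↥P := (IsPGroup.of_card (n := 2) (by rw [hQc]; norm_num) : IsPGroup 3 ↥Q').to_sup_of_normal_right'
      (IsPGroup.of_card (n := 1) (by rw [Nat.card_zpowers, B.ht, pow_one])) hn
    have hP27 : Nat.card ↥P = 27 := by
      obtain ⟨j, hj⟩ := IsPGroup.iff_card.1 hP3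
      have hlo : 9 < Nat.card ↥P := hQc ▸ lt_of_le_of_ne (Nat.le_of_dvd Nat.card_pos (card_dvd_of_le le_sup_left))
        fun e => htQ (Subgroup.eq_of_le_of_card_ge (le_sup_left : Q' ≤ P) e.ge ▸ (le_sup_right : zpowers t ≤ P) (mem_zpowers t))
      have hhi : j ≤ 3 := by
        by_contra hlt
        have h4 := (pow_dvd_pow 3 (by omega : 4 ≤ j)).trans ((hj ▸ card_subgroup_dvd_card P).trans (card_subgroup_dvd_card N))
        rw [H.card] at h4
        norm_num at h4
      rw [hj] at hlo ⊢
      interval_cases j <;> first | omega | norm_num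
    have hPab : ∀ a ∈ P, ∀ b ∈ P, a * b = b * a := by
      have hg : ∀ a ∈ (Q' : Set ↥N) ∪ {t}, ∀ b ∈ (Q' : Set ↥N) ∪ {t}, a * b = b * a := by
        rintro a (ha | rfl) b (hb | rfl)
        exacts [hQab a ha b hb, hQt a ha, (hQt b hb).symm, rfl]
      have hP' : P = closure ((Q' : Set ↥N) ∪ {t}) := by
        rw [Subgroup.closure_union, Subgroup.closure_eq, ← zpowers_eq_closure]
      intro a ha b hb
      rw [hP'] at ha hb
      have hc : closure ((Q' : Set ↥N) ∪ {t}) ≤ centralizer ((Q' : Set ↥N) ∪ {t}) :=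
        (closure_le _).2 fun c hc => mem_centralizer_iff.2 fun d hd => hg d hd c hc
      rw [← centralizer_closure] at hc
      exact (mem_centralizer_iff.1 (hc ha) b hb).symm
    refine false_abelian H (y := (y : G)) (t := (t : G)) (by rw [Subgroup.orderOf_coe]; exact B.hy)
      (by rw [Subgroup.orderOf_coe]; exact B.ht) (congrArg Subtype.val B.comm) ?_ (P := P.map N.subtype)
      (by rw [card_map_of_injective N.subtype_injective, hP27]) ?_
    · refine ((show 128 ∣ 5760 by norm_num).trans hCN).trans ?_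
      refine (card_map_of_injective (K := centralizer ({t} : Set ↥N)) N.subtype_injective).symm.dvd.trans
        (Subgroup.card_dvd_of_le ?_)
      rintro _ ⟨c, hc, rfl⟩
      exact mem_centralizer_singleton_iff.2 (congrArg Subtype.val (mem_centralizer_singleton_iff.1 hc))
    · rintro _ ⟨a, ha, rfl⟩ _ ⟨b, hb, rfl⟩
      exact congrArg Subtype.val (hPab a ha b hb)
  -- five orbits on the quotient of the core
  rw [pow_zero, card_eq_one] at hk
  set A := V.subgroupOf W with hA
  haveI : A.Normal := (inferInstance : V.Normal).comap W.subtype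
  obtain ⟨φ, hφ⟩ := exists_quot_action W A fun d a ha => by
    show MulAut.conjNormal d a ∈ A
    show ((MulAut.conjNormal d a : ↥W) : ↥N) ∈ V
    rw [MulAut.conjNormal_apply]
    exact (inferInstance : V.Normal).conj_mem _ ha d
  have hA4 : Nat.card ↥A = 4 := by rw [hA, Nat.card_congr (subgroupOfEquivOfLe B.le).toEquiv, B.cardV]
  have hQ16 : Nat.card (↥W ⧸ A) = 16 := by
    have h1 := card_eq_card_quotient_mul_card_subgroup A
    rw [hA4, B.cardW] at h1
    omega
  have := Fintype.ofFinite (↥W ⧸ A)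
  -- the core acts trivially
  have hWtriv : ∀ a ∈ W, φ a = 1 := by
    have hQp : IsPGroup 2 (↥W ⧸ A) := hW2.to_quotient A
    haveI : Nontrivial (↥W ⧸ A) := Finite.one_lt_card_iff_nontrivial.1 (by rw [hQ16]; norm_num)
    set Z := ((Subgroup.center (↥W ⧸ A)).comap (QuotientGroup.mk' A)).map W.subtype with hZ
    have hZW : Z ≤ W := map_subtype_le _
    have hVZ : V ≤ Z := fun a ha => ⟨⟨a, B.le ha⟩, by
      show QuotientGroup.mk' A ⟨a, B.le ha⟩ ∈ Subgroup.center (↥W ⧸ A)
      rw [show QuotientGroup.mk' A ⟨a, B.le ha⟩ = 1 from (QuotientGroup.eq_one_iff _).2 ha]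
      exact one_mem _, rfl⟩
    have hmem : ∀ a : ↥W, (a : ↥N) ∈ Z ↔ ∀ w : ↥W, (a * w)⁻¹ * (w * a) ∈ A := by
      intro a
      constructor
      · rintro ⟨b, hb, e⟩ w
        obtain rfl : b = a := Subtype.ext e
        rw [← QuotientGroup.eq]
        exact (Subgroup.mem_center_iff.1 hb (w : ↥W ⧸ A)).symm
      · intro h
        refine ⟨a, ?_, rfl⟩
        show QuotientGroup.mk' A a ∈ Subgroup.center (↥W ⧸ A)
        refine Subgroup.mem_center_iff.2 fun q => ?_
        obtain ⟨w, rfl⟩ := QuotientGroup.mk'_surjective A q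
        exact (QuotientGroup.eq.2 (h w)).symm
    have hZy : ∀ a ∈ Z, y * a * y⁻¹ ∈ Z := by
      intro a ha
      set a' : ↥W := ⟨a, hZW ha⟩
      show ((MulAut.conjNormal y a' : ↥W) : ↥N) ∈ Z
      refine (hmem _).2 fun w => ?_
      obtain ⟨w', rfl⟩ : ∃ w', MulAut.conjNormal y w' = w := ⟨_, MulEquiv.apply_symm_apply (MulAut.conjNormal y) w⟩
      rw [← map_mul, ← map_mul, ← map_inv, ← map_mul]
      show ((MulAut.conjNormal y _ : ↥W) : ↥N) ∈ V
      rw [MulAut.conjNormal_apply]
      exact (inferInstance : V.Normal).conj_mem _ ((hmem a').1 ha w') y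
    have hZ4 : 4 < Nat.card ↥Z := by
      have hc := hQp.center_nontrivial
      obtain ⟨⟨q, hqc⟩, hq1⟩ := exists_ne (1 : Subgroup.center (↥W ⧸ A))
      obtain ⟨a, rfl⟩ := QuotientGroup.mk'_surjective A q
      have haV : (a : ↥N) ∉ V := fun h => hq1 (Subtype.ext ((QuotientGroup.eq_one_iff a).2 h))
      rw [← B.cardV]
      refine lt_of_le_of_ne (Nat.le_of_dvd Nat.card_pos (card_dvd_of_le hVZ)) fun e => haV ?_
      rw [Subgroup.eq_of_le_of_card_ge hVZ e.ge]
      exact ⟨a, hqc, rfl⟩
    have hZeq : Z = W := by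
      have hm := card_fixed_mod B.hy hZy
      rw [show Z ⊓ centralizer ({y} : Set ↥N) = V from le_antisymm ((inf_le_inf_right _ hZW).trans B.fixy.le)
        (le_inf hVZ (B.fixy.ge.trans inf_le_right)), B.cardV] at hm
      obtain ⟨j, hj6, hj⟩ := (Nat.dvd_prime_pow Nat.prime_two).1
        (show Nat.card ↥Z ∣ 2 ^ 6 by rw [show 2 ^ 6 = 64 from rfl, ← B.cardW]; exact card_dvd_of_le hZW)
      refine Subgroup.eq_of_le_of_card_ge hZW ?_
      rw [B.cardW, hj]
      rw [hj] at hm hZ4
      interval_cases j <;> first | omega | norm_num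
    intro a ha
    refine Equiv.ext fun q => QuotientGroup.induction_on q fun w => ?_
    rw [hφ, Equiv.Perm.one_apply, QuotientGroup.eq]
    have h := (hmem ⟨a, ha⟩).1 (hZeq.symm ▸ ha) w
    rw [hA, mem_subgroupOf] at h ⊢
    push_cast [MulAut.conjNormal_apply] at h ⊢
    have h'' := (inferInstance : V.Normal).conj_mem _ h a
    rwa [show (a * (w : ↥N) * a⁻¹)⁻¹ * w = a * ((a * w)⁻¹ * (w * a)) * a⁻¹ by group]
  -- fixed point free
  have hfpf : ∀ q : ↥W ⧸ A, φ t q = q → q = 1 := by
    intro q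
    induction q using QuotientGroup.induction_on with
    | H w =>
      intro hq
      rw [hφ, QuotientGroup.eq] at hq
      have hq' : (t * (w : ↥N) * t⁻¹)⁻¹ * w ∈ V := by
        have h := hq
        rw [hA, mem_subgroupOf] at h
        push_cast [MulAut.conjNormal_apply] at h
        exact h
      set s : Set ↥N := {a | (w : ↥N)⁻¹ * a ∈ V} with hs
      have hsc : s.ncard = 4 := by
        rw [show s = (fun a => (w : ↥N) * a) '' (V : Set ↥N) from Set.ext fun a =>
          ⟨fun ha => ⟨_, ha, mul_inv_cancel_left _ a⟩, by rintro ⟨b, hb, rfl⟩; show _ ∈ V; rwa [inv_mul_cancel_left]⟩,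
          Set.ncard_image_of_injective _ (mul_right_injective _), ← Nat.card_coe_set_eq]
        exact B.cardV
      have hinv : ∀ a ∈ s, t * a * t⁻¹ ∈ s := fun a ha => by
        show (w : ↥N)⁻¹ * (t * a * t⁻¹) ∈ V
        have h1 := mul_mem (inv_mem hq') ((inferInstance : V.Normal).conj_mem _ ha t)
        rwa [show ((t * (w : ↥N) * t⁻¹)⁻¹ * w)⁻¹ * (t * ((w : ↥N)⁻¹ * a) * t⁻¹) = (w : ↥N)⁻¹ * (t * a * t⁻¹) by group] at h1
      have h := MathieuEleven.ncard_conj_mod (p := 3) (x := t) (k := 1) (by rw [pow_one, ← B.ht, pow_orderOf_eq_one])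
        (s := s) hinv
      rw [hsc] at h
      obtain ⟨a, ha, hta⟩ : {a ∈ s | t * a = a * t}.Nonempty := by
        rw [Set.nonempty_iff_ne_empty]
        intro e
        rw [e, Set.ncard_empty] at h
        norm_num at h
      have haW : a ∈ W := by
        have := mul_mem w.2 (B.le ha)
        rwa [mul_inv_cancel_left] at this
      have ha1 : a ∈ K := mem_inf.2 ⟨haW, mem_centralizer_singleton_iff.2 hta.symm⟩
      rw [hk, mem_bot] at ha1
      subst ha1
      refine (QuotientGroup.eq_one_iff w).2 ?_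
      have h' := inv_mem (show (w : ↥N)⁻¹ * 1 ∈ V from ha)
      show (w : ↥N) ∈ V
      simpa using h'
  set σ := φ t with hσ
  have hone : ∀ d : ↥N, φ d 1 = 1 := fun d => by
    rw [show (1 : ↥W ⧸ A) = ((1 : ↥W) : ↥W ⧸ A) from rfl, hφ, map_one]
  have hσ3 : σ ^ 3 = 1 := by rw [hσ, ← map_pow, ← B.ht, pow_orderOf_eq_one, map_one]
  have hσ3' : ∀ q, σ (σ (σ q)) = q := fun q => by
    have := congrArg (fun e : Equiv.Perm (↥W ⧸ A) => e q) hσ3
    simpa [pow_succ] using this
  let E : ↥W ⧸ A → Finset (↥W ⧸ A) := fun q => {q, σ q, σ (σ q)}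
  have hEσ : ∀ q, E (σ q) = E q := fun q => by
    ext a
    simp only [E, Finset.mem_insert, Finset.mem_singleton, hσ3']
    tauto
  have hdist : ∀ q, q ≠ 1 → (E q).card = 3 := by
    intro q hq
    have h1 : σ q ≠ q := fun e => hq (hfpf q e)
    refine Finset.card_eq_three.2 ⟨_, _, _, Ne.symm h1, fun e => h1 ?_, fun e => h1 (σ.injective e).symm, rfl⟩
    calc σ q = σ (σ (σ q)) := by rw [← e]
      _ = q := hσ3' q
  have hEne : ∀ q, q ≠ 1 → ∀ a ∈ E q, a ≠ 1 := fun q hq a ha e => by
    subst e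
    simp only [E, Finset.mem_insert, Finset.mem_singleton] at ha
    rcases ha with h | h | h
    · exact hq h.symm
    · exact hq (σ.injective (h.symm.trans (hone t).symm))
    · exact hq (σ.injective (σ.injective (h.symm.trans ((hone t).symm.trans (congrArg σ (hone t).symm)))))
  set O := ((Finset.univ : Finset (↥W ⧸ A)).erase 1).image E with hO
  have hO5 : O.card = 5 := by
    have h15 : ((Finset.univ : Finset (↥W ⧸ A)).erase 1).card = 15 := by
      rw [Finset.card_erase_of_mem (Finset.mem_univ _), Finset.card_univ, ← Nat.card_eq_fintype_card, hQ16]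
    have hf' : ∀ e ∈ O, (((Finset.univ : Finset (↥W ⧸ A)).erase 1).filter fun q => E q = e).card = 3 := by
      intro e he
      obtain ⟨q, hq, rfl⟩ := Finset.mem_image.1 he
      have hq1 := Finset.ne_of_mem_erase hq
      rw [← hdist q hq1]
      congr 1
      ext a
      simp only [Finset.mem_filter, Finset.mem_erase, Finset.mem_univ, and_true]
      constructor
      · rintro ⟨-, h⟩
        rw [← h]
        simp [E]
      · intro ha
        refine ⟨hEne q hq1 a ha, ?_⟩
        simp only [E, Finset.mem_insert, Finset.mem_singleton] at ha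
        rcases ha with rfl | rfl | rfl
        exacts [rfl, hEσ q, (hEσ _).trans (hEσ q)]
    have h := Finset.card_eq_sum_card_image E ((Finset.univ : Finset (↥W ⧸ A)).erase 1)
    rw [← hO, Finset.sum_congr rfl hf', Finset.sum_const, smul_eq_mul, h15] at h
    omega
  set T0 := S.comap f with hT0
  have hcommσ : ∀ s ∈ T0, ∀ q, φ s (σ q) = σ (φ s q) := by
    intro s hs q
    have hw : (t * s)⁻¹ * (s * t) ∈ W := QuotientGroup.eq.1 (by
      show f (t * s) = f (s * t)
      rw [map_mul, map_mul]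
      exact htS _ hs)
    have he : φ (s * t) = φ (t * s) := by
      rw [show s * t = t * s * ((t * s)⁻¹ * (s * t)) by group, map_mul, hWtriv _ hw, mul_one]
    exact congrArg (fun e : Equiv.Perm (↥W ⧸ A) => e q) (by rw [← map_mul, he, map_mul] : φ s * φ t = φ t * φ s)
  have hEimg : ∀ s ∈ T0, ∀ q, (E q).image (φ s) = E (φ s q) := fun s hs q => by
    simp only [E, Finset.image_insert, Finset.image_singleton, hcommσ s hs]
  let act : MulAction ↥T0 {e : Finset (↥W ⧸ A) // e ∈ O} :=
    { smul := fun s e => ⟨e.1.image (φ (s : ↥N)), by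
        obtain ⟨q, hq, he⟩ := Finset.mem_image.1 e.2
        rw [← he, hEimg s s.2]
        exact Finset.mem_image_of_mem _ (Finset.mem_erase.2 ⟨fun h => Finset.ne_of_mem_erase hq
          ((φ (s : ↥N)).injective (h.trans (hone _).symm)), Finset.mem_univ _⟩)⟩
      one_smul := fun e => Subtype.ext (by
        show e.1.image (φ ((1 : ↥T0) : ↥N)) = e.1
        rw [OneMemClass.coe_one, map_one]; exact Finset.image_id)
      mul_smul := fun a b e => Subtype.ext (by
        show e.1.image (φ ((a * b : ↥T0) : ↥N)) = (e.1.image (φ (b : ↥N))).image (φ (a : ↥N))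
        rw [Finset.image_image, Subgroup.coe_mul, map_mul]; rfl) }
  letI := act
  set ψ := MulAction.toPermHom ↥T0 {e : Finset (↥W ⧸ A) // e ∈ O} with hψ
  set g : ↥T0 →* ↥S := f.subgroupComap S with hg
  have hgs : Function.Surjective g := MonoidHom.subgroupComap_surjective_of_surjective f S (QuotientGroup.mk'_surjective W)
  have hgk : Nat.card ↥g.ker = 64 := by
    rw [← B.cardW]
    refine Nat.card_congr
      { toFun := fun a => ⟨a.1.1, (QuotientGroup.eq_one_iff _).1 (congrArg Subtype.val (MonoidHom.mem_ker.1 a.2))⟩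
        invFun := fun a => ⟨⟨a.1, show f a.1 ∈ S by
          rw [hf, QuotientGroup.mk'_apply, (QuotientGroup.eq_one_iff _).2 a.2]; exact one_mem S⟩,
          MonoidHom.mem_ker.2 (Subtype.ext ((QuotientGroup.eq_one_iff _).2 a.2))⟩
        left_inv := fun _ => rfl
        right_inv := fun _ => rfl }
  have hT0c : Nat.card ↥T0 = 23040 := by
    have h := card_eq_card_quotient_mul_card_subgroup g.ker
    rw [Nat.card_congr (QuotientGroup.quotientKerEquivOfSurjective g hgs).toEquiv, B.cardS, hgk] at h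
    omega
  have h120 : Nat.card ↥ψ.range ∣ 120 := by
    refine (card_subgroup_dvd_card ψ.range).trans (dvd_of_eq ?_)
    rw [Nat.card_perm, Nat.card_eq_fintype_card, Fintype.card_coe, hO5]; rfl
  have hker3 : 3 ∣ Nat.card ↥ψ.ker := by
    by_contra h3
    have h9 : 3 ^ 2 ∣ Nat.card ↥ψ.ker * ψ.ker.index := by rw [card_mul_index, hT0c]; norm_num
    have h1 : 3 ^ 2 ∣ ψ.ker.index :=
      (Nat.Coprime.pow_left 2 ((Nat.Prime.coprime_iff_not_dvd Nat.prime_three).2 h3)).dvd_of_dvd_mul_left h9
    rw [Subgroup.index_ker] at h1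
    exact absurd (h1.trans h120) (by norm_num)
  have htop : ψ.ker.map g = ⊤ := by
    rcases ((inferInstance : ψ.ker.Normal).map g hgs).eq_bot_or_eq_top with e | e
    · exfalso
      rw [Subgroup.map_eq_bot_iff] at e
      have h := hker3.trans (card_dvd_of_le e)
      rw [hgk] at h
      norm_num at h
    · exact e
  set y0 : ↥T0 := ⟨y, B.memS⟩ with hy0
  have hψy : ψ y0 = 1 := by
    obtain ⟨n, hn, hne⟩ : g y0 ∈ ψ.ker.map g := htop.symm ▸ mem_top _
    have hw : n⁻¹ * y0 ∈ g.ker := by rw [MonoidHom.mem_ker, map_mul, map_inv, hne, inv_mul_cancel]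
    have h1 : ψ y0 = ψ (n⁻¹ * y0) := by rw [map_mul, map_inv, MonoidHom.mem_ker.1 hn, inv_one, one_mul]
    have h2 : orderOf (ψ y0) ∣ 5 := (orderOf_map_dvd ψ y0).trans (dvd_of_eq (by
      rw [← Subgroup.orderOf_coe]; exact B.hy))
    have h3 : orderOf (ψ y0) ∣ 64 := by
      rw [h1, ← hgk]
      exact (orderOf_map_dvd ψ _).trans (Subgroup.orderOf_dvd_natCard _ hw)
    exact orderOf_eq_one_iff.1 (Nat.eq_one_of_dvd_coprimes (by norm_num) h2 h3)
  have hφy : ∀ q, φ y q = q := by
    intro q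
    by_cases hq : q = 1
    · rw [hq]; exact hone y
    have hmem : E q ∈ O := Finset.mem_image_of_mem _ (Finset.mem_erase.2 ⟨hq, Finset.mem_univ _⟩)
    have himg : (E q).image (φ y) = E q :=
      congrArg Subtype.val (congrArg (fun e : Equiv.Perm {e : Finset (↥W ⧸ A) // e ∈ O} => e ⟨E q, hmem⟩) hψy)
    have h := MathieuEleven.ncard_fixed_mod (p := 5) (x := φ y) (k := 1)
      (by rw [pow_one, ← map_pow, ← B.hy, pow_orderOf_eq_one, map_one]) (s := ((E q : Finset (↥W ⧸ A)) : Set (↥W ⧸ A)))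
      fun a ha => by
        show φ y a ∈ E q
        rw [← himg]
        exact Finset.mem_image_of_mem _ ha
    rw [Set.ncard_coe_finset, hdist q hq] at h
    set F := {a ∈ ((E q : Finset (↥W ⧸ A)) : Set (↥W ⧸ A)) | φ y • a = a}
    have hle : F.ncard ≤ 3 := by
      refine (Set.ncard_le_ncard (t := ((E q : Finset (↥W ⧸ A)) : Set (↥W ⧸ A))) (fun a ha => ha.1)
        (Set.toFinite _)).trans_eq ?_
      rw [Set.ncard_coe_finset, hdist q hq]
    have hF : F = ((E q : Finset (↥W ⧸ A)) : Set (↥W ⧸ A)) := Set.eq_of_subset_of_ncard_le (fun a ha => ha.1)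
      (by rw [Set.ncard_coe_finset, hdist q hq]; omega) (Set.toFinite _)
    have hqF : q ∈ F := hF.symm ▸ (show q ∈ E q by simp [E])
    exact hqF.2
  have hle : W ≤ V := by
    intro a ha
    rw [← B.fixy]
    refine mem_inf.2 ⟨ha, mem_centralizer_singleton_iff.2 ?_⟩
    have h := hφy ((⟨a, ha⟩ : ↥W) : ↥W ⧸ A)
    rw [hφ, eq_comm, QuotientGroup.eq] at h
    have hc : a⁻¹ * (y * a * y⁻¹) ∈ V := by
      have h' := h
      rw [hA, mem_subgroupOf] at h'
      push_cast [MulAut.conjNormal_apply] at h'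
      exact h'
    set c := a⁻¹ * (y * a * y⁻¹) with hcdef
    have hcy : Commute c y := mem_centralizer_singleton_iff.1 (mem_inf.1 (B.fixy.symm ▸ hc : c ∈ W ⊓ centralizer ({y} : Set ↥N))).2
    have hya : y * a * y⁻¹ = a * c := by rw [hcdef]; group
    have hit : ∀ i : ℕ, y ^ i * a * (y ^ i)⁻¹ = a * c ^ i := by
      intro i
      induction i with
      | zero => simp
      | succ i ih =>
        calc y ^ (i + 1) * a * (y ^ (i + 1))⁻¹ = y * (y ^ i * a * (y ^ i)⁻¹) * y⁻¹ := by rw [pow_succ']; group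
          _ = y * a * (c ^ i * y⁻¹) := by rw [ih]; group
          _ = y * a * (y⁻¹ * c ^ i) := by rw [(hcy.inv_right.pow_left i).eq]
          _ = (y * a * y⁻¹) * c ^ i := by group
          _ = a * c ^ (i + 1) := by rw [hya, pow_succ', mul_assoc]
    have h5 := hit 5
    rw [show y ^ 5 = 1 by rw [← B.hy, pow_orderOf_eq_one], one_mul, inv_one, mul_one, left_eq_mul] at h5
    have hc2 : c ^ 2 = 1 := by rw [pow_two]; exact B.sq c hc
    rw [show (5 : ℕ) = 2 * 2 + 1 from rfl, pow_succ, pow_mul, hc2, one_pow, one_mul] at h5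
    refine (mul_inv_eq_iff_eq_mul.1 ?_).symm
    rw [hya, h5, mul_one]
  have h := Nat.le_of_dvd Nat.card_pos (card_dvd_of_le hle)
  rw [B.cardW, B.cardV] at h
  norm_num at h

end Cfsg.Lib.M24Nse
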