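import Cfsg.Agent.M24Nse.CensusData

/-!
Distinct representatives are not conjugate.
-/

set_option autoImplicit false
set_option maxRecDepth 100000

namespace Cfsg.Lib.M24Nse

theorem cross_ok : (List.range 25).all (fun i => (List.range 25).all fun j => i == j ||
    match rows[i]?, rows[j]? with
    | some R, some R' => R.o != R'.o || sig R != sig R' || count R R' == 0
    | _, _ => false) = true := by decide +kernel

end Cfsg.Lib.M24Nse
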