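import Cfsg.Agent.M24Nse.CensusData

/-!
Bounds for the centralisers of class representatives.
-/

set_option autoImplicit false
set_option maxRecDepth 100000

namespace Cfsg.Lib.M24Nse

theorem self_ok_mid : ((rows.take 17).drop 8).all selfOK = true := by decide +kernel

end Cfsg.Lib.M24Nse
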