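import Cfsg.Agent.M24Nse.CheckSmall
import Cfsg.Agent.M24Nse.CheckFour
import Cfsg.Agent.M24Nse.CheckMid
import Cfsg.Agent.M24Nse.CheckLarge
import Cfsg.Agent.M24Nse.CheckCross

/-!
The checks on the class representatives, assembled.
-/

set_option autoImplicit false
set_option maxRecDepth 100000

namespace Cfsg.Lib.M24Nse

theorem self_ok : ∀ R ∈ rows.drop 2, selfOK R = true := by
  intro R hR
  have e : rows.drop 2 = (rows.take 4).drop 2 ++ (rows.take 8).drop 4 ++ (rows.take 17).drop 8 ++
      (rows.take 25).drop 17 := by decide +kernel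
  rw [e] at hR
  simp only [List.mem_append] at hR
  rcases hR with ((h | h) | h) | h
  exacts [List.all_eq_true.1 self_ok_small R h, List.all_eq_true.1 self_ok_four R h, List.all_eq_true.1 self_ok_mid R h,
    List.all_eq_true.1 self_ok_large R h]

end Cfsg.Lib.M24Nse
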