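import Cfsg.Agent.M24Nse.CensusData
import Cfsg.Agent.M24Nse.CensusCheck
import Cfsg.Agent.S5607

/-!
The numbers of elements of each order in the Mathieu group of degree twenty-four.
-/

set_option autoImplicit false
set_option linter.unusedSectionVars false
set_option linter.style.haveILetI false
set_option maxRecDepth 100000
set_option maxHeartbeats 1000000

namespace Cfsg.Lib.M24Nse

open Subgroup Cfsg.Lib.PermCert Cfsg.Lib.Golay

theorem rows_ok : rows.all rowOK = true := by decide +kernel

theorem rows_arith : rows.length = 25 ∧ (rows.map fun R => 244823040 / R.c).sum = 244823039 ∧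
    rows.all (fun R => decide (0 < R.c) && decide (1 < R.o) && decide (R.o < 24) && decide (R.c * (244823040 / R.c) = 244823040)) = true := by
  decide +kernel

theorem row_spec {R : Row} (hR : R ∈ rows) :
    (∀ g ∈ R.w, valid 24 g = true) ∧ wperm 24 R.w ∈ X24 ∧
    (∀ i, i < 7 → (R.cov.getD i (0, 0)).1 < R.ps.length ∧
      itW R.w (R.cov.getD i (0, 0)).2 (R.ps.getD (R.cov.getD i (0, 0)).1 0) = (i + 23) % 24) ∧
    (∀ p ∈ R.ps, p ∈ orb) ∧ (∀ x, x < 24 → itW R.w R.o x = x) ∧
    ∀ k, k < R.o → k ≠ 0 → ∃ x, x < 24 ∧ itW R.w k x ≠ x := by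
  have h := List.all_eq_true.1 rows_ok R hR
  simp only [rowOK, Bool.and_eq_true, List.all_eq_true, List.any_eq_true, List.mem_range, decide_eq_true_eq,
    beq_iff_eq, Bool.or_eq_true, Bool.not_eq_true', beq_eq_false_iff_ne, List.contains_iff_mem] at h
  obtain ⟨⟨⟨⟨h1, h2⟩, h3⟩, h4⟩, h5⟩ := h
  obtain ⟨w, hw⟩ := Option.isSome_iff_exists.1 h1
  have hRw : R.w = w := by simp only [Row.w, hw, Option.getD_some]
  obtain ⟨hv, hm⟩ := recon_mem chain_check hw
  exact ⟨hRw ▸ hv, hRw ▸ hm, h3, h2, h4, fun k hk hk0 => (h5 k hk).resolve_left hk0⟩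

/-- the representative of a row -/
noncomputable def el (R : Row) : X24 :=
  if h : R ∈ rows then ⟨wperm 24 R.w, (row_spec h).2.1⟩ else 1

theorem el_val {R : Row} (hR : R ∈ rows) : (el R : Equiv.Perm (Fin 24)) = wperm 24 R.w := by
  rw [el, dif_pos hR]

theorem order_el {R : Row} (hR : R ∈ rows) : orderOf (el R) = R.o := by
  obtain ⟨hv, -, -, -, h1, h2⟩ := row_spec hR
  have ho : 0 < R.o := by
    have := List.all_eq_true.1 rows_arith.2.2 R hR
    simp only [Bool.and_eq_true, decide_eq_true_eq] at this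
    omega
  rw [← Subgroup.orderOf_coe, el_val hR, orderOf_eq_iff ho]
  refine ⟨Equiv.ext fun x => Fin.ext ?_, fun m hm hm0 he => ?_⟩
  · rw [itW_eq hv, h1 x x.isLt]; rfl
  · obtain ⟨x, hx, hne⟩ := h2 m hm (by omega)
    refine hne ?_
    have := itW_eq hv m ⟨x, hx⟩
    rw [he] at this
    exact this.symm

theorem tuples_map_mem (c : ℕ → List ℕ) (f : ℕ → ℕ) : ∀ l : List ℕ, (∀ p ∈ l, f p ∈ c p) → l.map f ∈ tuples (l.map c)
  | [], _ => by simp [tuples]
  | a :: l, h => by
    simp only [List.map_cons, tuples, List.mem_flatMap, List.mem_map]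
    exact ⟨f a, h a List.mem_cons_self, l.map f,
      tuples_map_mem c f l fun p hp => h p (List.mem_cons_of_mem _ hp), rfl⟩

/-- the values of an element at the cycle points -/
noncomputable def tup (R : Row) (y : X24) : List ℕ :=
  R.ps.map fun p => ((y : Equiv.Perm (Fin 24)) (⟨p % 24, Nat.mod_lt _ (by norm_num)⟩ : Fin 24) : ℕ)

theorem imgs_tup {R R' : Row} (hR : R ∈ rows) (hR' : R' ∈ rows) {y : X24} (hy : y * el R = el R' * y) {i : ℕ}
    (hi : i < 7) :
    imgs R R' (tup R y) i = ((y : Equiv.Perm (Fin 24)) ⟨(i + 23) % 24, by omega⟩ : ℕ) := by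
  obtain ⟨hv, -, hc, hps, -, -⟩ := row_spec hR
  obtain ⟨hv', -, -, -, -, -⟩ := row_spec hR'
  obtain ⟨hj, hk⟩ := hc i hi
  set j := (R.cov.getD i (0, 0)).1
  set k := (R.cov.getD i (0, 0)).2
  have hlt : R.ps.getD j 0 < 24 := by
    have h := hps _ (List.getElem_mem hj)
    rw [List.getD_eq_getElem _ _ hj]
    simpa using List.all_eq_true.1 orb_props.1 _ h
  have hpow : (y : Equiv.Perm (Fin 24)) * wperm 24 R.w ^ k = wperm 24 R'.w ^ k * (y : Equiv.Perm (Fin 24)) := by
    have h : SemiconjBy y (el R) (el R') := hy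
    have := congrArg Subtype.val ((h.pow_right k).eq)
    simpa [el_val hR, el_val hR'] using this
  have htj : (tup R y).getD j 0 = ((y : Equiv.Perm (Fin 24)) ⟨R.ps.getD j 0, hlt⟩ : ℕ) := by
    rw [tup, List.getD_eq_getElem _ _ (by simpa using hj), List.getElem_map]
    congr 2
    refine Fin.ext ?_
    show R.ps[j] % 24 = R.ps.getD j 0
    rw [← List.getD_eq_getElem R.ps 0 hj, Nat.mod_eq_of_lt hlt]
  show itW R'.w k ((tup R y).getD j 0) = _
  rw [htj, ← itW_eq hv', ← Equiv.Perm.mul_apply, ← hpow, Equiv.Perm.mul_apply]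
  congr 2
  exact Fin.ext (by rw [itW_eq hv]; exact hk)

theorem good_tup {R R' : Row} (hR : R ∈ rows) (hR' : R' ∈ rows) {y : X24} (hy : y * el R = el R' * y) :
    ∃ w, recon chain (fun x => imgs R R' (tup R y) ((x + 1) % 24)) = some w ∧ wperm 24 w = y := by
  refine recon_spec chain_check y.2 fun L hL h => ?_
  have hb : L.b ∈ chain.map (·.b) := List.mem_map_of_mem hL
  rw [orb_props.2] at hb
  have h5 : (L.b + 1) % 24 < 7 := by
    simp only [List.mem_cons, List.not_mem_nil, or_false] at hb
    omega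
  rw [imgs_tup hR hR' hy h5]
  congr 2
  exact Fin.ext (show ((L.b + 1) % 24 + 23) % 24 = L.b by omega)

theorem fix_iff {R R' : Row} (hR : R ∈ rows) (hR' : R' ∈ rows) {y : X24} (hy : y * el R = el R' * y) {p : ℕ}
    (hp : p < 24) (k : ℕ) : itW R.w k p = p ↔
      itW R'.w k ((y : Equiv.Perm (Fin 24)) ⟨p % 24, Nat.mod_lt _ (by norm_num)⟩ : ℕ) =
        ((y : Equiv.Perm (Fin 24)) ⟨p % 24, Nat.mod_lt _ (by norm_num)⟩ : ℕ) := by
  set q : Fin 24 := ⟨p % 24, Nat.mod_lt _ (by norm_num)⟩
  have hq : (q : ℕ) = p := Nat.mod_eq_of_lt hp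
  have h1 := itW_eq (row_spec hR).1 k q
  have h2 := itW_eq (row_spec hR').1 k ((y : Equiv.Perm (Fin 24)) q)
  rw [hq] at h1
  have hs : SemiconjBy y (el R) (el R') := hy
  have e : (y : Equiv.Perm (Fin 24)) ((wperm 24 R.w ^ k) q) = (wperm 24 R'.w ^ k) ((y : Equiv.Perm (Fin 24)) q) := by
    have := congrArg (fun z : X24 => (z : Equiv.Perm (Fin 24)) q) (hs.pow_right k).eq
    simpa [el_val hR, el_val hR', Equiv.Perm.mul_apply] using this
  rw [← h1, ← h2, ← e]
  constructor
  · intro h
    rw [show (wperm 24 R.w ^ k) q = q from Fin.ext (by rw [h, hq])]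
  · intro h
    have := (y : Equiv.Perm (Fin 24)).injective (Fin.ext h)
    rw [this, hq]

theorem tup_mem {R R' : Row} (hR : R ∈ rows) (hR' : R' ∈ rows) {y : X24} (hy : y * el R = el R' * y) :
    tup R y ∈ tuples (cands R R') ∧ good R R' (tup R y) = true := by
  obtain ⟨v, hv, hvy⟩ := good_tup hR hR' hy
  refine ⟨tuples_map_mem _ _ _ fun p hp => ?_, ?_⟩
  · have hp' := (row_spec hR).2.2.2.1 p hp
    have h24 : p < 24 := by simpa using List.all_eq_true.1 orb_props.1 _ hp'
    refine List.mem_filter.2 ⟨orb_stable (g := (y : Equiv.Perm (Fin 24))) _, ?_⟩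
    rw [List.all_eq_true]
    intro k _
    rw [beq_iff_eq, Bool.eq_iff_iff, beq_iff_eq, beq_iff_eq]
    exact fix_iff hR hR' hy h24 k
  · simp only [good, hv]
    refine FusionCert.same_of_eq ?_ ?_ ?_
    · intro g hg
      rcases List.mem_append.1 hg with hg | hg
      exacts [(recon_mem chain_check hv).1 g hg, (row_spec hR).1 g hg]
    · intro g hg
      rcases List.mem_append.1 hg with hg | hg
      exacts [(row_spec hR').1 g hg, (recon_mem chain_check hv).1 g hg]
    · rw [wperm_append, wperm_append, hvy, ← el_val hR, ← el_val hR', ← Subgroup.coe_mul, hy,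
        Subgroup.coe_mul]

theorem tup_inj {R R' : Row} (hR : R ∈ rows) (hR' : R' ∈ rows) {y z : X24} (hy : y * el R = el R' * y)
    (hz : z * el R = el R' * z) (h : tup R y = tup R z) : y = z := by
  obtain ⟨v, hv, hva⟩ := good_tup hR hR' hy
  obtain ⟨v', hv', hvb⟩ := good_tup hR hR' hz
  rw [h, hv'] at hv
  cases hv
  exact Subtype.ext (hva.symm.trans hvb)

theorem card_transporter_le {R R' : Row} (hR : R ∈ rows) (hR' : R' ∈ rows) :
    Nat.card {y : X24 // y * el R = el R' * y} ≤ count R R' := by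
  classical
  let F : {y : X24 // y * el R = el R' * y} → {t // t ∈ ((tuples (cands R R')).filter (good R R')).toFinset} :=
    fun y => ⟨tup R y.1, List.mem_toFinset.2 (List.mem_filter.2 (tup_mem hR hR' y.2))⟩
  refine (Nat.card_le_card_of_injective F fun a b h =>
    Subtype.ext (tup_inj hR hR' a.2 b.2 (congrArg Subtype.val h))).trans ?_
  rw [Nat.card_eq_fintype_card, Fintype.card_coe]
  exact (List.toFinset_card_le _).trans (le_of_eq List.countP_eq_length_filter.symm)

theorem card_cent_le_head {R : Row} (hR : R ∈ rows) :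
    Nat.card {y : X24 // y * el R = el R * y} ≤ ((cands R R).headD []).length * countHead R (R.ps.headD 0) := by
  classical
  obtain ⟨p, ps, hps⟩ : ∃ p ps, R.ps = p :: ps := by
    have hlen := ((row_spec hR).2.2.1 0 (by norm_num)).1
    cases h : R.ps with
    | nil => rw [h] at hlen; simp at hlen
    | cons p ps => exact ⟨p, ps, rfl⟩
  have hp : p < 24 := by
    simpa using List.all_eq_true.1 orb_props.1 _ ((row_spec hR).2.2.2.1 p (hps ▸ List.mem_cons_self))
  have hc : ∃ l r, cands R R = l :: r := by simp only [cands, hps, List.map_cons]; exact ⟨_, _, rfl⟩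
  obtain ⟨l, r, hc⟩ := hc
  set T := {y : X24 // y * el R = el R * y}
  haveI := Fintype.ofFinite T
  let f : T → ℕ := fun y => ((y.1 : Equiv.Perm (Fin 24)) ⟨p % 24, Nat.mod_lt _ (by norm_num)⟩ : ℕ)
  have htup : ∀ y : T, tup R y.1 = f y :: (tup R y.1).tail := fun y => by simp [tup, hps, f]
  have hmem : ∀ y : T, f y ∈ l ∧ (tup R y.1).tail ∈ tuples r := fun y => by
    have h := (tup_mem hR hR y.2).1
    rw [hc, htup y] at h
    simp only [tuples, List.mem_flatMap, List.mem_map] at h
    obtain ⟨a, ha, t, ht, he⟩ := h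
    obtain ⟨rfl, rfl⟩ := List.cons.inj he
    exact ⟨ha, ht⟩
  have hfib : ∀ a ∈ Finset.univ.image f, ({y ∈ (Finset.univ : Finset T) | f y = a}).card ≤ countHead R p := by
    intro a ha
    obtain ⟨y0, -, rfl⟩ := Finset.mem_image.1 ha
    let S := (tuples r).filter fun t => good R R (p :: t)
    have hS : S.toFinset.card ≤ countHead R p := by
      refine (List.toFinset_card_le _).trans (le_of_eq ?_)
      simp [S, countHead, hc, List.countP_eq_length_filter]
    refine le_trans (Finset.card_le_card_of_injOn (fun y => (tup R (y0.1⁻¹ * y.1)).tail) ?_ ?_) hS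
    · intro y hy
      have hfy : f y = f y0 := by simpa using hy
      have hz : (y0.1⁻¹ * y.1) * el R = el R * (y0.1⁻¹ * y.1) :=
        ((Commute.inv_left (y0.2 : Commute y0.1 (el R))).mul_left (y.2 : Commute y.1 (el R))).eq
      have hfix : f ⟨_, hz⟩ = p := by
        have e := Fin.ext hfy
        simp only [f, Subgroup.coe_mul, Subgroup.coe_inv, Equiv.Perm.mul_apply]
        rw [e, Equiv.Perm.inv_def, Equiv.symm_apply_apply]
        exact Nat.mod_eq_of_lt hp
      have h1 := htup ⟨_, hz⟩
      rw [hfix] at h1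
      rw [Finset.mem_coe, List.mem_toFinset]
      exact List.mem_filter.2 ⟨(hmem ⟨_, hz⟩).2, h1 ▸ (tup_mem hR hR hz).2⟩
    · intro y hy z hz e
      have hfy : f y = f y0 := by simpa using hy
      have hfz : f z = f y0 := by simpa using hz
      have c1 : (y0.1⁻¹ * y.1) * el R = el R * (y0.1⁻¹ * y.1) :=
        ((Commute.inv_left (y0.2 : Commute y0.1 (el R))).mul_left (y.2 : Commute y.1 (el R))).eq
      have c2 : (y0.1⁻¹ * z.1) * el R = el R * (y0.1⁻¹ * z.1) :=
        ((Commute.inv_left (y0.2 : Commute y0.1 (el R))).mul_left (z.2 : Commute z.1 (el R))).eq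
      refine Subtype.ext (mul_left_cancel (tup_inj hR hR c1 c2 ?_))
      rw [htup ⟨_, c1⟩, htup ⟨_, c2⟩]
      refine congrArg₂ List.cons ?_ e
      simp only [f, Subgroup.coe_mul, Subgroup.coe_inv, Equiv.Perm.mul_apply]
      rw [Fin.ext hfy, Fin.ext hfz]
  have h := Finset.card_le_mul_card_image (s := (Finset.univ : Finset T)) (f := f) (countHead R p) hfib
  rw [Finset.card_univ] at h
  rw [Nat.card_eq_fintype_card, hc, hps, List.headD_cons, List.headD_cons, mul_comm]
  refine h.trans (Nat.mul_le_mul_left _ ?_)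
  refine (Finset.card_le_card fun a ha => ?_).trans (List.toFinset_card_le l)
  obtain ⟨y, -, rfl⟩ := Finset.mem_image.1 ha
  exact List.mem_toFinset.2 (hmem y).1

theorem card_cent_involution_le {t : Equiv.Perm Cfsg.GolayPt} (ht : t ∈ Cfsg.M24) (h2 : orderOf t = 2) :
    Nat.card {c : Equiv.Perm Cfsg.GolayPt // c ∈ Cfsg.M24 ∧ c * t = t * c} ≤ 21504 := by
  obtain ⟨r, hr, ⟨e, -⟩ | ⟨-, h0⟩⟩ := involution_classes ht h2
  · have hcard : Nat.card cgInvA.grp = 21504 := (CG.card_grp cgInvA_ok).trans (by decide +kernel)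
    refine le_of_le_of_eq (Nat.card_le_card_of_injective (fun c => (⟨r⁻¹ * c.1 * r, ?_⟩ : cgInvA.grp)) ?_) hcard
    · refine centralizer_invA.1 ⟨mul_mem (mul_mem (inv_mem hr) c.2.1) hr, ?_⟩
      obtain ⟨c, -, h⟩ := c
      subst e
      calc r⁻¹ * c * r * toP invA.1 = r⁻¹ * (c * (r * toP invA.1 * r⁻¹)) * r := by group
        _ = r⁻¹ * (r * toP invA.1 * r⁻¹ * c) * r := by rw [h]
        _ = toP invA.1 * (r⁻¹ * c * r) := by group
    · intro a b h
      exact Subtype.ext (by simpa using congrArg Subtype.val h)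
  · rw [(Cfsg.Agent.S5607.result t ht h2 (fixCard_eq_zero.1 h0)).1]
    norm_num

theorem invol_rows : ∀ R ∈ rows.take 2, R.o = 2 ∧
    (R.c = 21504 ∨ R.c = 7680 ∧ (List.range 24).all (fun x => !(itW R.w 1 x == x)) = true) := by decide +kernel

theorem card_cent_le {R : Row} (hR : R ∈ rows) : Nat.card {y : X24 // y * el R = el R * y} ≤ R.c := by
  classical
  have hR' := hR
  rw [← List.take_append_drop 2 rows, List.mem_append] at hR'
  rcases hR' with h | h
  swap
  · have := self_ok R h
    simp only [selfOK, Bool.or_eq_true, decide_eq_true_eq] at this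
    rcases this with h1 | h1
    exacts [(card_cent_le_head hR).trans h1, (card_transporter_le hR hR).trans h1]
  obtain ⟨ho, hc⟩ := invol_rows R h
  have hval : ∀ y : X24, permHom (y : Equiv.Perm (Fin 24)) ∈ Cfsg.M24 := fun y =>
    onPts_pointChain ▸ Subgroup.mem_map_of_mem _ y.2
  set t := permHom (el R : Equiv.Perm (Fin 24))
  have h2 : orderOf t = 2 := by
    rw [show orderOf t = orderOf (el R : Equiv.Perm (Fin 24)) from MulEquiv.orderOf_eq permHom _,
      Subgroup.orderOf_coe, order_el hR, ho]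
  have hle : Nat.card {y : X24 // y * el R = el R * y} ≤
      Nat.card {c : Equiv.Perm Cfsg.GolayPt // c ∈ Cfsg.M24 ∧ c * t = t * c} :=
    Nat.card_le_card_of_injective (fun y => ⟨permHom (y.1 : Equiv.Perm (Fin 24)), hval y.1, by
      rw [← map_mul, ← map_mul]; exact congrArg (fun a : X24 => permHom (a : Equiv.Perm (Fin 24))) y.2⟩)
      fun a b h => Subtype.ext (Subtype.ext (permHom.injective (congrArg Subtype.val h)))
  rcases hc with hc | ⟨hc, hf⟩
  · exact hle.trans (hc ▸ card_cent_involution_le (hval _) h2)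
  · refine hle.trans (le_of_eq ?_)
    rw [hc]
    refine (Cfsg.Agent.S5607.result t (hval _) h2 fun p hp => ?_).1
    have hfix := List.all_eq_true.1 hf (ptEquiv p : ℕ) (List.mem_range.2 (ptEquiv p).isLt)
    simp only [Bool.not_eq_true', beq_eq_false_iff_ne] at hfix
    refine hfix ?_
    rw [← itW_eq (row_spec hR).1 1 (ptEquiv p), pow_one, ← el_val hR]
    conv_rhs => rw [← hp]
    show _ = ((ptEquiv (ptEquiv.symm ((el R : Equiv.Perm (Fin 24)) (ptEquiv p)))) : ℕ)
    rw [Equiv.apply_symm_apply]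

/-- the class of a row -/
noncomputable def cls (R : Row) : Finset X24 :=
  letI := Fintype.ofFinite X24
  Finset.univ.image fun y : X24 => y * el R * y⁻¹

theorem mem_cls {R : Row} {g : X24} : g ∈ cls R ↔ ∃ y, y * el R * y⁻¹ = g := by
  simp [cls]

theorem card_cls_ge {R : Row} (hR : R ∈ rows) : 244823040 ≤ R.c * (cls R).card := by
  classical
  haveI := Fintype.ofFinite X24
  have h := Finset.card_le_mul_card_image (s := (Finset.univ : Finset X24)) (f := fun y : X24 => y * el R * y⁻¹) R.c
    fun g hg => by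
      obtain ⟨y0, -, rfl⟩ := Finset.mem_image.1 hg
      refine le_trans ?_ (card_cent_le hR)
      rw [Nat.card_eq_fintype_card, ← Fintype.card_coe]
      refine Fintype.card_le_of_injective (fun y => ⟨y0⁻¹ * y.1, ?_⟩) fun a b e => ?_
      · have e := (Finset.mem_filter.1 y.2).2
        have e2 : y.1 * el R = y0 * el R * y0⁻¹ * y.1 := mul_inv_eq_iff_eq_mul.1 e
        rw [mul_assoc, e2]; group
      · exact Subtype.ext (mul_left_cancel (congrArg Subtype.val e))
  rw [Finset.card_univ, ← Nat.card_eq_fintype_card, card_X24] at h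
  convert h using 3
  ext g
  simp [cls]

theorem sig_eq {R R' : Row} (hR : R ∈ rows) (hR' : R' ∈ rows) {y : X24} (hy : y * el R = el R' * y) :
    sig R = sig R' := by
  refine List.map_congr_left fun k _ => ?_
  refine Finset.card_bijective _ (y : Equiv.Perm (Fin 24)).bijective fun x => ?_
  simp only [Finset.mem_filter, Finset.mem_univ, true_and]
  have h := fix_iff hR hR' hy x.isLt k
  have e : (⟨(x : ℕ) % 24, Nat.mod_lt _ (by norm_num)⟩ : Fin 24) = x := Fin.ext (Nat.mod_eq_of_lt x.isLt)
  rwa [e] at h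

theorem cls_disjoint {R R' : Row} (hR : R ∈ rows) (hR' : R' ∈ rows) (hne : R ≠ R') : Disjoint (cls R) (cls R') := by
  rw [Finset.disjoint_left]
  intro g hg hg'
  obtain ⟨y, rfl⟩ := mem_cls.1 hg
  obtain ⟨z, hz⟩ := mem_cls.1 hg'
  obtain ⟨i, hi, hri⟩ := List.getElem_of_mem hR
  obtain ⟨j, hj, hrj⟩ := List.getElem_of_mem hR'
  have hij : (⟨i, rows_arith.1 ▸ hi⟩ : Fin 25) ≠ ⟨j, rows_arith.1 ▸ hj⟩ := fun e => hne (by
    have : i = j := congrArg Fin.val e
    subst this
    exact hri.symm.trans hrj)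
  have hcross := List.all_eq_true.1 (List.all_eq_true.1 cross_ok i (List.mem_range.2 (rows_arith.1 ▸ hi))) j
    (List.mem_range.2 (rows_arith.1 ▸ hj))
  have hne' : i ≠ j := fun e => hij (Fin.ext e)
  simp only [List.getElem?_eq_getElem hi, List.getElem?_eq_getElem hj, hri, hrj, Bool.or_eq_true, beq_iff_eq, hne',
    false_or, bne_iff_ne, ne_eq] at hcross
  have hzy : (z⁻¹ * y) * el R = el R' * (z⁻¹ * y) := by
    calc z⁻¹ * y * el R = z⁻¹ * (y * el R * y⁻¹) * y := by group
      _ = z⁻¹ * (z * el R' * z⁻¹) * y := by rw [hz]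
      _ = _ := by group
  rcases hcross with (h | h) | h
  · refine h ?_
    rw [← order_el hR, ← order_el hR']
    have e1 := MulEquiv.orderOf_eq (MulAut.conj y) (el R)
    have e2 := MulEquiv.orderOf_eq (MulAut.conj z) (el R')
    simp only [MulAut.conj_apply] at e1 e2
    rw [← e1, ← e2, hz]
  · exact h (sig_eq hR hR' hzy)
  · have hpos : 0 < Nat.card {x : X24 // x * el R = el R' * x} := by
      haveI : Nonempty {x : X24 // x * el R = el R' * x} := ⟨⟨_, hzy⟩⟩
      exact Nat.card_pos
    have := card_transporter_le hR hR'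
    omega

theorem order_cls {R : Row} (hR : R ∈ rows) {g : X24} (hg : g ∈ cls R) : orderOf g = R.o := by
  obtain ⟨y, rfl⟩ := mem_cls.1 hg
  rw [← order_el hR]
  exact MulEquiv.orderOf_eq (MulAut.conj y) (el R)

theorem rows_nodup : rows.Nodup := by decide +kernel

/-- the number of elements of each order -/
def censusCount (n : ℕ) : ℕ :=
  (if n = 1 then 1 else 0) + ((rows.filter fun R => R.o == n).map fun R => 244823040 / R.c).sum

theorem card_order_X24 (n : ℕ) : Nat.card {g : X24 // orderOf g = n} = censusCount n := by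
  classical
  haveI := Fintype.ofFinite X24
  set D := (rows.toFinset).biUnion cls with hD
  have hdis : ∀ s : Finset Row, s ⊆ rows.toFinset → (s : Set Row).PairwiseDisjoint cls := fun s hs R hR R' hR' hne =>
    cls_disjoint (List.mem_toFinset.1 (hs hR)) (List.mem_toFinset.1 (hs hR')) hne
  have harith : ∀ R ∈ rows, 0 < R.c ∧ 1 < R.o ∧ R.c * (244823040 / R.c) = 244823040 := fun R hR => by
    have := List.all_eq_true.1 rows_arith.2.2 R hR
    simp only [Bool.and_eq_true, decide_eq_true_eq] at this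
    exact ⟨this.1.1.1, this.1.1.2, this.2⟩
  have hle : ∀ R ∈ rows.toFinset, 244823040 / R.c ≤ (cls R).card := fun R hR => by
    obtain ⟨hc, -, -⟩ := harith R (List.mem_toFinset.1 hR)
    exact Nat.div_le_of_le_mul (card_cls_ge (List.mem_toFinset.1 hR))
  have hsum : (∑ R ∈ rows.toFinset, 244823040 / R.c) = 244823039 := by
    rw [List.sum_toFinset _ rows_nodup]; exact rows_arith.2.1
  have h1 : (1 : X24) ∉ D := fun h => by
    obtain ⟨R, hR, hg⟩ := Finset.mem_biUnion.1 h
    have := order_cls (List.mem_toFinset.1 hR) hg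
    rw [orderOf_one] at this
    have := (harith R (List.mem_toFinset.1 hR)).2.1
    omega
  have hcardD : D.card = ∑ R ∈ rows.toFinset, (cls R).card := Finset.card_biUnion (hdis _ le_rfl)
  have hDle : D.card + 1 ≤ 244823040 := by
    rw [← Finset.card_insert_of_notMem h1, ← card_X24, Nat.card_eq_fintype_card]
    exact Finset.card_le_univ _
  have hge : 244823039 ≤ D.card := by rw [hcardD, ← hsum]; exact Finset.sum_le_sum hle
  have heq : ∀ R ∈ rows.toFinset, 244823040 / R.c = (cls R).card := by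
    refine (Finset.sum_eq_sum_iff_of_le hle).1 ?_
    omega
  have huniv : insert (1 : X24) D = Finset.univ := Finset.eq_univ_of_card _ (by
    rw [Finset.card_insert_of_notMem h1, ← Nat.card_eq_fintype_card, card_X24]; omega)
  rw [Nat.card_eq_fintype_card, Fintype.card_subtype, ← huniv, Finset.filter_insert]
  have hfD : (D.filter fun g => orderOf g = n) = (rows.toFinset.filter fun R => R.o = n).biUnion cls := by
    ext g
    simp only [hD, Finset.mem_filter, Finset.mem_biUnion]
    constructor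
    · rintro ⟨⟨R, hR, hg⟩, ho⟩
      exact ⟨R, ⟨hR, by rw [← order_cls (List.mem_toFinset.1 hR) hg, ho]⟩, hg⟩
    · rintro ⟨R, ⟨hR, ho⟩, hg⟩
      exact ⟨⟨R, hR, hg⟩, by rw [order_cls (List.mem_toFinset.1 hR) hg, ho]⟩
  have hn1 : (1 : X24) ∉ D.filter fun g => orderOf g = n := fun h => h1 (Finset.mem_filter.1 h).1
  have hval : (D.filter fun g => orderOf g = n).card = ((rows.filter fun R => R.o == n).map fun R => 244823040 / R.c).sum := by
    rw [hfD, Finset.card_biUnion (hdis _ (Finset.filter_subset _ _)), ← Finset.sum_congr rfl fun R hR => heq R (Finset.mem_filter.1 hR).1,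
      ← List.sum_toFinset _ (rows_nodup.filter _)]
    congr 1
    ext R
    simp
  by_cases hn : n = 1
  · subst hn
    rw [if_pos orderOf_one, Finset.card_insert_of_notMem hn1, hval, censusCount, if_pos rfl]; omega
  · rw [if_neg (fun h => hn (by rw [← h, orderOf_one])), hval, censusCount, if_neg hn, zero_add]

/-- Every count of elements of a given order in the Mathieu group of degree twenty-four lies in a short list. -/
theorem m24_count_mem (n : ℕ) : Nat.card {g : ↥Cfsg.M24 // orderOf g = n} ∈ nseVals := by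
  have e : Nat.card {g : ↥Cfsg.M24 // orderOf g = n} = Nat.card {g : X24 // orderOf g = n} :=
    Nat.card_congr ((x24Equiv.symm.toEquiv).subtypeEquiv fun g => by
      rw [show orderOf (x24Equiv.symm.toEquiv g) = orderOf g from MulEquiv.orderOf_eq x24Equiv.symm g])
  rw [e, card_order_X24]
  rcases lt_or_ge n 24 with h | h
  · have : ∀ m : Fin 24, censusCount m.val ∈ nseVals := by decide +kernel
    exact this ⟨n, h⟩
  · have hf : (rows.filter fun R => R.o == n) = [] := List.filter_eq_nil_iff.2 fun R hR => by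
      have := List.all_eq_true.1 rows_arith.2.2 R hR
      simp only [Bool.and_eq_true, decide_eq_true_eq] at this
      simp only [beq_iff_eq]
      omega
    rw [censusCount, if_neg (by omega), hf]
    simp [nseVals]

/-- Each listed count is attained. -/
theorem m24_count_surj : ∀ v ∈ nseVals.tail, ∃ n : ℕ, Nat.card {g : ↥Cfsg.M24 // orderOf g = n} = v := by
  intro v hv
  have h : ∀ v ∈ nseVals.tail, ∃ n ∈ List.range 24, censusCount n = v := by decide +kernel
  obtain ⟨n, -, hn⟩ := h v hv
  refine ⟨n, ?_⟩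
  rw [← hn, ← card_order_X24]
  exact Nat.card_congr ((x24Equiv.symm.toEquiv).subtypeEquiv fun g => by
    rw [show orderOf (x24Equiv.symm.toEquiv g) = orderOf g from MulEquiv.orderOf_eq x24Equiv.symm g])

theorem card_M24 : Nat.card ↥Cfsg.M24 = 244823040 := by
  rw [← Nat.card_congr x24Equiv.toEquiv, card_X24]

end Cfsg.Lib.M24Nse
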