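import Cfsg.Agent.M12Nse.Facts

/-!
The numbers of elements of each order in the Mathieu group of degree twenty-four.
-/

set_option autoImplicit false

namespace Cfsg.Lib.M24Nse

open Cfsg.Lib.SameOrder

/-- the numbers of elements of each order -/
def cntTab : List (ℕ × ℕ) := [(1, 1), (2, 43263), (3, 712448), (4, 5100480), (5, 4080384), (6, 20401920),
  (7, 11658240), (8, 15301440), (10, 12241152), (11, 22256640), (12, 40803840), (14, 34974720), (15, 32643072),
  (21, 23316480), (23, 21288960)]

/-- the possible numbers of elements of a given order -/
def nseVals : List ℕ := 0 :: cntTab.map Prod.snd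

/-- the expected number of elements of a given order -/
def expected (n : ℕ) : ℕ := ((cntTab.find? fun e => e.1 == n).map Prod.snd).getD 0

/-- the hypothesis -/
structure Hyp (G : Type*) [Group G] : Prop where
  card : Nat.card G = 244823040
  mem : ∀ n, cnt G n ∈ nseVals
  surj : ∀ v ∈ nseVals.tail, ∃ n, cnt G n = v

/-- the hypothesis with the orders resolved -/
structure Counts (G : Type*) [Group G] : Prop where
  card : Nat.card G = 244823040
  cnt_eq : ∀ n, cnt G n = expected n

end Cfsg.Lib.M24Nse
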