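import Cfsg.Agent.Golay.Subgroups
import Cfsg.Agent.Golay.FusionCert
import Cfsg.Agent.M24Nse.Defs

/-!
Class representatives in the Mathieu group of degree twenty-four.
-/

set_option autoImplicit false
set_option linter.unusedSectionVars false
set_option linter.style.haveILetI false
set_option maxRecDepth 100000
set_option maxHeartbeats 1000000

namespace Cfsg.Lib.M24Nse

open Subgroup Cfsg.Lib.PermCert Cfsg.Lib.Golay

/-- the chain of the group of the code -/
abbrev chain : List Level := m24PointChain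

theorem chain_check : check 24 chain = true := pointChain_check

/-- the group of tables -/
abbrev X24 : Subgroup (Equiv.Perm (Fin 24)) := grp 24 chain

theorem card_X24 : Nat.card X24 = 244823040 := by
  rw [card_grp chain_check]; decide +kernel

/-- the Mathieu group as the group of tables -/
noncomputable def x24Equiv : X24 ≃* ↥Cfsg.M24 :=
  (permHom.subgroupMap X24).trans (MulEquiv.subgroupCongr onPts_pointChain)

/-- the word of the element with prescribed images of the base -/
def recon : List Level → (ℕ → ℕ) → Option (List PP)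
  | [], _ => some []
  | L :: r, f =>
    match L.tr.find? (fun e => e.1 == f L.b) with
    | some e => (recon r fun x => ap e.2.1.2 (f x)).map (e.2.1 :: ·)
    | none => none

theorem grp_tail_le {n : ℕ} {L : Level} {r : List Level} (h : check n (L :: r) = true) :
    grp n r ≤ grp n (L :: r) := by
  simp only [check, Bool.and_eq_true] at h
  apply (closure_le _).mpr
  rintro g ⟨s, hs, rfl⟩
  exact perm_mem_grp (c := L :: r) ((levelOK h.1).down s hs).1

theorem recon_mem {n : ℕ} : ∀ {c : List Level}, check n c = true → ∀ {f : ℕ → ℕ} {w : List PP},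
    recon c f = some w → (∀ g ∈ w, valid n g = true) ∧ wperm n w ∈ grp n c := by
  intro c
  induction c with
  | nil =>
    intro _ f w h
    cases h
    exact ⟨by simp, by simp⟩
  | cons L r ih =>
    intro hc f w h
    have hc' := hc
    simp only [check, Bool.and_eq_true] at hc'
    have ok := levelOK hc'.1
    simp only [recon] at h
    split at h
    · next e he =>
      have hm := List.mem_of_find?_eq_some he
      obtain ⟨v, hv, rfl⟩ := Option.map_eq_some_iff.1 h
      obtain ⟨h1, h2⟩ := ih hc'.2 hv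
      refine ⟨fun g hg => ?_, ?_⟩
      · rcases List.mem_cons.mp hg with rfl | hg
        · exact (tree_entry ok.tree hm).1
        · exact h1 g hg
      · rw [wperm_cons]
        exact mul_mem (tree_mem ok.tree ok.gens_valid _ (fun s hs => perm_mem_grp (c := L :: r) hs) e hm)
          (grp_tail_le hc h2)
    · cases h

theorem recon_spec {n : ℕ} : ∀ {c : List Level}, check n c = true → ∀ {y : Equiv.Perm (Fin n)},
    y ∈ grp n c → ∀ {f : ℕ → ℕ}, (∀ L ∈ c, ∀ h : L.b < n, f L.b = (y ⟨L.b, h⟩ : ℕ)) →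
    ∃ w, recon c f = some w ∧ wperm n w = y := by
  intro c
  induction c with
  | nil =>
    intro _ y hy f _
    refine ⟨[], rfl, ?_⟩
    simp [grp, topGens] at hy
    simp [hy]
  | cons L r ih =>
    intro hc y hy f hf
    have hc' := hc
    simp only [check, Bool.and_eq_true] at hc'
    have ok := levelOK hc'.1
    have hy' : y ∈ prodSet n (L :: r) := by rw [(chain_spec hc).1]; exact hy
    obtain ⟨e, he, v, hv, rfl⟩ := hy'
    rw [(chain_spec hc'.2).1] at hv
    obtain ⟨hev, heb⟩ := tree_entry ok.tree he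
    have hvb : v ⟨L.b, ok.b_lt⟩ = ⟨L.b, ok.b_lt⟩ := by
      have : grp n r ≤ MulAction.stabilizer (Equiv.Perm (Fin n)) (⟨L.b, ok.b_lt⟩ : Fin n) := by
        apply (closure_le _).mpr
        rintro g ⟨s, hs, rfl⟩
        simp only [SetLike.mem_coe, MulAction.mem_stabilizer_iff, Equiv.Perm.smul_def]
        apply Fin.ext
        rw [perm_apply (ok.gens_valid s (ok.down s hs).1)]
        exact (ok.down s hs).2
      exact MulAction.mem_stabilizer_iff.mp (this hv)
    have hfb : f L.b = e.1 := by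
      rw [hf L List.mem_cons_self ok.b_lt, Equiv.Perm.mul_apply, hvb, perm_apply hev, heb]
    have hfind : L.tr.find? (fun e' => e'.1 == f L.b) = some e := by
      cases h : L.tr.find? (fun e' => e'.1 == f L.b) with
      | none => exact absurd (List.find?_eq_none.1 h e he) (by simp [hfb])
      | some e' =>
        exact congrArg some (List.inj_on_of_nodup_map ok.nodup (List.mem_of_find?_eq_some h) he
          ((by simpa using List.find?_some h : e'.1 = f L.b).trans hfb))
    obtain ⟨w, hw, hwv⟩ := ih hc'.2 hv (f := fun x => ap e.2.1.2 (f x)) fun L' hL' h => by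
      rw [hf L' (List.mem_cons_of_mem _ hL') h]
      show ap (pinv e.2.1).1 ((perm n e.2.1 * v) ⟨L'.b, h⟩ : ℕ) = _
      rw [← perm_apply (valid_pinv hev), perm_pinv hev]
      simp
    exact ⟨e.2.1 :: w, by simp only [recon, hfind, hw, Option.map_some], by rw [wperm_cons, hwv]⟩

/-- the twenty-four points -/
def orb : List ℕ := List.range 24

theorem orb_props : orb.all (fun a => decide (a < 24)) = true ∧
    chain.map (·.b) = [23, 0, 1, 2, 3, 4, 5] := by decide +kernel

theorem orb_stable {g : Equiv.Perm (Fin 24)} (a : Fin 24) : (g a : ℕ) ∈ orb :=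
  List.mem_range.mpr (g a).isLt

theorem wperm_append (w v : List PP) : wperm 24 (w ++ v) = wperm 24 w * wperm 24 v := by
  simp [wperm, List.map_append, List.prod_append]

/-- iterate of a word -/
def itW (w : List PP) (k x : ℕ) : ℕ := (evalWord w)^[k] x

theorem itW_eq {w : List PP} (hw : ∀ g ∈ w, valid 24 g = true) (k : ℕ) (x : Fin 24) :
    ((wperm 24 w ^ k) x : ℕ) = itW w k x := by
  induction k with
  | zero => rfl
  | succ k ih => rw [pow_succ', Equiv.Perm.mul_apply, wperm_apply hw, ih]; simp only [itW, Function.iterate_succ_apply']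

/-- a class representative: order, centraliser order, images of the base, cycle points and cover of the base -/
structure Row where
  o : ℕ
  c : ℕ
  img : List ℕ
  ps : List ℕ
  cov : List (ℕ × ℕ)
deriving DecidableEq

/-- the classes other than the trivial one -/
def rows : List Row := [⟨2, 21504, [1, 5, 23, 3, 2, 4, 0], [23, 0, 2, 4], [(0, 0), (1, 0), (0, 1), (2, 0), (2, 1), (3, 0), (1, 1)]⟩,
  ⟨2, 7680, [0, 23, 11, 5, 4, 3, 2], [23, 1, 2, 3], [(0, 0), (0, 1), (1, 0), (2, 0), (3, 0), (3, 1), (2, 1)]⟩,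
  ⟨3, 1080, [2, 23, 3, 0, 5, 4, 1], [23, 1, 4], [(0, 0), (0, 2), (1, 0), (0, 1), (1, 1), (2, 0), (1, 2)]⟩,
  ⟨3, 504, [10, 3, 2, 5, 19, 23, 1], [23, 0, 1], [(0, 0), (1, 0), (2, 0), (2, 1), (1, 1), (0, 2), (2, 2)]⟩,
  ⟨4, 128, [0, 2, 4, 5, 6, 3, 23], [23, 1], [(0, 0), (0, 1), (1, 0), (0, 2), (1, 2), (1, 1), (0, 3)]⟩,
  ⟨4, 384, [5, 3, 4, 13, 23, 1, 0], [23, 1, 2], [(0, 0), (0, 2), (1, 0), (2, 0), (0, 3), (1, 1), (0, 1)]⟩,
  ⟨4, 96, [2, 23, 3, 19, 5, 1, 4], [23, 1], [(0, 0), (0, 3), (1, 0), (0, 1), (1, 1), (1, 3), (1, 2)]⟩,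
  ⟨5, 60, [0, 3, 1, 5, 2, 4, 23], [23, 1, 4], [(0, 0), (0, 1), (1, 0), (0, 3), (0, 2), (2, 0), (0, 4)]⟩,
  ⟨6, 24, [23, 4, 16, 2, 0, 5, 1], [0, 23, 2], [(1, 0), (0, 0), (0, 3), (2, 0), (0, 5), (0, 1), (0, 2)]⟩,
  ⟨6, 24, [2, 5, 0, 1, 20, 19, 11], [23, 3], [(0, 0), (0, 3), (0, 2), (0, 1), (1, 0), (1, 3), (0, 4)]⟩,
  ⟨7, 42, [14, 1, 23, 5, 0, 4, 3], [23, 4], [(0, 0), (0, 5), (0, 6), (0, 2), (0, 4), (1, 0), (0, 3)]⟩,
  ⟨7, 42, [1, 3, 0, 14, 5, 4, 2], [23, 4], [(0, 0), (0, 2), (0, 1), (0, 5), (0, 3), (1, 0), (0, 4)]⟩,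
  ⟨8, 16, [4, 3, 23, 6, 2, 0, 1], [23], [(0, 0), (0, 2), (0, 7), (0, 4), (0, 3), (0, 1), (0, 6)]⟩,
  ⟨10, 20, [16, 23, 0, 18, 5, 1, 2], [23], [(0, 0), (0, 9), (0, 8), (0, 4), (0, 2), (0, 7), (0, 3)]⟩,
  ⟨11, 11, [16, 5, 15, 23, 12, 1, 4], [23], [(0, 0), (0, 5), (0, 8), (0, 10), (0, 2), (0, 7), (0, 6)]⟩,
  ⟨12, 12, [0, 21, 3, 17, 4, 23, 14], [23], [(0, 0), (0, 1), (0, 9), (0, 6), (0, 10), (0, 11), (0, 3)]⟩,
  ⟨12, 12, [10, 6, 23, 4, 20, 9, 1], [23], [(0, 0), (0, 5), (0, 11), (0, 2), (0, 8), (0, 3), (0, 10)]⟩,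
  ⟨14, 14, [5, 4, 18, 2, 9, 23, 1], [23, 2], [(0, 0), (0, 12), (0, 2), (1, 0), (0, 4), (0, 13), (0, 1)]⟩,
  ⟨14, 14, [4, 14, 5, 2, 18, 0, 23], [23, 2], [(0, 0), (0, 2), (0, 12), (1, 0), (0, 10), (0, 1), (0, 13)]⟩,
  ⟨15, 15, [23, 17, 2, 19, 10, 12, 1], [0, 23], [(1, 0), (0, 0), (0, 12), (0, 13), (0, 4), (0, 2), (0, 11)]⟩,
  ⟨15, 15, [23, 19, 5, 1, 12, 17, 16], [0, 23], [(1, 0), (0, 0), (0, 3), (0, 2), (0, 11), (0, 13), (0, 4)]⟩,
  ⟨21, 21, [0, 7, 11, 12, 20, 1, 3], [23], [(0, 0), (0, 1), (0, 9), (0, 11), (0, 17), (0, 8), (0, 16)]⟩,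
  ⟨21, 21, [9, 23, 4, 11, 5, 10, 19], [23], [(0, 0), (0, 20), (0, 12), (0, 10), (0, 4), (0, 13), (0, 5)]⟩,
  ⟨23, 23, [5, 0, 19, 23, 22, 1, 4], [23, 0], [(0, 0), (1, 0), (0, 3), (0, 22), (0, 5), (0, 2), (0, 1)]⟩,
  ⟨23, 23, [2, 0, 4, 15, 19, 5, 23], [23, 0], [(0, 0), (1, 0), (0, 20), (0, 1), (0, 18), (0, 21), (0, 22)]⟩]

/-- the word of a representative -/
def Row.w (R : Row) : List PP := (recon chain fun i => R.img.getD ((i + 1) % 24) 0).getD []

/-- tuples of points -/
def tuples : List (List ℕ) → List (List ℕ)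
  | [] => [[]]
  | l :: r => l.flatMap fun a => (tuples r).map (a :: ·)

/-- possible images of the cycle points: fixed points go to fixed points and moved points to moved points -/
def cands (R R' : Row) : List (List ℕ) :=
  R.ps.map fun p => orb.filter fun a => [1, 2, 3, 4, 6].all fun k => (itW R.w k p == p) == (itW R'.w k a == a)

/-- images of the base of an element carrying one representative to the other -/
def imgs (R R' : Row) (t : List ℕ) (i : ℕ) : ℕ :=
  itW R'.w (R.cov.getD i (0, 0)).2 (t.getD (R.cov.getD i (0, 0)).1 0)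

/-- the tuple gives an element carrying one representative to the other -/
def good (R R' : Row) (t : List ℕ) : Bool :=
  match recon chain (fun x => imgs R R' t ((x + 1) % 24)) with
  | some v => FusionCert.same (v ++ R.w) (R'.w ++ v)
  | none => false

/-- number of good tuples -/
def count (R R' : Row) : ℕ := (tuples (cands R R')).countP (good R R')

/-- validity of a row -/
def rowOK (R : Row) : Bool :=
  (recon chain fun i => R.img.getD ((i + 1) % 24) 0).isSome && R.ps.all (fun p => orb.contains p) &&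
  (List.range 7).all (fun i => decide ((R.cov.getD i (0, 0)).1 < R.ps.length) &&
    (itW R.w (R.cov.getD i (0, 0)).2 (R.ps.getD (R.cov.getD i (0, 0)).1 0) == (i + 23) % 24)) &&
  (List.range 24).all (fun x => itW R.w R.o x == x) &&
  (List.range R.o).all (fun k => k == 0 || (List.range 24).any fun x => !(itW R.w k x == x))

/-- the good tuples with a given first entry -/
def countHead (R : Row) (a : ℕ) : ℕ :=
  (tuples (cands R R).tail).countP fun t => good R R (a :: t)

/-- the centraliser of a representative is small enough -/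
def selfOK (R : Row) : Bool :=
  decide (((cands R R).headD []).length * countHead R (R.ps.headD 0) ≤ R.c) || decide (count R R ≤ R.c)

/-- the numbers of fixed points of small powers -/
def sig (R : Row) : List ℕ :=
  [1, 2, 3, 4, 6].map fun k => (Finset.univ.filter fun x : Fin 24 => itW R.w k x = x).card

end Cfsg.Lib.M24Nse
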