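import Cfsg.Agent.M24Nse.Basics

/-!
Simplicity and the equation of the classes of involutions.
-/

set_option autoImplicit false
set_option linter.unusedSectionVars false
set_option linter.style.haveILetI false
set_option maxRecDepth 100000

namespace Cfsg.Lib.M24Nse

open Subgroup Cfsg.Lib.SameOrder Cfsg.Lib.Small Cfsg.Lib.MathieuEleven

universe u

variable {G : Type u} [Group G] [Finite G]

local instance fact_five_mfc : Fact (Nat.Prime 5) := ⟨Nat.prime_five⟩
local instance fact_seven_mfc : Fact (Nat.Prime 7) := ⟨by norm_num⟩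
local instance fact_eleven_mfc : Fact (Nat.Prime 11) := ⟨by norm_num⟩
local instance fact_twenty_three_mfc : Fact (Nat.Prime 23) := ⟨by norm_num⟩

/-- The Sylow number of a subgroup through the normalizer of one of its elements of prime order. -/
theorem sylow_mul_norm (D : Subgroup G) {p : ℕ} [Fact p.Prime]
    (hS : ∀ P : Sylow p ↥D, Nat.card ↥(P : Subgroup ↥D) = p) {x : G} (hx : orderOf x = p) (hxD : x ∈ D) :
    Nat.card (Sylow p ↥D) * Nat.card ↥(D ⊓ normalizer (zpowers x : Set G)) = Nat.card ↥D := by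
  obtain ⟨P, hP⟩ := M12Nse.exists_sylow_zpowers hS (x := (⟨x, hxD⟩ : ↥D)) (by rw [Subgroup.orderOf_mk]; exact hx)
  have h := card_normalizer_mul P
  rw [hP] at h
  have hmem : ∀ g : ↥D, g ∈ normalizer (zpowers (⟨x, hxD⟩ : ↥D) : Set ↥D) ↔
      (g : G) ∈ normalizer (zpowers x : Set G) := by
    intro g
    constructor
    · intro hg
      refine MathieuEleven.mem_normalizer_zpowers ?_
      obtain ⟨k, hk⟩ := mem_zpowers_iff.1 ((Subgroup.mem_normalizer_iff.1 hg _).1 (mem_zpowers _))
      exact ⟨k, by simpa using congrArg Subtype.val hk⟩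
    · intro hg
      refine MathieuEleven.mem_normalizer_zpowers ?_
      obtain ⟨k, hk⟩ := mem_zpowers_iff.1 ((Subgroup.mem_normalizer_iff.1 hg _).1 (mem_zpowers _))
      exact ⟨k, Subtype.ext (by simpa using hk)⟩
  rw [Nat.card_congr (α := ↥(normalizer (zpowers (⟨x, hxD⟩ : ↥D) : Set ↥D)))
    (β := ↥(D ⊓ normalizer (zpowers x : Set G)))
    { toFun := fun g => ⟨g.1.1, mem_inf.2 ⟨g.1.2, (hmem g.1).1 g.2⟩⟩
      invFun := fun g => ⟨⟨g.1, (mem_inf.1 g.2).1⟩, (hmem ⟨g.1, _⟩).2 (mem_inf.1 g.2).2⟩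
      left_inv := fun _ => rfl
      right_inv := fun _ => rfl }] at h
  rw [mul_comm]
  exact h

variable (H : Counts G)
include H

theorem card_sylow_sub {p m : ℕ} [Fact p.Prime] (hm : 244823040 = p * m) (hp : ¬ p ∣ m) (D : Subgroup G)
    (hd : p ∣ Nat.card ↥D) (P : Sylow p ↥D) : Nat.card ↥(P : Subgroup ↥D) = p := by
  obtain ⟨k, hk⟩ := hd
  have h1 : p * k ∣ p * m := by rw [← hk, ← hm, ← H.card]; exact card_subgroup_dvd_card D
  have h0 := card_sylow_of_factor P (a := 1) (m := k) (by rw [hk, pow_one])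
    fun h => hp (h.trans (Nat.dvd_of_mul_dvd_mul_left (Fact.out : p.Prime).pos h1))
  rwa [pow_one] at h0

theorem sylow_seven_sub (D : Subgroup G) (h : 7 ∣ Nat.card ↥D) :
    ∀ P : Sylow 7 ↥D, Nat.card ↥(P : Subgroup ↥D) = 7 :=
  fun P => card_sylow_sub H (m := 34974720) (by norm_num) (by norm_num) D h P

theorem sylow_five_sub (D : Subgroup G) (h : 5 ∣ Nat.card ↥D) :
    ∀ P : Sylow 5 ↥D, Nat.card ↥(P : Subgroup ↥D) = 5 :=
  fun P => card_sylow_sub H (m := 48964608) (by norm_num) (by norm_num) D h P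

theorem cent_invol_seven {x u : G} (hx : orderOf x = 7) (hu : orderOf u = 2) (hux : u * x = x * u) :
    Nat.card ↥(centralizer ({u} : Set G)) = 42 * Nat.card (Sylow 7 ↥(centralizer ({u} : Set G))) := by
  set D := centralizer ({u} : Set G)
  have hd : 7 ∣ Nat.card ↥D := hx ▸ M12Nse.dvd_centralizer_orderOf hux.symm
  have h := sylow_mul_norm D (sylow_seven_sub H D hd) hx (mem_centralizer_singleton_iff.2 hux.symm)
  rw [(seven_u H hx hu hux).2] at h
  omega

theorem cent_invol_five {y v : G} (hy : orderOf y = 5) (hv : orderOf v = 2) (hvy : v * y = y * v) :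
    Nat.card ↥(centralizer ({v} : Set G)) = 80 * Nat.card (Sylow 5 ↥(centralizer ({v} : Set G))) := by
  set D := centralizer ({v} : Set G)
  have hd : 5 ∣ Nat.card ↥D := hy ▸ M12Nse.dvd_centralizer_orderOf hvy.symm
  have h := sylow_mul_norm D (sylow_five_sub H D hd) hy (mem_centralizer_singleton_iff.2 hvy.symm)
  rw [(five_v H hy hv hvy).2] at h
  omega

theorem cent_invol_bound {a : G} (ha : orderOf a = 2) : 244823040 ≤ 43263 * Nat.card ↥(centralizer ({a} : Set G)) := by
  rw [← H.card, ← M12Nse.card_isConj_mul a, ← cnt_val H (n := 2) (v := 43263)]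
  exact Nat.mul_le_mul_right _ (Nat.card_le_card_of_injective
    (fun x : {x : G // IsConj a x} => (⟨x.1, (M12Nse.conj_orderOf x.2).trans ha⟩ : {g : G // orderOf g = 2}))
    fun x y h => Subtype.ext (congrArg (fun z : {g : G // orderOf g = 2} => z.1) h))

theorem cent_invol_not {a : G} (ha : orderOf a = 2) {q : ℕ} (hq : q = 11 ∨ q = 23) :
    ¬ q ∣ Nat.card ↥(centralizer ({a} : Set G)) := fun h => by
  have : Fact q.Prime := ⟨by rcases hq with rfl | rfl <;> norm_num⟩
  obtain ⟨⟨w, hw⟩, hwo⟩ := exists_prime_orderOf_dvd_card' q h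
  rw [Subgroup.orderOf_mk] at hwo
  have hc := mem_centralizer_singleton_iff.1 hw
  rcases hq with rfl | rfl
  · exact order_comm H hc hwo ha (by norm_num)
  · exact order_comm H hc hwo ha (by norm_num)

/-- No involution commutes both with an element of order five and with one of order seven. -/
theorem not_five_seven {a x y : G} (ha : orderOf a = 2) (hx : orderOf x = 7) (hax : a * x = x * a)
    (hy : orderOf y = 5) (hay : a * y = y * a) : False := by
  set D := centralizer ({a} : Set G) with hD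
  have h7d : 7 ∣ Nat.card ↥D := hx ▸ M12Nse.dvd_centralizer_orderOf hax.symm
  have h5d : 5 ∣ Nat.card ↥D := hy ▸ M12Nse.dvd_centralizer_orderOf hay.symm
  have e7 := cent_invol_seven H hx ha hax
  have e5 := cent_invol_five H hy ha hay
  rw [← hD] at e7 e5
  have m7 : Nat.card (Sylow 7 ↥D) % 7 = 1 := card_sylow_modEq_one 7 ↥D
  have m5 : Nat.card (Sylow 5 ↥D) % 5 = 1 := card_sylow_modEq_one 5 ↥D
  obtain ⟨c, hc⟩ : Nat.lcm 42 80 ∣ Nat.card ↥D := Nat.lcm_dvd ⟨_, e7⟩ ⟨_, e5⟩
  rw [show Nat.lcm 42 80 = 1680 from rfl] at hc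
  have k7 : 42 * (40 * c) = 42 * Nat.card (Sylow 7 ↥D) := by rw [← e7, hc]; ring
  have k5 : 80 * (21 * c) = 80 * Nat.card (Sylow 5 ↥D) := by rw [← e5, hc]; ring
  rw [← Nat.eq_of_mul_eq_mul_left (show 0 < 42 by norm_num) k7] at m7
  rw [← Nat.eq_of_mul_eq_mul_left (show 0 < 80 by norm_num) k5] at m5
  clear e7 e5 k7 k5
  have hdvd : c ∣ 145728 := Nat.dvd_of_mul_dvd_mul_left (show 0 < 1680 by norm_num)
    (show 1680 * c ∣ 1680 * 145728 by rw [← hc]; exact (card_subgroup_dvd_card D).trans (dvd_of_eq (by rw [H.card])))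
  have h11 : ¬ 11 ∣ c := fun h => cent_invol_not H ha (Or.inl rfl) (hc ▸ h.mul_left _)
  have h23 : ¬ 23 ∣ c := fun h => cent_invol_not H ha (Or.inr rfl) (hc ▸ h.mul_left _)
  have hd : c ∣ 576 := by
    refine Nat.Coprime.dvd_of_dvd_mul_right (n := 11 * 23) (Nat.Coprime.mul_right
      ((Nat.Prime.coprime_iff_not_dvd (by norm_num)).2 h11).symm
      ((Nat.Prime.coprime_iff_not_dvd (by norm_num)).2 h23).symm) ?_
    exact hdvd
  have hall : ∀ d ∈ Nat.divisors 576, d % 35 ≠ 31 := by decide +kernel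
  exact hall c (Nat.mem_divisors.2 ⟨hd, by norm_num⟩) (by omega)

theorem cent_seven_dvd {x u : G} (hx : orderOf x = 7) (hu : orderOf u = 2) (hux : u * x = x * u) :
    Nat.card ↥(centralizer ({u} : Set G)) ∣ 193536 := by
  have hd : Nat.card ↥(centralizer ({u} : Set G)) ∣ 193536 * 1265 := by
    rw [show 193536 * 1265 = 244823040 from rfl, ← H.card]; exact card_subgroup_dvd_card _
  refine Nat.Coprime.dvd_of_dvd_mul_right ?_ hd
  rw [show 1265 = 5 * 11 * 23 from rfl]
  refine Nat.Coprime.mul_right (Nat.Coprime.mul_right ?_ ?_) ?_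
  · refine ((Nat.Prime.coprime_iff_not_dvd Nat.prime_five).2 fun h => ?_).symm
    obtain ⟨⟨w, hw⟩, hwo⟩ := exists_prime_orderOf_dvd_card' 5 h
    rw [Subgroup.orderOf_mk] at hwo
    exact not_five_seven H hu hx hux hwo (mem_centralizer_singleton_iff.1 hw).symm
  · exact ((Nat.Prime.coprime_iff_not_dvd (by norm_num)).2 (cent_invol_not H hu (Or.inl rfl))).symm
  · exact ((Nat.Prime.coprime_iff_not_dvd (by norm_num)).2 (cent_invol_not H hu (Or.inr rfl))).symm

theorem cent_five_dvd {y v : G} (hy : orderOf y = 5) (hv : orderOf v = 2) (hvy : v * y = y * v) :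
    Nat.card ↥(centralizer ({v} : Set G)) ∣ 138240 := by
  have hd : Nat.card ↥(centralizer ({v} : Set G)) ∣ 138240 * 1771 := by
    rw [show 138240 * 1771 = 244823040 from rfl, ← H.card]; exact card_subgroup_dvd_card _
  refine Nat.Coprime.dvd_of_dvd_mul_right ?_ hd
  rw [show 1771 = 7 * 11 * 23 from rfl]
  refine Nat.Coprime.mul_right (Nat.Coprime.mul_right ?_ ?_) ?_
  · refine ((Nat.Prime.coprime_iff_not_dvd (by norm_num)).2 fun h => ?_).symm
    obtain ⟨⟨w, hw⟩, hwo⟩ := exists_prime_orderOf_dvd_card' 7 h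
    rw [Subgroup.orderOf_mk] at hwo
    exact not_five_seven H hv hwo (mem_centralizer_singleton_iff.1 hw).symm hy hvy
  · exact ((Nat.Prime.coprime_iff_not_dvd (by norm_num)).2 (cent_invol_not H hv (Or.inl rfl))).symm
  · exact ((Nat.Prime.coprime_iff_not_dvd (by norm_num)).2 (cent_invol_not H hv (Or.inr rfl))).symm

/-- the centraliser of another involution -/
theorem cent_other {x u y v a : G} (hx : orderOf x = 7) (hu : orderOf u = 2) (hux : u * x = x * u)
    (hy : orderOf y = 5) (hv : orderOf v = 2) (hvy : v * y = y * v)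
    (ha : orderOf a = 2) (hau : ¬ IsConj u a) (hav : ¬ IsConj v a) :
    8855 ∣ Nat.card {b : G // IsConj a b} := by
  set D := centralizer ({a} : Set G)
  have hd : Nat.card ↥D ∣ 27648 * 8855 := by
    rw [show 27648 * 8855 = 244823040 from rfl, ← H.card]; exact card_subgroup_dvd_card _
  have hcop : (Nat.card ↥D).Coprime 8855 := by
    rw [show 8855 = 5 * 7 * 11 * 23 from rfl]
    refine Nat.Coprime.mul_right (Nat.Coprime.mul_right (Nat.Coprime.mul_right ?_ ?_) ?_) ?_
    · refine ((Nat.Prime.coprime_iff_not_dvd Nat.prime_five).2 fun h => ?_).symm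
      obtain ⟨⟨w, hw⟩, hwo⟩ := exists_prime_orderOf_dvd_card' 5 h
      rw [Subgroup.orderOf_mk] at hwo
      exact hav (five_conj H hy hwo hv hvy ha (mem_centralizer_singleton_iff.1 hw).symm)
    · refine ((Nat.Prime.coprime_iff_not_dvd (by norm_num)).2 fun h => ?_).symm
      obtain ⟨⟨w, hw⟩, hwo⟩ := exists_prime_orderOf_dvd_card' 7 h
      rw [Subgroup.orderOf_mk] at hwo
      exact hau (seven_conj H hx hwo hu hux ha (mem_centralizer_singleton_iff.1 hw).symm)
    · exact ((Nat.Prime.coprime_iff_not_dvd (by norm_num)).2 (cent_invol_not H ha (Or.inl rfl))).symm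
    · exact ((Nat.Prime.coprime_iff_not_dvd (by norm_num)).2 (cent_invol_not H ha (Or.inr rfl))).symm
  obtain ⟨q, hq⟩ := hcop.dvd_of_dvd_mul_right hd
  refine ⟨q, Nat.eq_of_mul_eq_mul_right (m := Nat.card ↥D) Nat.card_pos ?_⟩
  rw [M12Nse.card_isConj_mul, H.card, mul_assoc, mul_comm q, ← hq]
  norm_num

/-- The classes of involutions. -/
theorem class_equation {x u y v : G} (hx : orderOf x = 7) (hu : orderOf u = 2) (hux : u * x = x * u)
    (hy : orderOf y = 5) (hv : orderOf v = 2) (hvy : v * y = y * v) :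
    (Nat.card ↥(centralizer ({u} : Set G)) = 96768 ∨ Nat.card ↥(centralizer ({u} : Set G)) = 21504 ∨
        Nat.card ↥(centralizer ({u} : Set G)) = 12096) ∧
      (Nat.card ↥(centralizer ({v} : Set G)) = 46080 ∨ Nat.card ↥(centralizer ({v} : Set G)) = 17280 ∨
        Nat.card ↥(centralizer ({v} : Set G)) = 7680) ∧
      (Nat.card ↥(centralizer ({u} : Set G)) = 21504 → Nat.card ↥(centralizer ({v} : Set G)) = 7680 →
        ∀ a : G, orderOf a = 2 → IsConj u a ∨ IsConj v a) := by
  classical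
  have := Fintype.ofFinite G
  set Cu := Nat.card ↥(centralizer ({u} : Set G)) with hCu
  set Cv := Nat.card ↥(centralizer ({v} : Set G)) with hCv
  have hnuv : ¬ IsConj u v := fun h => by
    obtain ⟨g, rfl⟩ := isConj_iff.1 h
    exact not_five_seven H hv ((MulEquiv.orderOf_eq (MulAut.conj g) x).trans hx) (conj_comm g hux) hy hvy
  set A := Finset.univ.filter fun a : G => IsConj u a
  set B := Finset.univ.filter fun a : G => IsConj v a
  set R := Finset.univ.filter fun a : G => orderOf a = 2 ∧ ¬ IsConj u a ∧ ¬ IsConj v a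
  have hA : Nat.card {a : G // IsConj u a} = A.card := by rw [Nat.card_eq_fintype_card, Fintype.card_subtype]
  have hB : Nat.card {a : G // IsConj v a} = B.card := by rw [Nat.card_eq_fintype_card, Fintype.card_subtype]
  have hAB : Disjoint A B := Finset.disjoint_left.2 fun a ha hb =>
    hnuv ((Finset.mem_filter.1 ha).2.trans (Finset.mem_filter.1 hb).2.symm)
  have hR : Disjoint (A ∪ B) R := Finset.disjoint_left.2 fun a ha hr => by
    rcases Finset.mem_union.1 ha with h | h
    · exact (Finset.mem_filter.1 hr).2.2.1 (Finset.mem_filter.1 h).2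
    · exact (Finset.mem_filter.1 hr).2.2.2 (Finset.mem_filter.1 h).2
  have htot : A.card + B.card + R.card = 43263 := by
    rw [← Finset.card_union_of_disjoint hAB, ← Finset.card_union_of_disjoint hR,
      ← cnt_val H (n := 2) (v := 43263), cnt, Nat.card_eq_fintype_card, Fintype.card_subtype]
    congr 1
    ext a
    simp only [A, B, R, Finset.mem_union, Finset.mem_filter, Finset.mem_univ, true_and]
    constructor
    · rintro ((h | h) | h)
      · exact (M12Nse.conj_orderOf h).trans hu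
      · exact (M12Nse.conj_orderOf h).trans hv
      · exact h.1
    · intro h
      by_cases h1 : IsConj u a
      · exact Or.inl (Or.inl h1)
      · by_cases h2 : IsConj v a
        · exact Or.inl (Or.inr h2)
        · exact Or.inr ⟨h, h1, h2⟩
  obtain ⟨W, hW⟩ : 8855 ∣ R.card := by
    rw [Finset.card_eq_sum_card_fiberwise (f := ConjClasses.mk) (t := Finset.univ) fun _ _ => Finset.mem_univ _]
    refine Finset.dvd_sum fun k _ => ?_
    obtain ⟨c, rfl⟩ := ConjClasses.exists_rep k
    by_cases hc : orderOf c = 2 ∧ ¬ IsConj u c ∧ ¬ IsConj v c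
    · refine (cent_other H hx hu hux hy hv hvy hc.1 hc.2.1 hc.2.2).trans (dvd_of_eq ?_)
      rw [Nat.card_eq_fintype_card, Fintype.card_subtype]
      congr 1
      ext a
      simp only [R, Finset.mem_filter, Finset.mem_univ, true_and, ConjClasses.mk_eq_mk_iff_isConj]
      exact ⟨fun h => ⟨⟨(M12Nse.conj_orderOf h).trans hc.1, fun h' => hc.2.1 (h'.trans h.symm),
        fun h' => hc.2.2 (h'.trans h.symm)⟩, h.symm⟩, fun h => h.2.symm⟩
    · rw [Finset.filter_eq_empty_iff.2 fun a ha ha' => hc ?_, Finset.card_empty]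
      · exact dvd_zero _
      · have hac : IsConj a c := ConjClasses.mk_eq_mk_iff_isConj.1 ha'
        obtain ⟨h1, h2, h3⟩ := (Finset.mem_filter.1 ha).2
        exact ⟨(M12Nse.conj_orderOf hac).trans h1, fun h => h2 (h.trans hac.symm), fun h => h3 (h.trans hac.symm)⟩
  have eA : A.card = 244823040 / Cu := by
    rw [← H.card, ← M12Nse.card_isConj_mul u, ← hA, ← hCu, Nat.mul_div_cancel _ (hCu ▸ Nat.card_pos)]
  have eB : B.card = 244823040 / Cv := by
    rw [← H.card, ← M12Nse.card_isConj_mul v, ← hB, ← hCv, Nat.mul_div_cancel _ (hCv ▸ Nat.card_pos)]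
  have hu' := cent_invol_seven H hx hu hux
  have hv' := cent_invol_five H hy hv hvy
  rw [← hCu] at hu'
  rw [← hCv] at hv'
  set nu := Nat.card (Sylow 7 ↥(centralizer ({u} : Set G)))
  set nv := Nat.card (Sylow 5 ↥(centralizer ({v} : Set G)))
  have mu : nu % 7 = 1 := card_sylow_modEq_one 7 _
  have mv : nv % 5 = 1 := card_sylow_modEq_one 5 _
  have du : nu ∣ 4608 := Nat.dvd_of_mul_dvd_mul_left (show 0 < 42 by norm_num)
    (show 42 * nu ∣ 42 * 4608 by rw [← hu']; exact cent_seven_dvd H hx hu hux)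
  have dv : nv ∣ 1728 := Nat.dvd_of_mul_dvd_mul_left (show 0 < 80 by norm_num)
    (show 80 * nv ∣ 80 * 1728 by rw [← hv']; exact cent_five_dvd H hy hv hvy)
  have hall : ∀ d ∈ Nat.divisors 4608, d % 7 = 1 → ∀ e ∈ Nat.divisors 1728, e % 5 = 1 →
      244823040 / (42 * d) + 244823040 / (80 * e) ≤ 43263 →
      (43263 - 244823040 / (42 * d) - 244823040 / (80 * e)) % 8855 = 0 →
      (42 * d = 96768 ∨ 42 * d = 21504 ∨ 42 * d = 12096) ∧ (80 * e = 46080 ∨ 80 * e = 17280 ∨ 80 * e = 7680) ∧
        (42 * d = 21504 → 80 * e = 7680 → 43263 - 244823040 / (42 * d) - 244823040 / (80 * e) = 0) := by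
    decide +kernel
  rw [hu'] at eA ⊢
  rw [hv'] at eB ⊢
  obtain ⟨h1, h2, h3⟩ := hall nu (Nat.mem_divisors.2 ⟨du, by norm_num⟩) mu nv
    (Nat.mem_divisors.2 ⟨dv, by norm_num⟩) mv (by omega)
    (by rw [show 43263 - 244823040 / (42 * nu) - 244823040 / (80 * nv) = 8855 * W by omega]; exact Nat.mul_mod_right _ _)
  refine ⟨h1, h2, fun e1 e2 a ha => ?_⟩
  by_contra hne
  push Not at hne
  have : 0 < R.card := Finset.card_pos.2 ⟨a, Finset.mem_filter.2 ⟨Finset.mem_univ _, ha, hne.1, hne.2⟩⟩
  have := h3 e1 e2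
  omega

/-- A nontrivial proper normal subgroup would contradict the counts. -/
theorem isSimple : IsSimpleGroup G := by
  classical
  haveI : Nontrivial G := Finite.one_lt_card_iff_nontrivial.1 (by rw [H.card]; norm_num)
  have hS23 : ∀ P : Sylow 23 G, Nat.card ↥(P : Subgroup G) = 23 := fun P => by
    simpa using card_sylow_of_factor P (a := 1) (m := 10644480) (by rw [H.card]; norm_num) (by norm_num)
  have hS11 : ∀ P : Sylow 11 G, Nat.card ↥(P : Subgroup G) = 11 := fun P => by
    simpa using card_sylow_of_factor P (a := 1) (m := 22256640) (by rw [H.card]; norm_num) (by norm_num)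
  have hN23 : ∀ {x : G}, orderOf x = 23 → Nat.card ↥(normalizer (zpowers x : Set G)) = 253 := fun hx => by
    refine card_normalizer_prime H hS23 (n := 967680) ?_ (by norm_num) hx
    have h := M12Nse.cnt_prime (p := 23) hS23
    rw [cnt_val H (n := 23) (v := 21288960)] at h
    omega
  have hN11 : ∀ {x : G}, orderOf x = 11 → Nat.card ↥(normalizer (zpowers x : Set G)) = 110 := fun hx => by
    refine card_normalizer_prime H hS11 (n := 2225664) ?_ (by norm_num) hx
    have h := M12Nse.cnt_prime (p := 11) hS11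
    rw [cnt_val H (n := 11) (v := 22256640)] at h
    omega
  refine ⟨fun N hN => ?_⟩
  by_contra hne
  push Not at hne
  obtain ⟨hbot, htop⟩ := hne
  haveI := hN
  have hidx : N.index ≠ 1 := fun e => htop (Subgroup.index_eq_one.1 e)
  -- Frattini
  have hfra : ∀ {p m : ℕ} [Fact p.Prime], 244823040 = p * m → ¬ p ∣ m → p ∣ Nat.card ↥N →
      ∃ x : G, orderOf x = p ∧ N.index ∣ Nat.card ↥(normalizer (zpowers x : Set G)) := by
    intro p m _ hm hp hd
    obtain ⟨P⟩ : Nonempty (Sylow p ↥N) := inferInstance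
    have hP := card_sylow_sub H hm hp N hd P
    obtain ⟨g, hg⟩ := (isCyclic_of_prime_card hP).exists_generator
    have hmap : (P : Subgroup ↥N).map N.subtype = zpowers ((g : ↥N) : G) := by
      refine le_antisymm ?_ (zpowers_le.2 ⟨g, g.2, rfl⟩)
      rintro _ ⟨a, ha, rfl⟩
      obtain ⟨k, hk⟩ := mem_zpowers_iff.1 (hg ⟨a, ha⟩)
      exact ⟨k, by simpa using congrArg (fun z : ↥(P : Subgroup ↥N) => ((z : ↥N) : G)) hk⟩
    refine ⟨((g : ↥N) : G), ?_, ?_⟩
    · rw [Subgroup.orderOf_coe, Subgroup.orderOf_coe, orderOf_eq_card_of_forall_mem_zpowers hg, hP]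
    · have h := Sylow.normalizer_sup_eq_top P
      rw [hmap] at h
      rw [← relIndex_top_right, ← h, Subgroup.relIndex_sup_right]
      exact relIndex_dvd_card N _
  -- congruences
  have hfix : ∀ {p : ℕ} [Fact p.Prime], ¬ p ∣ Nat.card ↥N → ∀ {x : G}, orderOf x = p →
      (∀ a : G, a * x = x * a → orderOf a ∣ p) → Nat.card ↥N % p = 1 := by
    intro p _ hd x hx hcen
    have h := ncard_conj_mod (p := p) (x := x) (k := 1) (by rw [pow_one, ← hx, pow_orderOf_eq_one])
      (s := (N : Set G)) fun a ha => hN.conj_mem a ha x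
    rw [show {a ∈ (N : Set G) | x * a = a * x} = {1} from ?_, Set.ncard_singleton,
      Nat.one_mod_eq_one.2 (Fact.out : p.Prime).ne_one] at h
    · rw [← Nat.card_coe_set_eq] at h; exact h
    ext a
    simp only [Set.mem_ofPred_eq, Set.mem_singleton_iff, SetLike.mem_coe]
    refine ⟨fun h => ?_, fun h => by subst h; exact ⟨N.one_mem, by simp⟩⟩
    rcases (Nat.dvd_prime (Fact.out : p.Prime)).1 (hcen a h.2.symm) with e | e
    · exact orderOf_eq_one_iff.1 e
    · exact absurd (e ▸ Subgroup.orderOf_dvd_natCard N h.1) hd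
  have hcen : ∀ {p q : ℕ} [Fact p.Prime], (∀ {x : G}, orderOf x = p → Nat.card ↥(normalizer (zpowers x : Set G)) = q) →
      0 < q → (∀ d ∈ Nat.divisors q, expected (Nat.lcm d p) ≠ 0 → d ∣ p) →
      ∀ {x : G}, orderOf x = p → ∀ a : G, a * x = x * a → orderOf a ∣ p := by
    intro p q _ hq hq0 hall x hx a ha
    have hd : orderOf a ∣ q := hq hx ▸ ((M12Nse.dvd_centralizer_orderOf ha).trans
      (card_dvd_of_le (cent_le_norm H x)))
    refine hall _ (Nat.mem_divisors.2 ⟨hd, hq0.ne'⟩) fun e => ?_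
    by_cases hap : p ∣ orderOf a
    · rw [Nat.lcm_eq_left hap] at e
      exact order_expected H a e
    · have hc : (orderOf a).Coprime p := ((Nat.Prime.coprime_iff_not_dvd Fact.out).2 hap).symm
      rw [hc.lcm_eq_mul] at e
      exact order_expected H (a * x) (by
        rw [(show Commute a x from ha).orderOf_mul_eq_mul_orderOf_of_coprime (by rw [hx]; exact hc), hx]; exact e)
  obtain ⟨z23, hz23⟩ := exists_order H (n := 23)
  obtain ⟨z11, hz11⟩ := exists_order H (n := 11)
  have hc23 : ∀ {x : G}, orderOf x = 23 → ∀ a : G, a * x = x * a → orderOf a ∣ 23 := fun {x} hx =>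
    hcen hN23 (by norm_num) (by decide +kernel) hx
  have hc11 : ∀ {x : G}, orderOf x = 11 → ∀ a : G, a * x = x * a → orderOf a ∣ 11 := fun {x} hx =>
    hcen hN11 (by norm_num) (by decide +kernel) hx
  have hiN := N.index_mul_card
  rw [H.card] at hiN
  by_cases h23 : 23 ∣ Nat.card ↥N
  · obtain ⟨x, hx, hd⟩ := hfra (p := 23) (m := 10644480) (by norm_num) (by norm_num) h23
    rw [hN23 hx] at hd
    have hcases : ∀ d ∈ Nat.divisors 253, d = 1 ∨ d = 11 ∨ 23 ∣ d := by decide +kernel
    rcases hcases _ (Nat.mem_divisors.2 ⟨hd, by norm_num⟩) with e | e | e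
    · exact hidx e
    · rw [e] at hiN
      have hN' : Nat.card ↥N = 22256640 := by omega
      have h := hfix (p := 11) (by rw [hN']; norm_num) hz11 (hc11 hz11)
      rw [hN'] at h
      norm_num at h
    · have h2 := Nat.mul_dvd_mul e h23
      rw [hiN] at h2
      norm_num at h2
  · have h23' := hfix (p := 23) h23 hz23 (hc23 hz23)
    have hi23 : 23 ∣ N.index :=
      ((Nat.Prime.dvd_mul (by norm_num)).1 (hiN ▸ (show 23 ∣ 244823040 by norm_num))).resolve_right h23
    have h11 : ¬ 11 ∣ Nat.card ↥N := fun h => by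
      obtain ⟨x, hx, hd⟩ := hfra (p := 11) (m := 22256640) (by norm_num) (by norm_num) h
      rw [hN11 hx] at hd
      exact absurd (hi23.trans hd) (by norm_num)
    have h5 : ¬ 5 ∣ Nat.card ↥N := fun h => by
      obtain ⟨x, hx, hd⟩ := hfra (p := 5) (m := 48964608) (by norm_num) (by norm_num) h
      rw [card_norm_five H hx] at hd
      exact absurd (hi23.trans hd) (by norm_num)
    have h7 : ¬ 7 ∣ Nat.card ↥N := fun h => by
      obtain ⟨x, hx, hd⟩ := hfra (p := 7) (m := 34974720) (by norm_num) (by norm_num) h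
      rw [card_norm_seven H hx] at hd
      exact absurd (hi23.trans hd) (by norm_num)
    have h11' := hfix (p := 11) h11 hz11 (hc11 hz11)
    have hd : Nat.card ↥N ∣ 27648 := by
      refine Nat.Coprime.dvd_of_dvd_mul_right (n := 5 * 7 * 11 * 23) ?_ ?_
      · exact Nat.Coprime.mul_right (Nat.Coprime.mul_right (Nat.Coprime.mul_right
          ((Nat.Prime.coprime_iff_not_dvd (by norm_num)).2 h5).symm ((Nat.Prime.coprime_iff_not_dvd (by norm_num)).2 h7).symm)
          ((Nat.Prime.coprime_iff_not_dvd (by norm_num)).2 h11).symm)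
          ((Nat.Prime.coprime_iff_not_dvd (by norm_num)).2 h23).symm
      · rw [show 27648 * (5 * 7 * 11 * 23) = Nat.card G by rw [H.card]]
        exact card_subgroup_dvd_card N
    obtain ⟨d1, d2, e1, e2, he⟩ := Nat.dvd_mul.1 (show Nat.card ↥N ∣ 1024 * 27 from hd)
    have hall : ∀ d ∈ Nat.divisors 1024, ∀ e ∈ Nat.divisors 27, d * e % 23 = 1 → d * e % 11 = 1 → d * e = 1 := by
      decide +kernel
    rw [← he] at h23' h11'
    exact hbot (card_eq_one.1 (he ▸ hall _ (Nat.mem_divisors.2 ⟨e1, by norm_num⟩) _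
      (Nat.mem_divisors.2 ⟨e2, by norm_num⟩) h23' h11'))

end Cfsg.Lib.M24Nse
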