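import Cfsg.Agent.M24Nse.Beta
import Cfsg.Agent.HeldCent.Quot
import Cfsg.Agent.S0495
import Cfsg.Agent.LocalThree.DihedralEightGeneral

/-!
The elements of order three commuting with the involutions.
-/

set_option autoImplicit false
set_option linter.unusedSectionVars false
set_option linter.style.haveILetI false
set_option maxRecDepth 100000

namespace Cfsg.Lib.M24Nse

open Subgroup Cfsg.Lib.SameOrder Cfsg.Lib.Small

universe u

local instance fact_three_mfct : Fact (Nat.Prime 3) := ⟨Nat.prime_three⟩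
local instance fact_five_mfct : Fact (Nat.Prime 5) := ⟨Nat.prime_five⟩
local instance fact_seven_mfct : Fact (Nat.Prime 7) := ⟨by norm_num⟩

section General

variable {D : Type u} [Group D] [Finite D]

theorem cnt_congr {X : Type*} [Group X] (e : D ≃* X) (n : ℕ) :
    Nat.card {g : D // orderOf g = n} = Nat.card {g : X // orderOf g = n} :=
  Nat.card_congr (e.toEquiv.subtypeEquiv fun g => by
    rw [MulEquiv.toEquiv_eq_coe, MulEquiv.coe_toEquiv, MulEquiv.orderOf_eq])

/-- Elements of order three of a centraliser. -/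
theorem cnt_cent (a : D) (n : ℕ) : cnt ↥(centralizer ({a} : Set D)) n = ncom a n :=
  Nat.card_congr
    { toFun := fun g => ⟨g.1, by rw [Subgroup.orderOf_coe]; exact g.2, mem_centralizer_singleton_iff.1 g.1.2⟩
      invFun := fun g => ⟨⟨g.1, mem_centralizer_singleton_iff.2 g.2.2⟩, by rw [← Subgroup.orderOf_coe]; exact g.2.1⟩
      left_inv := fun _ => rfl
      right_inv := fun _ => rfl }

/-- The elements of order three of a group and of its quotient by a two-group. -/
theorem three_fibre (W : Subgroup D) [W.Normal] {k : ℕ} (hW : Nat.card ↥W = 2 ^ k) {m : ℕ}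
    (hm : Nat.card D = 3 * m) (hm3 : ¬ 3 ∣ m) {t : D} (ht : orderOf t = 3) :
    cnt D 3 * Nat.card ↥(W ⊓ centralizer ({t} : Set D)) = cnt (D ⧸ W) 3 * Nat.card ↥W := by
  set f := QuotientGroup.mk' W with hf
  have hcop : (Nat.card ↥f.ker).Coprime 3 := by
    rw [hf, QuotientGroup.ker_mk', hW]
    exact Nat.Coprime.pow_left _ (by norm_num)
  have htp : IsPGroup 3 ↥(zpowers t) := IsPGroup.of_card (n := 1) (by rw [Nat.card_zpowers, ht, pow_one])
  have htW : t ∉ W := fun h => by
    have := (ht ▸ Subgroup.orderOf_dvd_natCard W h : 3 ∣ Nat.card ↥W)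
    rw [hW] at this
    exact (by norm_num : ¬ (3 : ℕ) ∣ 2) (Nat.prime_three.dvd_of_dvd_pow this)
  have hft : orderOf (f t) = 3 := by
    refine ((Nat.dvd_prime Nat.prime_three).1 (ht ▸ orderOf_map_dvd f t)).resolve_left fun e => htW ?_
    rwa [orderOf_eq_one_iff, hf, QuotientGroup.mk'_apply, QuotientGroup.eq_one_iff] at e
  have hS : ∀ P : Sylow 3 D, Nat.card ↥(P : Subgroup D) = 3 := fun P => by
    simpa using card_sylow_of_factor P (a := 1) (m := m) (by rw [hm]; ring) hm3
  have hcard : Nat.card D = Nat.card (D ⧸ W) * Nat.card ↥W := card_eq_card_quotient_mul_card_subgroup W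
  have hSX : ∀ P : Sylow 3 (D ⧸ W), Nat.card ↥(P : Subgroup (D ⧸ W)) = 3 := fun P => by
    obtain ⟨q, hq⟩ : 3 ∣ Nat.card (D ⧸ W) := hft ▸ orderOf_dvd_natCard _
    simpa using card_sylow_of_factor P (a := 1) (m := q) (by rw [hq]; ring) fun h => hm3 (by
      obtain ⟨r, rfl⟩ := h
      exact ⟨r * Nat.card ↥W, by
        rw [hq, hm] at hcard
        exact Nat.eq_of_mul_eq_mul_left (show 0 < 3 by norm_num) (by rw [hcard]; ring)⟩)
  have hnorm := Cfsg.Lib.Components.normalizer_map_of_coprime_ker (p := 3) (f := f)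
    (QuotientGroup.mk'_surjective W) hcop htp
  rw [MonoidHom.map_zpowers] at hnorm
  have hWN : W ⊓ normalizer (zpowers t : Set D) = W ⊓ centralizer ({t} : Set D) := by
    refine le_antisymm (fun a ha => mem_inf.2 ⟨(mem_inf.1 ha).1, mem_centralizer_singleton_iff.2 ?_⟩)
      (inf_le_inf_left _ fun c hc => MathieuEleven.mem_normalizer_zpowers (by
        rw [mem_centralizer_singleton_iff.1 hc, mul_inv_cancel_right]; exact mem_zpowers t))
    have h1 : a * t * a⁻¹ * t⁻¹ ∈ zpowers t := mul_mem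
      ((Subgroup.mem_normalizer_iff.1 (mem_inf.1 ha).2 t).1 (mem_zpowers t)) (inv_mem (mem_zpowers t))
    have h2 : a * t * a⁻¹ * t⁻¹ ∈ W := by
      rw [show a * t * a⁻¹ * t⁻¹ = a * (t * a⁻¹ * t⁻¹) by group]
      exact mul_mem (mem_inf.1 ha).1 ((inferInstance : W.Normal).conj_mem _ (inv_mem (mem_inf.1 ha).1) t)
    have h3 : a * t * a⁻¹ * t⁻¹ = 1 := by
      have := Cfsg.Lib.Components.coprime_pGroup_disjoint htp hcop
      rw [← mem_bot, ← this]
      exact mem_inf.2 ⟨h1, by rwa [hf, QuotientGroup.ker_mk']⟩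
    calc a * t = a * t * a⁻¹ * t⁻¹ * (t * a) := by group
      _ = t * a := by rw [h3, one_mul]
  obtain ⟨P, hP⟩ := M12Nse.exists_sylow_zpowers hS ht
  obtain ⟨Q, hQ⟩ := M12Nse.exists_sylow_zpowers hSX hft
  have eD := card_normalizer_mul P
  have eX := card_normalizer_mul Q
  rw [hP] at eD
  rw [hQ, ← hnorm] at eX
  have eM := card_map_mul W (normalizer (zpowers t : Set D))
  rw [hWN, ← hf] at eM
  rw [M12Nse.cnt_prime hS, M12Nse.cnt_prime hSX]
  refine Nat.eq_of_mul_eq_mul_left
    (show 0 < Nat.card ↥((normalizer (zpowers t : Set D)).map f) from Nat.card_pos) ?_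
  linear_combination (3 - 1) * Nat.card (Sylow 3 D) * eM + (3 - 1) * eD + (3 - 1) * hcard
    - (3 - 1) * Nat.card ↥W * eX

/-- A simple group of order sixty has twenty elements of order three. -/
theorem cnt_three_sixty [IsSimpleGroup D] (hnc : ¬ ∀ a b : D, a * b = b * a) (hc : Nat.card D = 60) :
    cnt D 3 = 20 := by
  classical
  have := Fintype.ofFinite (Sylow 3 D)
  have hS : ∀ P : Sylow 3 D, Nat.card ↥(P : Subgroup D) = 3 := fun P => by
    simpa using card_sylow_of_factor P (a := 1) (m := 20) (by rw [hc]; norm_num) (by norm_num)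
  obtain ⟨P⟩ : Nonempty (Sylow 3 D) := inferInstance
  have hidx : (P : Subgroup D).index = 20 := by
    have := (P : Subgroup D).index_mul_card
    rw [hS, hc] at this
    omega
  have hall : ∀ d ∈ Nat.divisors 20, d % 3 = 1 → d = 1 ∨ d = 4 ∨ d = 10 := by decide +kernel
  have hn := hall (Nat.card (Sylow 3 D)) (Nat.mem_divisors.2 ⟨hidx ▸ P.card_dvd_index, by norm_num⟩)
    (card_sylow_modEq_one 3 D)
  have hnorm : normalizer ((P : Subgroup D) : Set D) ≠ ⊤ := fun htop => by
    haveI hQn : (P : Subgroup D).Normal := normalizer_eq_top_iff.1 htop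
    have hQ := hS P
    rcases hQn.eq_bot_or_eq_top with e | e
    · rw [e, Subgroup.card_bot] at hQ; norm_num at hQ
    · rw [e, Subgroup.card_top, hc] at hQ; norm_num at hQ
  rw [M12Nse.cnt_prime hS]
  rcases hn with e | e | e
  · exact (hnorm (by rw [← Subgroup.index_eq_one]; exact P.card_eq_index_normalizer.symm.trans e)).elim
  · exfalso
    have hker : (MulAction.toPermHom D (Sylow 3 D)).ker = ⊥ := by
      refine ((inferInstance : (MulAction.toPermHom D (Sylow 3 D)).ker.Normal).eq_bot_or_eq_top).resolve_right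
        fun htop => hnorm (eq_top_iff.2 fun g _ => ?_)
      have hg := DFunLike.congr_fun (MonoidHom.mem_ker.1 (htop.symm ▸ mem_top g : g ∈ (MulAction.toPermHom D (Sylow 3 D)).ker)) P
      exact Sylow.smul_eq_iff_mem_normalizer.1 hg
    have h := Subgroup.card_subgroup_dvd_card (MulAction.toPermHom D (Sylow 3 D)).range
    rw [← Nat.card_congr (MonoidHom.ofInjective ((MonoidHom.ker_eq_bot_iff _).1 hker)).toEquiv, hc, Nat.card_perm,
      e] at h
    norm_num [Nat.factorial] at h
  · rw [e]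

open Cfsg.Lib.HeldCent in
theorem cnt_three_168 [IsSimpleGroup D] (hc : Nat.card D = 168) : cnt D 3 = 56 := by
  obtain ⟨e'⟩ := Cfsg.Agent.S0495.result hc (F := ZMod 7) (ZMod.card 7)
  obtain ⟨e⟩ : Nonempty (D ≃* L3) := Cfsg.Lib.DihedralEight.sl3_iso (ZMod.card 7) e'
  have key : (Finset.univ.filter fun m : L3 => m ^ 3 = 1 ∧ m ≠ 1).card = 56 := by decide +kernel
  rw [cnt, cnt_congr e, Nat.card_eq_fintype_card, Fintype.card_subtype, ← key]
  congr 1
  ext m
  simp only [Finset.mem_filter, Finset.mem_univ, true_and]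
  constructor
  · intro h
    refine ⟨orderOf_dvd_iff_pow_eq_one.1 (dvd_of_eq h), fun e => ?_⟩
    rw [e, orderOf_one] at h
    norm_num at h
  · exact fun h => orderOf_eq_prime h.1 h.2

end General

variable {G : Type u} [Group G] [Finite G]

/-- The quotient at an involution commuting with an element of order seven. -/
theorem seven_quot {u : G} {W : Subgroup ↥(centralizer ({u} : Set G))} [W.Normal]
    {x' : ↥(centralizer ({u} : Set G))} (L : Local W 7 x')
    (hC : Nat.card ↥(centralizer ({u} : Set G)) = 21504) (hW : Nat.card ↥W = 128 ∨ Nat.card ↥W = 1024)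
    (hN : Nat.card ↥(normalizer (zpowers (QuotientGroup.mk' W x') :
        Set (↥(centralizer ({u} : Set G)) ⧸ W))) = 21) :
    (Nat.card ↥W = 128 ∧ IsSimpleGroup (↥(centralizer ({u} : Set G)) ⧸ W) ∧
        cnt (↥(centralizer ({u} : Set G)) ⧸ W) 3 = 56) ∨
      (Nat.card ↥W = 1024 ∧ cnt (↥(centralizer ({u} : Set G)) ⧸ W) 3 = 14) := by
  have hcard := L.card
  rw [hC] at hcard
  have hsyl := L.sylow
  rw [hN] at hsyl
  rcases hW with e | e <;> rw [e] at hcard
  · left
    have hD' : Nat.card ↥(centralizer ({u} : Set G)) ∣ 2 ^ 10 * 3 ^ 3 * 7 := by rw [hC]; norm_num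
    obtain ⟨S, hSn, hSs, hSnc, -, -, hScard, hSp⟩ := L.exists_socle (Or.inr rfl) hD' (by omega)
    have hn8 : Nat.card (Sylow 7 (↥(centralizer ({u} : Set G)) ⧸ W)) = 8 := by omega
    obtain ⟨m, hm, hm7, hm21⟩ := socle_card (N := 21) (hScard.trans hn8) hSp
      (by omega) (by norm_num) (by norm_num)
    have hall : ∀ d ∈ Nat.divisors 21, 7 ∣ d → d = 7 ∨ d = 21 := by decide +kernel
    rcases hall m (Nat.mem_divisors.2 ⟨hm21, by norm_num⟩) hm7 with rfl | rfl
    · exact (false_small hSs hSnc hm (by norm_num) (by decide)).elim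
    haveI : IsSimpleGroup (↥(centralizer ({u} : Set G)) ⧸ W) := by
      rw [Subgroup.eq_top_of_card_eq S (by omega)] at hSs
      exact MulEquiv.isSimpleGroup Subgroup.topEquiv.symm
    exact ⟨e, inferInstance, cnt_three_168 (by omega)⟩
  · right
    refine ⟨e, ?_⟩
    have hX : Nat.card (↥(centralizer ({u} : Set G)) ⧸ W) = 21 := by omega
    have hS : ∀ P : Sylow 3 (↥(centralizer ({u} : Set G)) ⧸ W), Nat.card ↥(P : Subgroup (↥(centralizer ({u} : Set G)) ⧸ W)) = 3 := fun P => by
      simpa using card_sylow_of_factor P (a := 1) (m := 7) (by rw [hX]; norm_num) (by norm_num)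
    obtain ⟨P⟩ : Nonempty (Sylow 3 (↥(centralizer ({u} : Set G)) ⧸ W)) := inferInstance
    have hidx : (P : Subgroup (↥(centralizer ({u} : Set G)) ⧸ W)).index = 7 := by
      have := (P : Subgroup (↥(centralizer ({u} : Set G)) ⧸ W)).index_mul_card
      rw [hS, hX] at this
      omega
    rw [M12Nse.cnt_prime hS]
    rcases (Nat.dvd_prime (by norm_num : Nat.Prime 7)).1 (hidx ▸ P.card_dvd_index) with h1 | h7
    · exfalso
      haveI hn : (P : Subgroup (↥(centralizer ({u} : Set G)) ⧸ W)).Normal := normalizer_eq_top_iff.1 (by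
        rw [← Subgroup.index_eq_one]; exact P.card_eq_index_normalizer.symm.trans h1)
      have := hS P
      rw [L.no3 _ hn P.2, Subgroup.card_bot] at this
      norm_num at this
    · rw [h7]

/-- The quotient at an involution commuting with an element of order five. -/
theorem five_quot {v : G} {W : Subgroup ↥(centralizer ({v} : Set G))} [W.Normal]
    {y' : ↥(centralizer ({v} : Set G))} (L : Local W 5 y')
    (hC : Nat.card ↥(centralizer ({v} : Set G)) = 7680) (hW : Nat.card ↥W = 64)
    (hN : Nat.card ↥(normalizer (zpowers (QuotientGroup.mk' W y') :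
        Set (↥(centralizer ({v} : Set G)) ⧸ W))) = 20) :
    cnt (↥(centralizer ({v} : Set G)) ⧸ W) 3 = 20 := by
  have hcard := L.card
  rw [hC, hW] at hcard
  have hsyl := L.sylow
  rw [hN] at hsyl
  have hD' : Nat.card ↥(centralizer ({v} : Set G)) ∣ 2 ^ 10 * 3 ^ 3 * 5 := by rw [hC]; norm_num
  obtain ⟨S, hSn, hSs, hSnc, -, -, hScard, hSp⟩ := L.exists_socle (Or.inl rfl) hD' (by omega)
  haveI := hSs
  have hn6 : Nat.card (Sylow 5 (↥(centralizer ({v} : Set G)) ⧸ W)) = 6 := by omega
  obtain ⟨m, hm, hm5, hm20⟩ := socle_card (N := 20) (hScard.trans hn6) hSp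
    (by omega) (by norm_num) (by norm_num)
  have hall : ∀ d ∈ Nat.divisors 20, 5 ∣ d → d = 5 ∨ d = 10 ∨ d = 20 := by decide +kernel
  rcases hall m (Nat.mem_divisors.2 ⟨hm20, by norm_num⟩) hm5 with rfl | rfl | rfl
  · exact (false_small hSs hSnc hm (by norm_num) (by decide)).elim
  · haveI := hSn
    have hidx : Nat.card ((↥(centralizer ({v} : Set G)) ⧸ W) ⧸ S) = 2 := by
      have := S.card_eq_card_quotient_mul_card_subgroup
      rw [hm] at this
      omega
    have hmem : ∀ z : ↥(centralizer ({v} : Set G)) ⧸ W, orderOf z = 3 → z ∈ S := fun z hz => by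
      have h1 : orderOf (QuotientGroup.mk' S z) ∣ 3 := hz ▸ orderOf_map_dvd _ z
      have h2 : orderOf (QuotientGroup.mk' S z) ∣ 2 := hidx ▸ orderOf_dvd_natCard _
      have h3 := Nat.eq_one_of_dvd_coprimes (by norm_num) h1 h2
      rwa [orderOf_eq_one_iff, QuotientGroup.mk'_apply, QuotientGroup.eq_one_iff] at h3
    rw [show cnt (↥(centralizer ({v} : Set G)) ⧸ W) 3 = cnt ↥S 3 from Nat.card_congr
      { toFun := fun g => ⟨⟨g.1, hmem g.1 g.2⟩, by rw [Subgroup.orderOf_mk]; exact g.2⟩
        invFun := fun g => ⟨g.1.1, by rw [Subgroup.orderOf_coe]; exact g.2⟩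
        left_inv := fun _ => rfl
        right_inv := fun _ => rfl }]
    exact cnt_three_sixty hSnc (by omega)
  · exact (false_small hSs hSnc hm (by norm_num) (by decide)).elim

variable (H : Counts G)
include H

/-- The two classes of involutions share the elements of order six. -/
theorem cnt_six_split {u v : G} (hu : orderOf u = 2) (hv : orderOf v = 2) (hnuv : ¬ IsConj u v)
    (hall : ∀ a : G, orderOf a = 2 → IsConj u a ∨ IsConj v a) :
    Nat.card {a : G // IsConj u a} * ncom u 3 + Nat.card {a : G // IsConj v a} * ncom v 3 = 20401920 := by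
  classical
  have := Fintype.ofFinite G
  rw [← cnt_val H (n := 2 * 3) (v := 20401920), cnt_mul (by norm_num) (by norm_num) (by norm_num), Nat.card_sigma]
  have hunion : (Finset.univ.filter fun a : G => orderOf a = 2) =
      (Finset.univ.filter fun a : G => IsConj u a) ∪ Finset.univ.filter fun a : G => IsConj v a := by
    ext a
    simp only [Finset.mem_union, Finset.mem_filter, Finset.mem_univ, true_and]
    refine ⟨hall a, fun h => ?_⟩
    rcases h with h | h
    · exact (M12Nse.conj_orderOf h).trans hu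
    · exact (M12Nse.conj_orderOf h).trans hv
  rw [← Finset.sum_subtype (Finset.univ.filter fun a : G => orderOf a = 2) (fun a => by simp)
      (fun a => Nat.card {b : G // orderOf b = 3 ∧ b * a = a * b}), hunion, Finset.sum_union ?_]
  show _ = (∑ a ∈ Finset.univ.filter (fun a : G => IsConj u a), ncom a 3) +
    ∑ a ∈ Finset.univ.filter (fun a : G => IsConj v a), ncom a 3
  rw [Finset.sum_congr rfl (g := fun _ => ncom u 3) (fun a ha => ncom_conj (Finset.mem_filter.1 ha).2 3),
    Finset.sum_congr (s₂ := Finset.univ.filter fun a : G => IsConj v a) rfl (g := fun _ => ncom v 3)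
      (fun a ha => ncom_conj (Finset.mem_filter.1 ha).2 3),
    Finset.sum_const, Finset.sum_const, smul_eq_mul, smul_eq_mul, Nat.card_eq_fintype_card,
    Nat.card_eq_fintype_card, Fintype.card_subtype, Fintype.card_subtype]
  exact Finset.disjoint_left.2 fun a ha hb =>
    hnuv ((Finset.mem_filter.1 ha).2.trans (Finset.mem_filter.1 hb).2.symm)

/-- The fixed points on the cores of elements of order three. -/
theorem three_counts {x u y v : G} (hx : orderOf x = 7) (hu : orderOf u = 2) (hux : u * x = x * u)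
    (hy : orderOf y = 5) (hv : orderOf v = 2) (hvy : v * y = y * v)
    (hCu : Nat.card ↥(centralizer ({u} : Set G)) = 21504) (hCv : Nat.card ↥(centralizer ({v} : Set G)) = 7680)
    (hall : ∀ a : G, orderOf a = 2 → IsConj u a ∨ IsConj v a)
    {W : Subgroup ↥(centralizer ({u} : Set G))} [W.Normal]
    (hWu : (Nat.card ↥W = 128 ∧ cnt (↥(centralizer ({u} : Set G)) ⧸ W) 3 = 56) ∨
      (Nat.card ↥W = 1024 ∧ cnt (↥(centralizer ({u} : Set G)) ⧸ W) 3 = 14))
    {V : Subgroup ↥(centralizer ({v} : Set G))} [V.Normal] (hV : Nat.card ↥V = 64)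
    (hWv : cnt (↥(centralizer ({v} : Set G)) ⧸ V) 3 = 20) :
    (∀ t : ↥(centralizer ({u} : Set G)), orderOf t = 3 →
        (Nat.card ↥W = 128 → Nat.card ↥(W ⊓ centralizer ({t} : Set ↥(centralizer ({u} : Set G)))) = 8) ∧
        (Nat.card ↥W = 1024 → Nat.card ↥(W ⊓ centralizer ({t} : Set ↥(centralizer ({u} : Set G)))) = 16)) ∧
      (∀ t : ↥(centralizer ({v} : Set G)), orderOf t = 3 →
        Nat.card ↥(V ⊓ centralizer ({t} : Set ↥(centralizer ({v} : Set G)))) = 4) ∧
      ncom u 3 = 896 ∧ ncom v 3 = 320 := by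
  have hnuv : ¬ IsConj u v := fun h => by
    obtain ⟨g, rfl⟩ := isConj_iff.1 h
    exact not_five_seven H hv ((MulEquiv.orderOf_eq (MulAut.conj g) x).trans hx) (conj_comm g hux) hy hvy
  have h6 := cnt_six_split H hu hv hnuv hall
  have eA := M12Nse.card_isConj_mul u
  have eB := M12Nse.card_isConj_mul v
  rw [hCu, H.card] at eA
  rw [hCv, H.card] at eB
  rw [show Nat.card {a : G // IsConj u a} = 11385 by omega, show Nat.card {a : G // IsConj v a} = 31878 by omega] at h6
  have key : ∀ (t : ↥(centralizer ({u} : Set G))) (t' : ↥(centralizer ({v} : Set G))),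
      orderOf t = 3 → orderOf t' = 3 →
      (Nat.card ↥W = 128 → Nat.card ↥(W ⊓ centralizer ({t} : Set ↥(centralizer ({u} : Set G)))) = 8) ∧
      (Nat.card ↥W = 1024 → Nat.card ↥(W ⊓ centralizer ({t} : Set ↥(centralizer ({u} : Set G)))) = 16) ∧
      Nat.card ↥(V ⊓ centralizer ({t'} : Set ↥(centralizer ({v} : Set G)))) = 4 ∧
      ncom u 3 = 896 ∧ ncom v 3 = 320 := by
    intro t t' ht ht'
    have e2 := three_fibre V (k := 6) (by rw [hV]; norm_num) (m := 2560) (by rw [hCv]) (by norm_num) ht'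
    rw [cnt_cent, hWv, hV] at e2
    obtain ⟨j, hj, ej⟩ := (Nat.dvd_prime_pow Nat.prime_two).1
      (show Nat.card ↥(V ⊓ centralizer ({t'} : Set ↥(centralizer ({v} : Set G)))) ∣ 2 ^ 6 by
        rw [show 2 ^ 6 = 64 from rfl, ← hV]; exact card_dvd_of_le inf_le_left)
    rw [ej] at e2 ⊢
    rcases hWu with ⟨hW, hT⟩ | ⟨hW, hT⟩
    · have e1 := three_fibre W (k := 7) (by rw [hW]; norm_num) (m := 7168) (by rw [hCu]) (by norm_num) ht
      rw [cnt_cent, hT, hW] at e1
      obtain ⟨i, hi, ei⟩ := (Nat.dvd_prime_pow Nat.prime_two).1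
        (show Nat.card ↥(W ⊓ centralizer ({t} : Set ↥(centralizer ({u} : Set G)))) ∣ 2 ^ 7 by
          rw [show 2 ^ 7 = 128 from rfl, ← hW]; exact card_dvd_of_le inf_le_left)
      rw [ei] at e1 ⊢
      interval_cases i <;> interval_cases j <;> omega
    · have e1 := three_fibre W (k := 10) (by rw [hW]; norm_num) (m := 7168) (by rw [hCu]) (by norm_num) ht
      rw [cnt_cent, hT, hW] at e1
      obtain ⟨i, hi, ei⟩ := (Nat.dvd_prime_pow Nat.prime_two).1
        (show Nat.card ↥(W ⊓ centralizer ({t} : Set ↥(centralizer ({u} : Set G)))) ∣ 2 ^ 10 by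
          rw [show 2 ^ 10 = 1024 from rfl, ← hW]; exact card_dvd_of_le inf_le_left)
      rw [ei] at e1 ⊢
      interval_cases i <;> interval_cases j <;> omega
  obtain ⟨t₀, ht₀⟩ := exists_prime_orderOf_dvd_card' (G := ↥(centralizer ({u} : Set G))) 3 (by rw [hCu]; norm_num)
  obtain ⟨t₁, ht₁⟩ := exists_prime_orderOf_dvd_card' (G := ↥(centralizer ({v} : Set G))) 3 (by rw [hCv]; norm_num)
  obtain ⟨-, -, -, h1, h2⟩ := key t₀ t₁ ht₀ ht₁
  exact ⟨fun t ht => ⟨(key t t₁ ht ht₁).1, (key t t₁ ht ht₁).2.1⟩, fun t ht => (key t₀ t ht₀ ht).2.2.1, h1, h2⟩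

end Cfsg.Lib.M24Nse
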