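import Cfsg.Agent.HeldCent.Bad

/-!
A simple group of the order of M24 has none of the five other extensions as an involution centraliser.
-/

set_option autoImplicit false
set_option linter.unusedSimpArgs false
set_option maxRecDepth 100000

namespace Cfsg.Lib.M24Nse

open Subgroup Cfsg.Lib.HeldCent

variable {G : Type*} [Group G] [Finite G] [IsSimpleGroup G] {T : BadD}

/-- No such extension is an involution centraliser at the order of M24. -/
theorem no_bad24 (t : G) (ht : orderOf t = 2) (hG : Nat.card G = 244823040) (hP : parOK T.par = true)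
    (D : Gen T.par (Subgroup.centralizer ({t} : Set G))) (hinj : Set.InjOn D.η {a | a < 21504})
    (hsur : ∀ g, ∃ a < 21504, D.η a = g) (hDt : ((D.B.g 6 : Subgroup.centralizer ({t} : Set G)) : G) = t)
    (hscan : ∀ x < 21504, T.sqScan x = true) (hcls : T.clsOK = true) (hinv : T.invOK = true)
    (hsub : T.sub = 127 ∨ T.sub ∈ [56, 7]) : False := by
  classical
  let C := Subgroup.centralizer ({t} : Set G)
  have hC : Nat.card C = 21504 := by
    have e : Function.Bijective (fun a : Fin 21504 => D.η a.val) :=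
      ⟨fun a b h => Fin.ext (hinj a.isLt b.isLt h), fun g => by obtain ⟨a, ha, e⟩ := hsur g; exact ⟨⟨a, ha⟩, e⟩⟩
    rw [← Nat.card_eq_of_bijective _ e, Nat.card_fin]
  have hK : Nat.card {x : G // IsConj t x} = 11385 := by
    have h := Cfsg.Lib.Chars.card_isConj_mul t
    rw [hC, hG] at h
    omega
  have t2 : t * t = 1 := by have := pow_orderOf_eq_one t; rwa [ht, pow_two] at this
  have t1 : t ≠ 1 := fun h => by rw [h, orderOf_one] at ht; norm_num at ht
  -- where the commuting conjugates are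
  have key : ∀ k : G, IsConj t k → Commute t k → k = t ∨
      ∃ q < 128, Nat.land q T.sub = 0 ∧ q ≠ 0 ∧ q ≠ 64 ∧ ((D.B.ι q : C) : G) = k := by
    intro k hk hck
    by_cases hkt : k = t
    · exact Or.inl hkt
    right
    obtain ⟨g, rfl⟩ := isConj_iff.mp hk
    have hb : g⁻¹ * t * g ∈ C := mem_centralizer_singleton_iff.mpr (by
      have h := hck.eq
      calc g⁻¹ * t * g * t = g⁻¹ * (t * (g * t * g⁻¹)) * g := by group
        _ = t * (g⁻¹ * t * g) := by rw [h]; group)
    let a : C := ⟨g * t * g⁻¹, mem_centralizer_singleton_iff.mpr hck.eq.symm⟩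
    let b : C := ⟨g⁻¹ * t * g, hb⟩
    have sq : ∀ x : G, (x * t * x⁻¹) * (x * t * x⁻¹) = 1 := fun x => by
      rw [show x * t * x⁻¹ * (x * t * x⁻¹) = x * (t * t) * x⁻¹ by group, t2]; group
    have ne1 : ∀ x : G, x * t * x⁻¹ ≠ 1 := fun x h => t1 (by simpa using h)
    have hb1 : (b : G) = g⁻¹ * t * g⁻¹⁻¹ := by simp [b]
    have e1 : rt (D.B.g 6) b = ra a := rt_eq_ra _ hDt a b rfl rfl
    have e2 : rt (D.B.g 6) a = ra b := rt_eq_ra (g := g⁻¹) _ hDt b a hb1 (by simp [a])
    have hbt : b ≠ D.B.g 6 := fun h => hkt (by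
      have h' : g⁻¹ * t * g = t := (congrArg Subtype.val h).trans hDt
      calc g * t * g⁻¹ = g * (g⁻¹ * t * g) * g⁻¹ := by rw [h']
        _ = t := by group)
    have hat : a ≠ D.B.g 6 := fun h => hkt ((congrArg Subtype.val h).trans hDt)
    obtain ⟨q, hq, hin, he⟩ := sound D hP hinj hsur hscan hcls hinv (a := a) (Subtype.ext (sq g))
      (fun h => ne1 g (congrArg Subtype.val h)) hat (b := b)
      (Subtype.ext (by show (b : G) * b = 1; rw [hb1]; exact sq g⁻¹))
      (fun h => ne1 g⁻¹ (hb1 ▸ congrArg Subtype.val h)) hbt e1 e2.symm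
    simp only [BadD.inE, Bool.and_eq_true] at hin
    refine ⟨q, hq, Nat.eq_of_beq_eq_true hin.2, fun h => ne1 g ?_, fun h => hat ?_, (congrArg Subtype.val he).symm⟩
    · show (a : G) = 1
      rw [he, h, D.B.ι_zero]; rfl
    · rw [he, h]
      exact D.B.ι_gen (i := 6) (by norm_num)
  have hiso : ∀ (_ : ∀ k : G, IsConj t k → Commute t k → k = t), False := fun h =>
    not_isolated ht (by rw [hC, hG]; norm_num) ⟨ht, fun g hg => h _ (isConj_iff.mpr ⟨g, rfl⟩) hg⟩
  rcases hsub with hsub | hsub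
  · exact hiso fun k hk hck => (key k hk hck).resolve_right fun ⟨q, hq, hz, h0, _, _⟩ =>
      h0 (sub127 ⟨q, hq⟩ (hsub ▸ hz))
  obtain ⟨hcover, l1, l2, -, hlen, habel, hr1, -, o64, o0, osq, o12⟩ := sub_facts T.sub hsub
  set o1 := (subReps T.sub).1
  set o2 := (subReps T.sub).2
  let f : ℕ → G := fun q => ((D.B.ι q : C) : G)
  have finj : ∀ {p q : ℕ}, p < 128 → q < 128 → f p = f q → p = q := fun hp hq h =>
    D.B.ι_inj D.t_ne hp hq (Subtype.ext h)
  have f64 : f 64 = t := by
    show ((D.B.ι (2 ^ 6) : C) : G) = t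
    rw [D.B.ι_gen (by norm_num), hDt]
  let b1 : Bool := decide (IsConj t (f o1))
  let b2 : Bool := decide (IsConj t (f o2))
  have orb : ∀ {o : ℕ}, o < 128 → ∀ k < 7, (IsConj t (f o) ↔ IsConj t (f (pk (sT k) o))) := by
    intro o ho k hk
    have h : IsConj (f o) (f (pk (sT k) o)) := isConj_iff.mpr ⟨((D.s ^ k : C) : G), by
      rw [mul_inv_eq_iff_eq_mul]
      exact congrArg Subtype.val (D.sι hk ho)⟩
    exact ⟨fun h' => h'.trans h, fun h' => h'.trans h.symm⟩
  let B : Set G := {k | IsConj t k ∧ Commute t k}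
  have fC : ∀ q, Commute t (f q) := fun q => (mem_centralizer_singleton_iff.mp (D.B.ι q : C).2).symm
  have hBeq : B = f '' {q | q < 128 ∧ subSel T.sub b1 b2 q = true} := by
    ext k
    constructor
    · rintro ⟨hk, hck⟩
      rcases key k hk hck with rfl | ⟨q, hq, hz, h0, h64, rfl⟩
      · exact ⟨64, ⟨by norm_num, by simp [subSel]⟩, f64⟩
      refine ⟨q, ⟨hq, ?_⟩, rfl⟩
      have := List.all_eq_true.mp hcover q (List.mem_range.mpr hq)
      rw [show Nat.beq (Nat.land q T.sub) 0 = true by rw [hz]; rfl] at this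
      simp only [Bool.not_true, Bool.false_or, Bool.or_eq_true, List.any_eq_true, List.mem_range] at this
      rcases this with (h | h) | ⟨j, hj, h | h⟩
      · exact absurd (Nat.eq_of_beq_eq_true h) h0
      · exact absurd (Nat.eq_of_beq_eq_true h) h64
      · have e : b1 = true := decide_eq_true ((orb l1 j hj).mpr (by rw [Nat.eq_of_beq_eq_true h]; exact hk))
        simp only [subSel, e, Bool.true_and, Bool.or_eq_true, List.any_eq_true, List.mem_range]
        exact Or.inl (Or.inr ⟨j, hj, h⟩)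
      · have e : b2 = true := decide_eq_true ((orb l2 j hj).mpr (by rw [Nat.eq_of_beq_eq_true h]; exact hk))
        simp only [subSel, e, Bool.true_and, Bool.or_eq_true, List.any_eq_true, List.mem_range]
        exact Or.inr ⟨j, hj, h⟩
    · rintro ⟨q, ⟨hq, hsel⟩, rfl⟩
      refine ⟨?_, fC q⟩
      simp only [subSel, Bool.or_eq_true, Bool.and_eq_true, List.any_eq_true, List.mem_range] at hsel
      rcases hsel with (h | ⟨hb, j, hj, h⟩) | ⟨hb, j, hj, h⟩
      · rw [Nat.eq_of_beq_eq_true h, f64]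
      · rw [← Nat.eq_of_beq_eq_true h]; exact (orb l1 j hj).mp (of_decide_eq_true hb)
      · rw [← Nat.eq_of_beq_eq_true h]; exact (orb l2 j hj).mp (of_decide_eq_true hb)
  have hBcard : Nat.card B = 1 + (bif b1 then 7 else 0) + (bif b2 then 7 else 0) := by
    rw [hBeq, Nat.card_image_of_injOn (fun p hp q hq h => finj hp.1 hq.1 h), ← hlen b1 b2]
    rw [← List.toFinset_card_of_nodup (List.nodup_range.filter _), ← Nat.card_eq_finsetCard]
    exact Nat.card_congr (Equiv.setCongr (by ext q; simp))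
  let K : Set G := {k | IsConj t k}
  have hKc : Nat.card K = 11385 := hK
  have hBK : B ⊆ K := fun k hk => hk.1
  have hcomp : Nat.card (K \ B : Set G) + Nat.card B = 11385 := by
    rw [← hKc, Nat.card_coe_set_eq, Nat.card_coe_set_eq, Nat.card_coe_set_eq]
    exact Set.ncard_sdiff_add_ncard_of_subset hBK (Set.toFinite K)
  have hinvK : ∀ v : G, Commute v t → ∀ x ∈ (K \ B : Set G), v * x * v⁻¹ ∈ (K \ B : Set G) := by
    intro v hv x hx
    refine ⟨hx.1.trans (isConj_iff.mpr ⟨v, rfl⟩), fun h => hx.2 ⟨hx.1, ?_⟩⟩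
    have h' := h.2
    have e : t = v * t * v⁻¹ := by rw [hv.eq, mul_inv_cancel_right]
    rw [e] at h'
    exact (Cfsg.Lib.Isolated.commute_conj_iff v).mp h'
  -- the central involution moves everything outside
  have heven : 2 ∣ Nat.card (K \ B : Set G) := by
    have h := dvd_of_free_conj (Subgroup.zpowers t) (K \ B)
      (fun v hv x hx => hinvK v (by obtain ⟨i, rfl⟩ := mem_zpowers_iff.mp hv; exact (Commute.refl t).zpow_left i) x hx)
      (fun v hv x hx hc => by
        rcases (Cfsg.Lib.LargeExtra.mem_zpowers_two t2).mp hv with rfl | rfl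
        · rfl
        · exact absurd ⟨hx.1, hc⟩ hx.2)
    rwa [Nat.card_zpowers, ht] at h
  have hb12 : b1 = b2 := by
    cases h1 : b1 <;> cases h2 : b2 <;> rw [h1, h2] at hBcard <;> first | rfl | (simp only [cond_true, cond_false] at hBcard; omega)
  cases hb : b1
  · refine hiso fun k hk hck => ?_
    have hkB : k ∈ B := ⟨hk, hck⟩
    rw [hBeq] at hkB
    obtain ⟨q, ⟨-, hsel⟩, rfl⟩ := hkB
    simp only [subSel, ← hb12, hb, Bool.false_and, Bool.or_false] at hsel
    rw [Nat.eq_of_beq_eq_true hsel, f64]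
  -- a four-group moves everything outside
  have hB15 : Nat.card B = 15 := by rw [hBcard, ← hb12, hb]; rfl
  have h1 : IsConj t (f o1) := of_decide_eq_true hb
  have h2 : IsConj t (f o2) := of_decide_eq_true (hb12 ▸ hb : b2 = true)
  have hBab : ∀ x ∈ B, ∀ y ∈ B, Commute x y := by
    intro x hx y hy
    have hin : ∀ z ∈ B, ∃ q < 128, Nat.land q T.sub = 0 ∧ f q = z := fun z hz => by
      rcases key z hz.1 hz.2 with rfl | ⟨q, hq, hq0, -, -, rfl⟩
      · refine ⟨64, by norm_num, ?_, f64⟩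
        rcases List.mem_pair.mp hsub with h | h <;> rw [h] <;> rfl
      · exact ⟨q, hq, hq0, rfl⟩
    obtain ⟨p, hp, zp, rfl⟩ := hin x hx
    obtain ⟨q, hq, zq, rfl⟩ := hin y hy
    have h := congrArg (fun c : C => (c : G)) (D.B.ι_mul hp hq)
    rw [habel ⟨p, hp⟩ ⟨q, hq⟩ zp zq, D.B.ι_mul hq hp] at h
    exact h.symm
  have hsame : ∀ e ∈ B, ∀ x : G, IsConj t x → Commute e x → x ∈ B := by
    intro e he x hx hc
    obtain ⟨g, rfl⟩ := isConj_iff.mp he.1
    let Be : Set G := {k | IsConj t k ∧ Commute (g * t * g⁻¹) k}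
    have himg : Be = (fun k => g * k * g⁻¹) '' B := by
      ext k
      constructor
      · rintro ⟨hk, hck⟩
        refine ⟨g⁻¹ * k * g, ⟨hk.trans (isConj_iff.mpr ⟨g⁻¹, by simp⟩), ?_⟩, by group⟩
        rw [← Cfsg.Lib.Isolated.commute_conj_iff g, show g * (g⁻¹ * k * g) * g⁻¹ = k by group]
        exact hck
      · rintro ⟨k, ⟨hk, hck⟩, rfl⟩
        exact ⟨hk.trans (isConj_iff.mpr ⟨g, rfl⟩), (Cfsg.Lib.Isolated.commute_conj_iff g).mpr hck⟩
    have hle : B ⊆ Be := fun k hk => ⟨hk.1, hBab _ he k hk⟩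
    have heq : B = Be := by
      refine Set.eq_of_subset_of_ncard_le hle ?_ (Set.toFinite _)
      rw [himg, Set.ncard_image_of_injective _ fun p q h => mul_left_cancel (mul_right_cancel h)]
    rw [heq]
    exact ⟨hx, hc⟩
  let a : G := f o1
  have a2 : a * a = 1 := by
    show ((D.B.ι o1 : C) : G) * (D.B.ι o1 : C) = 1
    rw [← Subgroup.coe_mul, ← D.B.ι_mul l1 l1, osq, D.B.ι_zero]; rfl
  have ta : t * a = a * t := (fC o1).eq
  have hta2 : t * a = f o2 := by
    show _ = ((D.B.ι o2 : C) : G)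
    rw [ta, ← o12, D.B.ι_mul l1 (by norm_num), Subgroup.coe_mul]
    exact congrArg (a * ·) f64.symm
  have na : a ≠ 1 := fun h => o0 (finj l1 (by norm_num) (by
    show a = ((D.B.ι 0 : C) : G); rw [D.B.ι_zero]; exact h))
  have nat_ : a ≠ t := fun h => o64 (finj l1 (by norm_num) (h.trans f64.symm))
  have tta : ∀ x : G, t * (t * x) = x := fun x => by rw [← mul_assoc, t2, one_mul]
  have aax : ∀ x : G, a * (a * x) = x := fun x => by rw [← mul_assoc, a2, one_mul]
  have tax : ∀ x : G, a * (t * x) = t * (a * x) := fun x => by rw [← mul_assoc, ← ta, mul_assoc]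
  let V : Subgroup G :=
    { carrier := {1, t, a, t * a}
      one_mem' := by simp
      mul_mem' := by
        rintro x y (rfl | rfl | rfl | rfl) (rfl | rfl | rfl | rfl) <;>
          simp [mul_assoc, t2, a2, tta, aax, tax, ← ta]
      inv_mem' := by
        rintro x (rfl | rfl | rfl | rfl) <;>
          simp [inv_eq_of_mul_eq_one_right t2, inv_eq_of_mul_eq_one_right a2, ← ta] }
  have hV : Nat.card V = 4 := by
    show Nat.card ({1, t, a, t * a} : Set G) = 4
    rw [Nat.card_coe_set_eq]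
    have n1 : t * a ≠ 1 := fun h => nat_ (by rw [← tta a, h, mul_one])
    have n2 : t * a ≠ t := fun h => na (mul_eq_left.mp h)
    have n3 : t * a ≠ a := fun h => t1 (mul_eq_right.mp h)
    rw [Set.ncard_insert_of_notMem, Set.ncard_insert_of_notMem, Set.ncard_pair]
    · exact Ne.symm n3
    · simp [Ne.symm nat_, Ne.symm n2]
    · simp [Ne.symm t1, Ne.symm na, Ne.symm n1]
  have hVB : ∀ v ∈ V, v = 1 ∨ v ∈ B := by
    rintro v (rfl | rfl | rfl | rfl)
    · exact Or.inl rfl
    · exact Or.inr ⟨IsConj.refl _, Commute.refl _⟩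
    · exact Or.inr ⟨h1, fC _⟩
    · exact Or.inr ⟨hta2 ▸ h2, hta2 ▸ fC _⟩
  have h4 := dvd_of_free_conj V (K \ B)
    (fun v hv x hx => hinvK v (by rcases hVB v hv with rfl | h; exact Commute.one_left t; exact h.2.symm) x hx)
    (fun v hv x hx hc => (hVB v hv).resolve_right fun h => hx.2 (hsame v h x hx.1 hc))
  rw [hV] at h4
  omega

end Cfsg.Lib.M24Nse
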