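import Cfsg.Agent.M24Nse.EndgameStab
import Cfsg.Agent.LargeExtra.Coprime

/-!
The normal subgroup of order 128 is extraspecial.
-/

set_option autoImplicit false
set_option linter.style.haveILetI false
set_option linter.unusedSectionVars false
set_option maxHeartbeats 1000000

namespace Cfsg.Lib.M24Nse

open Subgroup
open Cfsg.Lib.HeldCent (L3)

variable {G : Type*} [Group G] [Finite G]

namespace Ctx

variable {z : G} (K : Ctx z)

/-- The centre is the distinguished group of order two. -/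
theorem center_W {c : G} (hc : c ∈ K.W) (hcc : ∀ a ∈ K.W, Commute a c) : c = 1 ∨ c = z := by
  by_contra hne
  rw [not_or] at hne
  haveI : Fact (Nat.Prime 2) := ⟨Nat.prime_two⟩
  have hOm : ∀ w ∈ K.W, (∀ a ∈ K.W, Commute a w) → w * w = 1 → w = 1 ∨ w = z := fun w hw hwc hw2 => by
    by_contra hn
    rw [not_or] at hn
    have hss : ({1, z, w} : Set G) ⊆ (K.Om : Set G) := by
      rintro y (rfl | rfl | rfl)
      exacts [one_mem _, K.z_Om, ⟨hw, hwc, hw2⟩]
    have := Set.ncard_le_ncard hss (Set.toFinite _)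
    rw [Set.ncard_insert_of_notMem (by simp [K.z_ne.symm, Ne.symm hn.1]), Set.ncard_pair (Ne.symm hn.2)] at this
    exact absurd K.Om_small (not_le.mpr this)
  -- some power squares to the central involution
  have hex : ∀ n, ∀ d ∈ K.W, (∀ a ∈ K.W, Commute a d) → d ^ 2 ^ n = 1 → d = 1 ∨ d = z := by
    intro n
    induction n with
    | zero => intro d _ _ h; left; simpa using h
    | succ n ih =>
      intro d hd hdc h
      rcases ih (d * d) (mul_mem hd hd) (fun a ha => (hdc a ha).mul_right (hdc a ha))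
        (by rw [← pow_two, ← pow_mul, ← pow_succ']; exact h) with e | e
      · exact hOm d hd hdc e
      · exfalso
        set e' := K.x * d * K.x⁻¹ with he'
        have hxd : e' ∈ K.W := K.normW K.xC hd
        have hsq : e' * e' = z := by
          rw [he', show K.x * d * K.x⁻¹ * (K.x * d * K.x⁻¹) = K.x * (d * d) * K.x⁻¹ by group, e, K.xC.eq,
            mul_inv_cancel_right]
        have hcm : Commute e' d := hdc _ hxd
        have hq : e' * d⁻¹ * (e' * d⁻¹) = 1 := by
          rw [show e' * d⁻¹ * (e' * d⁻¹) = e' * (d⁻¹ * e') * d⁻¹ by group, hcm.inv_right.eq.symm,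
            show e' * (e' * d⁻¹) * d⁻¹ = e' * e' * (d * d)⁻¹ by group, hsq, e, mul_inv_cancel]
        have hcc' : ∀ a ∈ K.W, Commute a e' := fun a ha => by
          have h' := hdc _ (show K.x⁻¹ * a * K.x⁻¹⁻¹ ∈ K.W from K.normW K.xC.inv_left ha)
          rw [inv_inv] at h'
          have := (Cfsg.Lib.Isolated.commute_conj_iff K.x).mpr h'
          rwa [show K.x * (K.x⁻¹ * a * K.x) * K.x⁻¹ = a by group] at this
        rcases hOm (e' * d⁻¹) (mul_mem hxd (inv_mem hd)) (fun a ha => (hcc' a ha).mul_right (hdc a ha).inv_right) hq with e2 | e2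
        · rw [mul_inv_eq_one] at e2
          rcases K.hfix d hd (mul_inv_eq_iff_eq_mul.mp e2) with e3 | e3
          · rw [e3, mul_one] at e; exact K.z_ne e.symm
          · rw [e3, K.z_sq] at e; exact K.z_ne e.symm
        · have e3 : K.x * d * K.x⁻¹ = z * d := mul_inv_eq_iff_eq_mul.mp e2
          have hpow : ∀ k : ℕ, K.x ^ k * d * (K.x ^ k)⁻¹ = z ^ k * d := by
            intro k
            induction k with
            | zero => simp
            | succ k ihk =>
              rw [pow_succ', show K.x * K.x ^ k * d * (K.x * K.x ^ k)⁻¹ = K.x * (K.x ^ k * d * (K.x ^ k)⁻¹) * K.x⁻¹ by group,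
                ihk, show K.x * (z ^ k * d) * K.x⁻¹ = (K.x * z ^ k * K.x⁻¹) * (K.x * d * K.x⁻¹) by group, e3,
                (K.xC.pow_right k).eq, mul_inv_cancel_right, ← mul_assoc, ← pow_succ]
          have h7 := hpow 7
          rw [show K.x ^ 7 = 1 from K.hx ▸ pow_orderOf_eq_one K.x, inv_one, one_mul, mul_one,
            show z ^ 7 = z by
              rw [show z ^ 7 = (z * z) ^ 3 * z by rw [← pow_two, ← pow_mul, ← pow_succ], K.z_sq, one_pow, one_mul]] at h7
          exact K.z_ne (mul_eq_right.mp h7.symm)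
  rcases hex 7 c hc hcc (K.pow128 hc) with e | e
  exacts [hne.1 e, hne.2 e]

/-- Commutators in the distinguished group of order two. -/
def Zz : Subgroup G where
  carrier := {w | w ∈ K.W ∧ ∀ a ∈ K.W, w * a * w⁻¹ * a⁻¹ ∈ zpowers z}
  one_mem' := ⟨one_mem _, fun a _ => by simpa using one_mem (zpowers z)⟩
  mul_mem' := fun {p q} hp hq => ⟨mul_mem hp.1 hq.1, fun a ha => by
    obtain ⟨i, hi⟩ := mem_zpowers_iff.mp (hq.2 a ha)
    rw [show p * q * a * (p * q)⁻¹ * a⁻¹ = p * (q * a * q⁻¹ * a⁻¹) * p⁻¹ * (p * a * p⁻¹ * a⁻¹) by group, ← hi,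
      ((K.WC p hp.1).zpow_right i).eq, mul_inv_cancel_right]
    exact mul_mem (zpow_mem (mem_zpowers z) i) (hp.2 a ha)⟩
  inv_mem' := fun {p} hp => ⟨inv_mem hp.1, fun a ha => by
    obtain ⟨i, hi⟩ := mem_zpowers_iff.mp (hp.2 a ha)
    rw [show p⁻¹ * a * p⁻¹⁻¹ * a⁻¹ = p⁻¹ * (p * a * p⁻¹ * a⁻¹)⁻¹ * p⁻¹⁻¹ by group, ← hi, ← zpow_neg,
      ((K.WC p hp.1).inv_left.zpow_right (-i)).eq, mul_inv_cancel_right]
    exact zpow_mem (mem_zpowers z) _⟩

theorem Zz_norm {c w : G} (hc : Commute c z) (hw : w ∈ K.Zz) : c * w * c⁻¹ ∈ K.Zz := ⟨K.normW hc hw.1, fun a ha => by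
  obtain ⟨i, hi⟩ := mem_zpowers_iff.mp (hw.2 (c⁻¹ * a * c) (by have := K.normW hc.inv_left ha; rwa [inv_inv] at this))
  rw [show c * w * c⁻¹ * a * (c * w * c⁻¹)⁻¹ * a⁻¹ = c * (w * (c⁻¹ * a * c) * w⁻¹ * (c⁻¹ * a * c)⁻¹) * c⁻¹ by group, ← hi,
    (hc.zpow_right i).eq, mul_inv_cancel_right]
  exact zpow_mem (mem_zpowers z) i⟩

include K in
theorem zpow_cases {e : G} (he : e ∈ zpowers z) : e = 1 ∨ e = z :=
  (Cfsg.Lib.LargeExtra.mem_zpowers_two K.z_sq).mp he

theorem Zz_big : 2 < Nat.card K.Zz := by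
  haveI : Fact (Nat.Prime 2) := ⟨Nat.prime_two⟩
  let zW : K.W := ⟨z, K.zW⟩
  haveI hn : (zpowers zW).Normal := ⟨fun n hn g => by
    obtain ⟨i, rfl⟩ := mem_zpowers_iff.mp hn
    have hcg : Commute g zW := Subtype.ext (K.WC g g.2).eq
    rw [(hcg.zpow_right i).eq, mul_inv_cancel_right]
    exact zpow_mem (mem_zpowers zW) i⟩
  have hP : IsPGroup 2 (K.W ⧸ zpowers zW) := (IsPGroup.of_card (n := 7) (by rw [K.cardW]; norm_num)).to_quotient _
  haveI : Nontrivial (K.W ⧸ zpowers zW) := by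
    rw [← Finite.one_lt_card_iff_nontrivial]
    have := (zpowers zW).card_eq_card_quotient_mul_card_subgroup
    rw [K.cardW, Nat.card_zpowers, show orderOf zW = 2 from (orderOf_injective K.W.subtype K.W.subtype_injective zW).symm.trans K.hz] at this
    omega
  haveI := hP.center_nontrivial
  obtain ⟨⟨q, hq⟩, hq1⟩ := exists_ne (1 : Subgroup.center (K.W ⧸ zpowers zW))
  obtain ⟨w, rfl⟩ := QuotientGroup.mk_surjective q
  have hwZ : (w : G) ∈ K.Zz := ⟨w.2, fun a ha => by
    have h := mem_center_iff.mp hq (QuotientGroup.mk ⟨a, ha⟩)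
    rw [← QuotientGroup.mk_mul, ← QuotientGroup.mk_mul, QuotientGroup.eq] at h
    obtain ⟨i, hi⟩ := mem_zpowers_iff.mp h
    have hi' : z ^ i = (a * w)⁻¹ * (w * a) := by
      have := congrArg Subtype.val hi
      simpa [zW] using this
    rw [show (w : G) * a * (w : G)⁻¹ * a⁻¹ = (a * w) * ((a * w)⁻¹ * (w * a)) * (a * w)⁻¹ by group, ← hi',
      (((K.WC a ha).mul_left (K.WC w w.2)).zpow_right i).eq, mul_inv_cancel_right]
    exact zpow_mem (mem_zpowers z) i⟩
  have hss : ({1, z, (w : G)} : Set G) ⊆ (K.Zz : Set G) := by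
    rintro y (rfl | rfl | rfl)
    exacts [one_mem _, ⟨K.zW, fun a ha => by rw [(K.WC a ha).eq.symm]; simp⟩, hwZ]
  have hwne : (w : G) ∉ zpowers z := fun h => by
    apply hq1
    refine Subtype.ext ?_
    show (QuotientGroup.mk w : K.W ⧸ zpowers zW) = 1
    rw [QuotientGroup.eq_one_iff]
    obtain ⟨i, hi⟩ := mem_zpowers_iff.mp h
    exact mem_zpowers_iff.mpr ⟨i, Subtype.ext (by simpa [zW] using hi)⟩
  have := Set.ncard_le_ncard hss (Set.toFinite _)
  rw [Set.ncard_insert_of_notMem, Set.ncard_pair] at this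
  · exact this
  · exact fun e => hwne (e ▸ mem_zpowers z)
  · simp only [Set.mem_insert_iff, Set.mem_singleton_iff, not_or]
    exact ⟨K.z_ne.symm, fun e => hwne (e ▸ one_mem _)⟩

/-- An element acting by a sign on a subgroup of order 16, trivially on the fixed part, is central there. -/
theorem sign_trick {A : Subgroup G} (hA : A ≤ K.W) (hA16 : Nat.card A = 16) {t a : G} (ht : orderOf t = 3)
    (htA : ∀ b ∈ A, t * b * t⁻¹ ∈ A) (hta : Commute t a) (hsgn : ∀ b ∈ A, a * b * a⁻¹ * b⁻¹ ∈ zpowers z)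
    (hfix : ∀ b ∈ fixIn A t, Commute a b) : ∀ b ∈ A, Commute a b := by
  classical
  haveI : Fact (Nat.Prime 3) := ⟨Nat.prime_three⟩
  by_contra hno
  push Not at hno
  obtain ⟨b, hb, hbc⟩ := hno
  have hflip : ∀ c ∈ A, ¬ Commute a c → a * c * a⁻¹ = z * c := fun c hc hne => by
    rcases K.zpow_cases (hsgn c hc) with e | e
    · exact absurd (mul_inv_eq_iff_eq_mul.mp (mul_inv_eq_one.mp e)) hne
    · rw [← e, inv_mul_cancel_right]
  let S : Set G := {c | c ∈ A ∧ ¬ Commute a c}
  have hbij : Nat.card (fixIn A a) = Nat.card S := Nat.card_congr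
    { toFun := fun k => ⟨b * k, mul_mem hb k.2.1, fun h => hbc (by
        have := h.mul_right (mem_fixIn.mp k.2).2.inv_right
        rwa [mul_inv_cancel_right] at this)⟩
      invFun := fun s => ⟨b⁻¹ * s, mem_fixIn.mpr ⟨mul_mem (inv_mem hb) s.2.1, mul_inv_eq_iff_eq_mul.mp (by
        rw [show a * (b⁻¹ * (s : G)) * a⁻¹ = (a * b * a⁻¹)⁻¹ * (a * s * a⁻¹) by group, hflip b hb hbc, hflip s s.2.1 s.2.2]
        group)⟩⟩
      left_inv := fun k => Subtype.ext (inv_mul_cancel_left _ _)
      right_inv := fun s => Subtype.ext (mul_inv_cancel_left _ _) }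
  have hsum : Nat.card (fixIn A a) + Nat.card S = 16 := by
    rw [← hA16, show Nat.card A = Set.ncard (A : Set G) from Nat.card_coe_set_eq _,
      show Nat.card (fixIn A a) = Set.ncard (fixIn A a : Set G) from Nat.card_coe_set_eq _, Nat.card_coe_set_eq,
      ← Set.ncard_union_eq]
    · congr 1
      ext c
      constructor
      · rintro (h | h)
        exacts [h.1, h.1]
      · intro h
        by_cases hc : Commute a c
        exacts [Or.inl (mem_fixIn.mpr ⟨h, hc⟩), Or.inr ⟨h, hc⟩]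
    · exact Set.disjoint_left.mpr fun c h1 h2 => h2.2 (mem_fixIn.mp h1).2
  have hm := fixed_modEq (show t ^ 3 = 1 from ht ▸ pow_orderOf_eq_one t) S (fun c hc => ⟨htA c hc.1, fun h => hc.2 (by
    rw [← Cfsg.Lib.Isolated.commute_conj_iff t, hta.eq, mul_inv_cancel_right]
    exact h)⟩)
  rw [show Nat.card S = 8 by omega, show {m : G | m ∈ S ∧ Commute t m} = ∅ from Set.eq_empty_iff_forall_notMem.mpr
    fun c hc => hc.1.2 (hfix c (mem_fixIn.mpr ⟨hc.1.1, hc.2⟩))] at hm
  simp at hm

/-- Commutators are in the distinguished group of order two. -/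
theorem Zz_top : K.Zz = K.W := by
  classical
  haveI : Fact (Nat.Prime 3) := ⟨Nat.prime_three⟩
  haveI : Fact (Nat.Prime 7) := ⟨by norm_num⟩
  have hle : K.Zz ≤ K.W := fun _ h => h.1
  have hzA : z ∈ K.Zz := ⟨K.zW, fun a ha => by rw [(K.WC a ha).eq.symm]; simp⟩
  rcases K.card_inv hle hzA (fun m hm => K.Zz_norm K.xC hm) with h | h | h
  · have := K.Zz_big; omega
  swap
  · exact Subgroup.eq_of_le_of_card_ge hle (by rw [h, K.cardW])
  exfalso
  set A := K.Zz with hAdef
  obtain ⟨t, ht, hta, hto⟩ := K.lift_three (l := Cfsg.Lib.HeldCent.mR) Cfsg.Lib.HeldCent.mat_rels.2.1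
    Cfsg.Lib.HeldCent.mat_rels.2.2.2.2.2.2.2.1
  have ht3 : t ^ 3 = 1 := hto ▸ pow_orderOf_eq_one t
  have hm := fixIn_modEq ht3 A (fun m hm => K.Zz_norm ht hm)
  rw [h] at hm
  have hW8 := K.hthree t ht hto
  have hsub : fixIn A t ≤ fixIn K.W t := fun w hw => mem_fixIn.mpr ⟨hw.1.1, (mem_fixIn.mp hw).2⟩
  have hz2 : zpowers z ≤ fixIn A t := zpowers_le.mpr (mem_fixIn.mpr ⟨hzA, ht⟩)
  have h4 : Nat.card (fixIn A t) = 4 := by
    have h2 := Subgroup.card_le_of_le hz2
    rw [Nat.card_zpowers, K.hz] at h2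
    obtain ⟨k, hk, e⟩ : ∃ k ≤ 7, Nat.card (fixIn A t) = 2 ^ k :=
      pow_card_two ((Subgroup.card_dvd_of_le hsub).trans (hW8 ▸ by norm_num))
    have h8 := hW8 ▸ Subgroup.card_le_of_le hsub
    rw [e] at hm h2 h8 ⊢
    interval_cases k <;> omega
  obtain ⟨a, haW, haA⟩ : ∃ a ∈ fixIn K.W t, a ∉ A := by
    by_contra hh
    push Not at hh
    have := Subgroup.card_le_of_le (show fixIn K.W t ≤ fixIn A t from fun w hw => mem_fixIn.mpr ⟨hh w hw, (mem_fixIn.mp hw).2⟩)
    omega
  obtain ⟨al, hal, haln⟩ : ∃ al ∈ fixIn A t, al ∉ zpowers z := by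
    by_contra hh
    push Not at hh
    have := Subgroup.card_le_of_le (show fixIn A t ≤ zpowers z from hh)
    rw [Nat.card_zpowers, K.hz] at this
    omega
  have hat : Commute t a := (mem_fixIn.mp haW).2
  have halt : Commute t al := (mem_fixIn.mp hal).2
  have hgen : ∀ b ∈ fixIn A t, b = 1 ∨ b = z ∨ b = al ∨ b = z * al := by
    have hss : ({1, z, al, z * al} : Set G) ⊆ (fixIn A t : Set G) := by
      rintro y (rfl | rfl | rfl | rfl)
      exacts [one_mem _, hz2 (mem_zpowers _), hal, mul_mem (hz2 (mem_zpowers _)) hal]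
    have hc : ({1, z, al, z * al} : Set G).ncard = 4 := by
      have n1 : al ≠ 1 := fun e => haln (e ▸ one_mem _)
      have n2 : al ≠ z := fun e => haln (e ▸ mem_zpowers z)
      have n3 : z * al ≠ 1 := fun e => haln (by rw [← inv_eq_of_mul_eq_one_right e]; exact inv_mem (mem_zpowers z))
      rw [Set.ncard_insert_of_notMem, Set.ncard_insert_of_notMem, Set.ncard_pair]
      · exact fun e => K.z_ne (mul_eq_right.mp e.symm)
      · simp only [Set.mem_insert_iff, Set.mem_singleton_iff, not_or]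
        exact ⟨n2.symm, fun e => n1 (mul_eq_left.mp e.symm)⟩
      · simp only [Set.mem_insert_iff, Set.mem_singleton_iff, not_or]
        exact ⟨K.z_ne.symm, n1.symm, n3.symm⟩
    have heq := Set.eq_of_subset_of_ncard_le hss (by
      rw [hc, ← Nat.card_coe_set_eq]; exact h4.le) (Set.toFinite _)
    intro b hb
    have : b ∈ ({1, z, al, z * al} : Set G) := heq ▸ hb
    simpa using this
  have hca : ∀ {e : G}, e ∈ K.W → Commute e al → ∀ b ∈ fixIn A t, Commute e b := fun {e} he hc b hb => by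
    rcases hgen b hb with e' | e' | e' | e' <;> rw [e']
    exacts [Commute.one_right e, K.WC e he, hc, (K.WC e he).mul_right hc]
  -- the two generators do not commute
  have hnc : ¬ Commute a al := fun hc => by
    have h1 : ∀ b ∈ A, Commute a b := K.sign_trick hle h hto (fun b hb => K.Zz_norm ht hb) hat
      (fun b hb => by
        obtain ⟨i, hi⟩ := mem_zpowers_iff.mp (hb.2 a haW.1)
        rw [show a * b * a⁻¹ * b⁻¹ = (b * a * b⁻¹ * a⁻¹)⁻¹ by group, ← hi]
        exact inv_mem (zpow_mem (mem_zpowers z) i))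
      (hca haW.1 hc)
    have h2 : ∀ b ∈ A, Commute al b := K.sign_trick hle h hto (fun b hb => K.Zz_norm ht hb) halt
      (fun b hb => hal.1.2 b hb.1) (hca hal.1.1 (Commute.refl al))
    let T : Subgroup G := (K.W ⊓ centralizer (A : Set G)) ⊔ A
    have hT : T = K.W := by
      have hTle : T ≤ K.W := sup_le inf_le_left hle
      have hTn : ∀ m ∈ T, K.x * m * K.x⁻¹ ∈ T := by
        have hsub : T.map (MulAut.conj K.x).toMonoidHom ≤ T := by
          rw [Subgroup.map_sup]
          refine sup_le ?_ ?_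
          · rintro _ ⟨m, hm, rfl⟩
            refine Subgroup.mem_sup_left ⟨K.normW K.xC hm.1, mem_centralizer_iff.mpr fun b hb => ?_⟩
            have hb' := K.Zz_norm K.xC.inv_left hb
            rw [inv_inv] at hb'
            have := (Cfsg.Lib.Isolated.commute_conj_iff K.x).mpr (mem_centralizer_iff.mp hm.2 _ hb')
            rw [show K.x * (K.x⁻¹ * b * K.x) * K.x⁻¹ = b by group] at this
            exact this
          · rintro _ ⟨m, hm, rfl⟩
            exact Subgroup.mem_sup_right (K.Zz_norm K.xC hm)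
        exact fun m hm => hsub ⟨m, hm, rfl⟩
      have hbig : 16 < Nat.card T := by
        have hA16 : Nat.card A = 16 := h
        rcases Nat.lt_or_ge 16 (Nat.card T) with h' | h'
        · exact h'
        · exfalso
          have := Subgroup.eq_of_le_of_card_ge (le_sup_right : A ≤ T) (by rw [hA16]; exact h')
          exact haA (this ▸ Subgroup.mem_sup_left ⟨haW.1, mem_centralizer_iff.mpr fun b hb => (h1 b hb).eq.symm⟩)
      rcases K.card_inv hTle (Subgroup.mem_sup_right hzA) hTn with e | e | e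
      · omega
      · omega
      · exact Subgroup.eq_of_le_of_card_ge hTle (by rw [e, K.cardW])
    have hTc : T ≤ centralizer ({al} : Set G) := sup_le
      (fun w hw => mem_centralizer_singleton_iff.mpr ((mem_centralizer_iff.mp hw.2 al hal.1).symm))
      (fun w hw => mem_centralizer_singleton_iff.mpr (h2 w hw).eq.symm)
    rcases K.center_W hal.1.1 (fun w hw => mem_centralizer_singleton_iff.mp (hTc (hT.symm ▸ hw : w ∈ T))) with e | e
    · exact haln (e ▸ one_mem _)
    · exact haln (e ▸ mem_zpowers z)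
  -- squares
  have ha2 : a * a ∈ zpowers z := by
    have hidx : ((fixIn A t).subgroupOf (fixIn K.W t)).index = 2 := by
      have := ((fixIn A t).subgroupOf (fixIn K.W t)).card_mul_index
      rw [Nat.card_congr (Subgroup.subgroupOfEquivOfLe hsub).toEquiv, h4, hW8] at this
      omega
    have hmem : a * a ∈ fixIn A t := Subgroup.mul_self_mem_of_index_two hidx ⟨a, haW⟩
    rcases hgen _ hmem with e | e | e | e
    · rw [e]; exact one_mem _
    · rw [e]; exact mem_zpowers z
    · exact absurd ((Commute.refl a).mul_right (Commute.refl a)) (fun hc => hnc (e ▸ hc))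
    · exact absurd ((Commute.refl a).mul_right (Commute.refl a)) (fun hc => hnc (by
        rw [e] at hc
        have := (K.WC a haW.1).inv_right.mul_right hc
        rwa [inv_mul_cancel_left] at this))
  have sq_mul : ∀ {p q : G}, p ∈ K.W → q ∈ A → p * p ∈ zpowers z → q * q ∈ zpowers z → p * q * (p * q) ∈ zpowers z := by
    intro p q hp hq hp2 hq2
    obtain ⟨i, hi⟩ := mem_zpowers_iff.mp (hq.2 p hp)
    rw [show p * q * (p * q) = p * (q * p * q⁻¹ * p⁻¹) * p * (q * q) by group, ← hi,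
      (((K.WC p hp)).zpow_right i).eq, mul_assoc (z ^ i)]
    exact mul_mem (mul_mem (zpow_mem (mem_zpowers z) i) hp2) hq2
  have hA2 : ∀ b ∈ A, b * b ∈ zpowers z := by
    let Q : Subgroup G :=
      { carrier := {b | b ∈ A ∧ b * b ∈ zpowers z}
        one_mem' := ⟨one_mem _, by simpa using one_mem (zpowers z)⟩
        mul_mem' := fun {p q} hp hq => ⟨mul_mem hp.1 hq.1, sq_mul hp.1.1 hq.1 hp.2 hq.2⟩
        inv_mem' := fun {p} hp => ⟨inv_mem hp.1, by rw [← mul_inv_rev]; exact inv_mem hp.2⟩ }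
    have halQ : al ∈ Q := by
      refine ⟨hal.1, ?_⟩
      rcases hgen _ (mul_mem hal hal) with e | e | e | e
      · rw [e]; exact one_mem _
      · rw [e]; exact mem_zpowers z
      · exact absurd (mul_eq_left.mp e) (fun e' => haln (e' ▸ one_mem _))
      · exact absurd (mul_right_cancel e) (fun e' => haln (e' ▸ mem_zpowers z))
    have hQle : Q ≤ K.W := fun b hb => hb.1.1
    have hzQ : z ∈ Q := ⟨hzA, by rw [K.z_sq]; exact one_mem _⟩
    have hQn : ∀ m ∈ Q, K.x * m * K.x⁻¹ ∈ Q := fun m hm => ⟨K.Zz_norm K.xC hm.1, by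
      obtain ⟨i, hi⟩ := mem_zpowers_iff.mp hm.2
      rw [show K.x * m * K.x⁻¹ * (K.x * m * K.x⁻¹) = K.x * (m * m) * K.x⁻¹ by group, ← hi, (K.xC.zpow_right i).eq,
        mul_inv_cancel_right]
      exact zpow_mem (mem_zpowers z) i⟩
    have hQA : Q ≤ A := fun b hb => hb.1
    have h16 := h ▸ Subgroup.card_le_of_le hQA
    have hQ : Q = A := by
      rcases K.card_inv hQle hzQ hQn with e | e | e
      · exfalso
        have hzQ' : zpowers z = Q := Subgroup.eq_of_le_of_card_ge (zpowers_le.mpr hzQ) (by rw [e, Nat.card_zpowers, K.hz])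
        exact haln (hzQ'.symm ▸ halQ)
      · exact Subgroup.eq_of_le_of_card_ge hQA (by rw [e, h])
      · omega
    exact fun b hb => (hQ.symm ▸ hb : b ∈ Q).2
  -- the cosets outside are conjugates
  let B : Fin 7 → G := fun i => K.x ^ i.val * a * (K.x ^ i.val)⁻¹
  have hBW : ∀ i, B i ∈ K.W := fun i => K.normW (K.xC.pow_left _) haW.1
  have hB2 : ∀ i, B i * B i ∈ zpowers z := fun i => by
    obtain ⟨k, hk⟩ := mem_zpowers_iff.mp ha2
    show K.x ^ i.val * a * (K.x ^ i.val)⁻¹ * (K.x ^ i.val * a * (K.x ^ i.val)⁻¹) ∈ _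
    rw [show K.x ^ i.val * a * (K.x ^ i.val)⁻¹ * (K.x ^ i.val * a * (K.x ^ i.val)⁻¹) = K.x ^ i.val * (a * a) * (K.x ^ i.val)⁻¹ by group,
      ← hk, ((K.xC.pow_left _).zpow_right k).eq, mul_inv_cancel_right]
    exact zpow_mem (mem_zpowers z) k
  have hBA : ∀ i, B i ∉ A := fun i hi => haA (by
    have := K.Zz_norm (K.xC.pow_left i.val).inv_left hi
    rwa [inv_inv, show (K.x ^ i.val)⁻¹ * B i * K.x ^ i.val = a by simp only [B]; group] at this)
  have hcover : ∀ w ∈ K.W, w ∉ A → ∃ i, ∃ b ∈ A, w = B i * b := by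
    let F : Fin 7 × A → ((K.W : Set G) \ (A : Set G) : Set G) := fun p => ⟨B p.1 * p.2,
      mul_mem (hBW p.1) (hle p.2.2), fun hh => hBA p.1 (by
        have := mul_mem (show B p.1 * p.2 ∈ A from hh) (inv_mem p.2.2)
        rwa [mul_inv_cancel_right] at this)⟩
    have hF : Function.Injective F := by
      rintro ⟨i, b⟩ ⟨j, c⟩ e
      have e' : B i * b = B j * c := congrArg Subtype.val e
      rcases eq_or_ne i j with rfl | hij
      · exact Prod.ext rfl (Subtype.ext (mul_left_cancel e'))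
      exfalso
      -- a fixed coset
      have hcos : (B j)⁻¹ * B i ∈ A := by
        rw [show (B j)⁻¹ * B i = (c : G) * (b : G)⁻¹ from
          eq_mul_inv_of_mul_eq (by rw [mul_assoc, e', inv_mul_cancel_left])]
        exact mul_mem c.2 (inv_mem b.2)
      obtain ⟨n, hn⟩ : ∃ n : ℕ, (n + j.val) % 7 = i.val := ⟨i.val + 7 - j.val, by omega⟩
      have hy7 : (K.x ^ n) ^ 7 = 1 := by
        rw [← pow_mul, mul_comm, pow_mul, show K.x ^ 7 = 1 from K.hx ▸ pow_orderOf_eq_one K.x, one_pow]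
      have hyB : K.x ^ n * B j * (K.x ^ n)⁻¹ = B i := by
        have e7 : K.x ^ i.val = K.x ^ (n + j.val) := by
          rw [← hn]; exact (pow_eq_pow_mod (n + j.val) (K.hx ▸ pow_orderOf_eq_one K.x)).symm
        show K.x ^ n * (K.x ^ j.val * a * (K.x ^ j.val)⁻¹) * (K.x ^ n)⁻¹ = K.x ^ i.val * a * (K.x ^ i.val)⁻¹
        rw [e7, pow_add]; group
      let Co : Set G := {y | (B j)⁻¹ * y ∈ A}
      have hCo : Nat.card Co = 16 := by
        rw [← h]
        exact Nat.card_congr
          { toFun := fun y => ⟨(B j)⁻¹ * y.1, y.2⟩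
            invFun := fun o => ⟨B j * o.1, by show (B j)⁻¹ * (B j * o.1) ∈ A; rw [inv_mul_cancel_left]; exact o.2⟩
            left_inv := fun y => Subtype.ext (mul_inv_cancel_left _ _)
            right_inv := fun o => Subtype.ext (inv_mul_cancel_left _ _) }
      have hm' := fixed_modEq hy7 Co (fun y hy => by
        show (B j)⁻¹ * (K.x ^ n * y * (K.x ^ n)⁻¹) ∈ A
        rw [show (B j)⁻¹ * (K.x ^ n * y * (K.x ^ n)⁻¹) =
          (B j)⁻¹ * (K.x ^ n * B j * (K.x ^ n)⁻¹) * (K.x ^ n * ((B j)⁻¹ * y) * (K.x ^ n)⁻¹) by group, hyB]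
        exact mul_mem hcos (K.Zz_norm (K.xC.pow_left n) hy))
      rw [hCo] at hm'
      obtain ⟨⟨y, hy, hcy⟩⟩ : Nonempty {m : G | m ∈ Co ∧ Commute (K.x ^ n) m} :=
        (Nat.card_ne_zero.mp (fun e0 => by rw [e0] at hm'; norm_num at hm')).1
      have hn7 : ¬ 7 ∣ n := fun hd => hij (Fin.ext (by omega))
      have hyW : y ∈ K.W := by
        have := mul_mem (hBW j) (hle (show (B j)⁻¹ * y ∈ A from hy))
        rwa [mul_inv_cancel_left] at this
      have hyA : y ∈ A := by
        rcases K.fix_seven (K.xC.pow_left n) (by rw [K.p_pow K.xC, ← pow_mul, mul_comm, pow_mul, K.p_x7, one_pow])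
          (by
            rw [K.p_pow K.xC]
            intro e1
            have h7' : orderOf (K.p K.x) = 7 := orderOf_eq_prime K.p_x7 K.p_x
            exact hn7 (h7' ▸ orderOf_dvd_of_pow_eq_one e1)) hyW hcy with e1 | e1 <;> rw [e1]
        exacts [one_mem _, hzA]
      have := mul_mem hyA (inv_mem (show (B j)⁻¹ * y ∈ A from hy))
      rw [mul_inv_rev, inv_inv, mul_inv_cancel_left] at this
      exact hBA j this
    have hb : Function.Bijective F := (Nat.bijective_iff_injective_and_card F).mpr ⟨hF, by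
      rw [Nat.card_prod, Nat.card_fin, h, Nat.card_coe_set_eq, Set.ncard_sdiff (show (A : Set G) ⊆ (K.W : Set G) from hle)]
      rw [← Nat.card_coe_set_eq, ← Nat.card_coe_set_eq, show Nat.card (K.W : Set G) = 128 from K.cardW,
        show Nat.card (A : Set G) = 16 from h]⟩
    intro w hw hwA
    obtain ⟨⟨i, b⟩, e⟩ := hb.2 ⟨w, hw, hwA⟩
    exact ⟨i, b, b.2, (congrArg Subtype.val e).symm⟩
  have hall : ∀ w ∈ K.W, w * w ∈ zpowers z := fun w hw => by
    by_cases hwA : w ∈ A
    · exact hA2 w hwA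
    · obtain ⟨i, b, hb, rfl⟩ := hcover w hw hwA
      exact sq_mul (hBW i) hb (hB2 i) (hA2 b hb)
  refine haA ⟨haW.1, fun b hb => ?_⟩
  obtain ⟨i, hi⟩ := mem_zpowers_iff.mp (hall _ (mul_mem haW.1 hb))
  obtain ⟨k, hk⟩ := mem_zpowers_iff.mp (hall _ (inv_mem haW.1))
  rw [show a * b * a⁻¹ * b⁻¹ = a * b * (a * b) * (b⁻¹ * (a⁻¹ * a⁻¹) * b) * (b⁻¹ * b⁻¹) by group, ← hk,
    ((K.WC b hb).inv_left.zpow_right k).eq, inv_mul_cancel_right]
  exact mul_mem (mul_mem (hi ▸ zpow_mem (mem_zpowers z) i) (zpow_mem (mem_zpowers z) k)) (hall _ (inv_mem hb))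

/-- The elementwise facts. -/
theorem extra : (∀ a ∈ K.W, ∀ b ∈ K.W, a * b * a⁻¹ * b⁻¹ = 1 ∨ a * b * a⁻¹ * b⁻¹ = z) ∧
    (∀ a ∈ K.W, a * a = 1 ∨ a * a = z) ∧ (∃ a ∈ K.W, ∃ b ∈ K.W, ¬ Commute a b) := by
  have hZ : ∀ {w : G}, w ∈ K.W → w ∈ K.Zz := fun {w} hw => by rw [K.Zz_top]; exact hw
  refine ⟨fun a ha b hb => K.zpow_cases ((hZ ha).2 b hb), fun a ha => ?_, ?_⟩
  · refine K.center_W (mul_mem ha ha) fun b hb => ?_
    obtain ⟨i, hi⟩ := mem_zpowers_iff.mp ((hZ hb).2 a ha)
    refine mul_inv_eq_iff_eq_mul.mp ?_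
    have e : b * a * b⁻¹ = z ^ i * a := by rw [hi, inv_mul_cancel_right]
    rw [show b * (a * a) * b⁻¹ = (b * a * b⁻¹) * (b * a * b⁻¹) by group, e,
      show z ^ i * a * (z ^ i * a) = z ^ i * (a * z ^ i) * a by group, ((K.WC a ha).zpow_right i).eq]
    have hz2 : z ^ i * z ^ i = 1 := by
      rcases K.zpow_cases (zpow_mem (mem_zpowers z) i) with e' | e' <;> rw [e']
      exacts [one_mul _, K.z_sq]
    rw [show z ^ i * (z ^ i * a) * a = z ^ i * z ^ i * (a * a) by group, hz2, one_mul]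
  · by_contra hno
    push Not at hno
    have hss : (K.W : Set G) ⊆ {1, z} := fun c hc => K.center_W hc fun b hb => hno b hb c hc
    have := Set.ncard_le_ncard hss (Set.toFinite _)
    rw [← Nat.card_coe_set_eq, show Nat.card (K.W : Set G) = 128 from K.cardW,
      Set.ncard_pair K.z_ne.symm] at this
    omega

end Ctx

end Cfsg.Lib.M24Nse
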