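import Cfsg.Agent.M24Nse.Defs
import Cfsg.Agent.M24Nse.EndgameExtra
import Cfsg.Agent.M24Nse.EndgameBad
import Cfsg.Agent.HeldCent.Main
import Cfsg.Agent.LocalThree.DihedralEightGeneral
import Cfsg.Agent.S0495
import Cfsg.Agent.HePres.Order

/-!
M24 from the element counts, once the centraliser of a central involution is known up to its chief factors.
-/

set_option autoImplicit false
set_option linter.style.haveILetI false
set_option maxRecDepth 100000

namespace Cfsg.Lib.M24Nse

open Subgroup
open Cfsg.Lib.HeldCent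

local instance factSeven : Fact (Nat.Prime 7) := ⟨by norm_num⟩

/-- A simple group of order 168 is SL(3,2). -/
theorem iso_L3 {X : Type*} [Group X] [Finite X] [IsSimpleGroup X] (h : Nat.card X = 168) : Nonempty (X ≃* L3) := by
  obtain ⟨e⟩ := Cfsg.Agent.S0495.result h (F := ZMod 7) (ZMod.card 7)
  exact Cfsg.Lib.DihedralEight.sl3_iso (ZMod.card 7) e

theorem endgame {G : Type*} [Group G] [Finite G] [IsSimpleGroup G] (H : Counts G) (z : G) (hz : orderOf z = 2)
    (hC : Nat.card (centralizer ({z} : Set G)) = 21504)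
    (W : Subgroup (centralizer ({z} : Set G))) [W.Normal] (hW : Nat.card W = 128)
    (hX : IsSimpleGroup ((centralizer ({z} : Set G)) ⧸ W))
    (x : centralizer ({z} : Set G)) (hx : orderOf x = 7)
    (hfix : ∀ w ∈ W, w * x = x * w → w = 1 ∨ (w : G) = z)
    (hthree : ∀ t : centralizer ({z} : Set G), orderOf t = 3 →
      Nat.card (W ⊓ centralizer ({t} : Set (centralizer ({z} : Set G))) : Subgroup _) = 8)
    (hfive : ∀ f : G, orderOf f = 5 → Nat.card (centralizer ({f} : Set G)) = 60)
    (hinv : ∀ v : G, orderOf v = 2 → IsConj z v ∨ Nat.card (centralizer ({v} : Set G)) = 7680) :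
    Nonempty (G ≃* ↥Cfsg.M24) := by
  classical
  have hG := H.card
  have hq : Nat.card ((centralizer ({z} : Set G)) ⧸ W) = 168 := by
    have := W.card_eq_card_quotient_mul_card_subgroup
    rw [hC, hW] at this
    omega
  haveI := hX
  obtain ⟨e⟩ := iso_L3 hq
  let π : centralizer ({z} : Set G) →* L3 := e.toMonoidHom.comp (QuotientGroup.mk' W)
  have hπ : ∀ c, π c = 1 ↔ c ∈ W := fun c => by
    show e (QuotientGroup.mk' W c) = 1 ↔ _
    rw [map_eq_one_iff e e.injective]
    exact QuotientGroup.eq_one_iff c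
  have hπs : Function.Surjective π := e.surjective.comp (QuotientGroup.mk'_surjective W)
  let p : G → L3 := fun g => if h : Commute g z then π ⟨g, mem_centralizer_singleton_iff.mpr h.eq⟩ else 1
  have hp : ∀ c : centralizer ({z} : Set G), p c = π c := fun c => dif_pos (mem_centralizer_singleton_iff.mp c.2)
  let zC : centralizer ({z} : Set G) := ⟨z, mem_centralizer_singleton_iff.mpr rfl⟩
  have hcz : ∀ g, Commute g zC := fun g => Subtype.ext (mem_centralizer_singleton_iff.mp g.2)
  have hzW : zC ∈ W := by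
    haveI : IsSimpleGroup L3 := MulEquiv.isSimpleGroup e.symm
    rw [← hπ]
    by_contra hne
    have hmem : π zC ∈ Subgroup.center L3 := mem_center_iff.mpr fun l => by
      obtain ⟨c, rfl⟩ := hπs l
      rw [← map_mul, ← map_mul, (hcz c).eq]
    exact hne (Subgroup.mem_bot.mp (Cfsg.Lib.DihedralEight.center_sl3 ▸ hmem))
  let K : Ctx z :=
    { hz := hz
      cardC := hC
      W := W.map (centralizer ({z} : Set G)).subtype
      p := p
      WC := fun w hw => by obtain ⟨c, -, rfl⟩ := hw; exact mem_centralizer_singleton_iff.mp c.2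
      zW := ⟨zC, hzW, rfl⟩
      cardW := by rw [Subgroup.card_map_of_injective (Subgroup.subtype_injective _), hW]
      p_mul := fun a b ha hb => by
        have h := map_mul π ⟨a, mem_centralizer_singleton_iff.mpr ha.eq⟩ ⟨b, mem_centralizer_singleton_iff.mpr hb.eq⟩
        rwa [← hp, ← hp, ← hp] at h
      p_ker := fun a ha => by
        rw [show p a = π ⟨a, mem_centralizer_singleton_iff.mpr ha.eq⟩ from hp ⟨a, mem_centralizer_singleton_iff.mpr ha.eq⟩, hπ]
        constructor
        · exact fun h => ⟨_, h, rfl⟩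
        · rintro ⟨c, hc, rfl⟩; exact hc
      p_surj := fun l => by
        obtain ⟨c, rfl⟩ := hπs l
        exact ⟨c, mem_centralizer_singleton_iff.mp c.2, hp c⟩
      x := x
      xC := mem_centralizer_singleton_iff.mp x.2
      hx := hx ▸ orderOf_injective (centralizer ({z} : Set G)).subtype (Subgroup.subtype_injective _) x
      hfix := fun w hw h => by
        obtain ⟨c, hc, rfl⟩ := hw
        exact (hfix c hc (Subtype.ext h.symm.eq)).imp_left fun e => by rw [e]; rfl
      hthree := fun t ht ho => by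
        let tC : centralizer ({z} : Set G) := ⟨t, mem_centralizer_singleton_iff.mpr ht.eq⟩
        rw [← hthree tC (ho ▸ (orderOf_injective (centralizer ({z} : Set G)).subtype (Subgroup.subtype_injective _) tC).symm)]
        refine (Nat.card_congr
          { toFun := fun w => ⟨(⟨w.1.1, w.1.2⟩ : centralizer ({z} : Set G)).1, ⟨w.1, w.2.1, rfl⟩,
              mem_centralizer_singleton_iff.mpr (congrArg Subtype.val (mem_centralizer_singleton_iff.mp w.2.2))⟩
            invFun := fun w => ⟨⟨w.1, by obtain ⟨c, -, e⟩ := w.2.1; exact e ▸ c.2⟩, by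
              obtain ⟨c, hc, e⟩ := w.2.1
              refine ⟨?_, mem_centralizer_singleton_iff.mpr (Subtype.ext (mem_centralizer_singleton_iff.mp w.2.2))⟩
              rwa [show (⟨w.1, _⟩ : centralizer ({z} : Set G)) = c from Subtype.ext e.symm]⟩
            left_inv := fun _ => rfl
            right_inv := fun _ => rfl }).symm
      hfive := hfive
      cardG := hG
      simple := MulEquiv.isSimpleGroup e.symm
      hinv := hinv }
  have memK : ∀ {c : centralizer ({z} : Set G)}, c ∈ W → (c : G) ∈ K.W := fun {c} h => ⟨c, h, rfl⟩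
  obtain ⟨hcomm, hsq, a0, ha0, b0, hb0, hab0⟩ := K.extra
  obtain ⟨a0', ha0', rfl⟩ := ha0
  obtain ⟨b0', hb0', rfl⟩ := hb0
  have hQ : Cfsg.IsExtraspecial 2 W := Cfsg.Lib.LargeExtra.isExtraspecial_of (z := zC)
    (IsPGroup.of_card (n := 7) (by rw [hW]; norm_num)) hzW
    (fun h => K.z_ne (congrArg Subtype.val h)) (Subtype.ext K.z_sq) (fun a _ => hcz a)
    (fun a ha b hb => (hcomm a (memK ha) b (memK hb)).imp (fun h => Subtype.ext h) fun h => Subtype.ext h)
    (fun a ha => (hsq a (memK ha)).imp (fun h => Subtype.ext h) fun h => Subtype.ext h)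
    (fun c hc h => (K.center_W (memK hc) fun b hb => by
      obtain ⟨b', hb', rfl⟩ := hb
      exact congrArg Subtype.val (h b' hb').eq).imp (fun h => Subtype.ext h) fun h => Subtype.ext h)
    ⟨a0', ha0', b0', hb0', fun h => hab0 (congrArg Subtype.val h.eq)⟩
  have hself : Subgroup.centralizer (W : Set (centralizer ({z} : Set G))) ≤ W := fun c hc => by
    obtain ⟨c', hc', e'⟩ := K.cent_le le_rfl (by rw [K.cardW]; norm_num) (fun g hg m hm => K.normW hg hm)
      (mem_centralizer_singleton_iff.mp c.2) (fun m hm => by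
        obtain ⟨m', hm', rfl⟩ := hm
        exact congrArg Subtype.val (mem_centralizer_iff.mp hc m' hm').symm)
    exact (show c' = c from Subtype.ext e') ▸ hc'
  obtain ⟨P, hP, D, hDt, -, hDsur, hinj, hsur⟩ := exists_gen W zC (fun g => (hcz g).eq.symm)
    (fun h => K.z_ne (congrArg Subtype.val h)) hQ hW hself e
  have hDt' : ((D.B.g 6 : centralizer ({z} : Set G)) : G) = z := congrArg Subtype.val hDt
  have hPok := parOK_all P hP
  simp only [parL, List.mem_cons, List.not_mem_nil, or_false] at hP
  rcases hP with rfl | rfl | rfl | rfl | rfl | rfl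
  · obtain ⟨M, -⟩ := exists_model
    obtain ⟨φ, -⟩ := exists_iso D hPok hinj hsur hC W hDsur hself (D' := M)
      (Cfsg.Agent.S0445.result Cfsg.Lib.HeldType.sEl Cfsg.Lib.HeldType.mat_z)
    have hfus : ∃ g : G, g * z * g⁻¹ * z = z * (g * z * g⁻¹) ∧ g * z * g⁻¹ ≠ z := by
      by_contra h
      push Not at h
      refine not_isolated hz (by rw [hC, hG]; norm_num) ⟨hz, fun g hg => h g hg.eq.symm⟩
    rcases Cfsg.Lib.HeldType.listed_of_fused z hz φ hfus with ⟨-, h⟩ | ⟨⟨f⟩⟩ | h | h
    · exact absurd ‹IsSimpleGroup G› h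
    · rw [Nat.card_congr f.toEquiv, Cfsg.Lib.HeldType.card_SL5] at hG
      norm_num at hG
    · exact h
    · obtain ⟨f⟩ := h
      rw [Nat.card_congr f.toEquiv, Cfsg.Lib.HePres.card_he] at hG
      norm_num at hG
  · exact (no_bad24 (T := bad1) z hz hG hPok D hinj hsur hDt' bad1_ok.1 bad1_ok.2 bad1_inv (Or.inl rfl)).elim
  · exact (no_bad24 (T := bad2) z hz hG hPok D hinj hsur hDt' bad2_ok.1 bad2_ok.2 bad2_inv (Or.inr (by decide))).elim
  · exact (no_bad24 (T := bad3) z hz hG hPok D hinj hsur hDt' bad3_ok.1 bad3_ok.2 bad3_inv (Or.inl rfl)).elim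
  · exact (no_bad24 (T := bad4) z hz hG hPok D hinj hsur hDt' bad4_ok.1 bad4_ok.2 bad4_inv (Or.inr (by decide))).elim
  · exact (no_bad24 (T := bad5) z hz hG hPok D hinj hsur hDt' bad5_ok.1 bad5_ok.2 bad5_inv (Or.inl rfl)).elim

end Cfsg.Lib.M24Nse
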