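import Cfsg.Agent.M24Nse.EndgameLthree
import Cfsg.Agent.LargeFischer.Orbits
import Cfsg.Agent.InvolCalc.ZStarApps

/-!
An involution whose centraliser has a normal subgroup of order 128 with quotient SL(3,2): elementary consequences.
-/

set_option autoImplicit false
set_option linter.style.haveILetI false
set_option linter.unusedSectionVars false

namespace Cfsg.Lib.M24Nse

open Subgroup
open scoped Pointwise
open Cfsg.Lib.HeldCent (L3)

theorem pow_card_two {M : Type*} [Group M] [Finite M] (h : Nat.card M ∣ 128) : ∃ k ≤ 7, Nat.card M = 2 ^ k :=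
  (Nat.dvd_prime_pow Nat.prime_two).mp (by norm_num; exact h)

variable {G : Type*} [Group G] [Finite G]

/-- The elements fixed by an element of prime order are congruent to all. -/
theorem fixed_modEq {a : G} {q : ℕ} [Fact q.Prime] (ha : a ^ q = 1) (M : Set G) (hM : ∀ m ∈ M, a * m * a⁻¹ ∈ M) :
    Nat.card M % q = Nat.card {m : G | m ∈ M ∧ Commute a m} % q := by
  have hb : Function.Bijective (fun m : M => (⟨a * m.1 * a⁻¹, hM m.1 m.2⟩ : M)) :=
    Finite.injective_iff_bijective.mp fun m n h => Subtype.ext (mul_left_cancel (mul_right_cancel (congrArg Subtype.val h)))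
  let σ : Equiv.Perm M := Equiv.ofBijective _ hb
  have hpow : ∀ (n : ℕ) (m : M), (((σ ^ n) m : M) : G) = a ^ n * m * (a ^ n)⁻¹ := by
    intro n
    induction n with
    | zero => intro m; simp
    | succ n ih =>
      intro m
      rw [pow_succ', Equiv.Perm.mul_apply]
      show a * ((σ ^ n) m : M).1 * a⁻¹ = _
      rw [ih, pow_succ']; group
  have hq : σ ^ q = 1 := Equiv.ext fun m => Subtype.ext (by rw [hpow, ha]; simp)
  rw [Cfsg.Lib.LargeFischer.card_modEq_fixed σ hq]
  refine congrArg (· % q) (Nat.card_congr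
    { toFun := fun m => ⟨m.1.1, m.1.2, mul_inv_eq_iff_eq_mul.mp (congrArg Subtype.val m.2)⟩
      invFun := fun m => ⟨⟨m.1, m.2.1⟩, Subtype.ext (mul_inv_eq_iff_eq_mul.mpr m.2.2)⟩
      left_inv := fun _ => rfl
      right_inv := fun _ => rfl })

/-- The fixed points of an element inside a subgroup. -/
def fixIn (M : Subgroup G) (a : G) : Subgroup G := M ⊓ centralizer ({a} : Set G)

theorem mem_fixIn {M : Subgroup G} {a m : G} : m ∈ fixIn M a ↔ m ∈ M ∧ Commute a m :=
  ⟨fun h => ⟨h.1, (mem_centralizer_singleton_iff.mp h.2).symm⟩, fun h => ⟨h.1, mem_centralizer_singleton_iff.mpr h.2.eq.symm⟩⟩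

theorem fixIn_modEq {a : G} {q : ℕ} [Fact q.Prime] (ha : a ^ q = 1) (M : Subgroup G) (hM : ∀ m ∈ M, a * m * a⁻¹ ∈ M) :
    Nat.card M % q = Nat.card (fixIn M a) % q := by
  refine (fixed_modEq ha (M : Set G) hM).trans (congrArg (· % q) ?_)
  exact Nat.card_congr (Equiv.subtypeEquivRight fun m => mem_fixIn.symm)

/-- The data of the involution centraliser. -/
structure Ctx (z : G) where
  hz : orderOf z = 2
  cardC : Nat.card (centralizer ({z} : Set G)) = 21504
  W : Subgroup G
  p : G → L3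
  WC : ∀ w ∈ W, Commute w z
  zW : z ∈ W
  cardW : Nat.card W = 128
  p_mul : ∀ a b, Commute a z → Commute b z → p (a * b) = p a * p b
  p_ker : ∀ a, Commute a z → (p a = 1 ↔ a ∈ W)
  p_surj : ∀ l, ∃ a, Commute a z ∧ p a = l
  x : G
  xC : Commute x z
  hx : orderOf x = 7
  hfix : ∀ w ∈ W, Commute x w → w = 1 ∨ w = z
  hthree : ∀ t, Commute t z → orderOf t = 3 → Nat.card (fixIn W t) = 8
  hfive : ∀ f : G, orderOf f = 5 → Nat.card (centralizer ({f} : Set G)) = 60
  cardG : Nat.card G = 244823040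
  simple : IsSimpleGroup L3
  hinv : ∀ v : G, orderOf v = 2 → IsConj z v ∨ Nat.card (centralizer ({v} : Set G)) = 7680

namespace Ctx

variable {z : G} (K : Ctx z)

theorem cpow {a : G} (ha : Commute a z) (n : ℕ) : Commute (a ^ n) z := ha.pow_left n

theorem p_one : K.p 1 = 1 := (K.p_ker 1 (Commute.one_left z)).mpr (one_mem _)

theorem p_pow {a : G} (ha : Commute a z) : ∀ n, K.p (a ^ n) = K.p a ^ n
  | 0 => by rw [pow_zero, pow_zero, K.p_one]
  | n + 1 => by rw [pow_succ, pow_succ, K.p_mul _ _ (ha.pow_left n) ha, p_pow ha n]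

theorem p_inv {a : G} (ha : Commute a z) : K.p a⁻¹ = (K.p a)⁻¹ :=
  eq_inv_of_mul_eq_one_left (by rw [← K.p_mul _ _ ha.inv_left ha, inv_mul_cancel, K.p_one])

theorem p_conj {a b : G} (ha : Commute a z) (hb : Commute b z) : K.p (a * b * a⁻¹) = K.p a * K.p b * (K.p a)⁻¹ := by
  rw [K.p_mul _ _ (ha.mul_left hb) ha.inv_left, K.p_mul _ _ ha hb, K.p_inv ha]

theorem p_W {w : G} (h : w ∈ K.W) : K.p w = 1 := (K.p_ker w (K.WC w h)).mpr h

theorem normW {a w : G} (ha : Commute a z) (hw : w ∈ K.W) : a * w * a⁻¹ ∈ K.W := by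
  refine (K.p_ker _ ((ha.mul_left (K.WC w hw)).mul_left ha.inv_left)).mp ?_
  rw [K.p_conj ha (K.WC w hw), K.p_W hw, mul_one, mul_inv_cancel]

theorem pow128 {w : G} (h : w ∈ K.W) : w ^ 128 = 1 := by
  rw [← orderOf_dvd_iff_pow_eq_one, ← K.cardW]
  exact orderOf_dvd_natCard _ h

include K in
theorem z_ne : z ≠ 1 := fun h => by have := K.hz; rw [h, orderOf_one] at this; norm_num at this

include K in
theorem z_sq : z * z = 1 := by have := pow_orderOf_eq_one z; rwa [K.hz, pow_two] at this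

theorem lift_three {l : L3} (h3 : l ^ 3 = 1) (h1 : l ≠ 1) : ∃ t, Commute t z ∧ K.p t = l ∧ orderOf t = 3 := by
  obtain ⟨c, hc, hcl⟩ := K.p_surj (l ^ 2)
  have hw : c ^ 3 ∈ K.W := (K.p_ker _ (hc.pow_left 3)).mp (by rw [K.p_pow hc, hcl, ← pow_mul, pow_mul', h3, one_pow])
  have hp : K.p (c ^ 128) = l := by
    rw [K.p_pow hc, hcl, ← pow_mul, show 2 * 128 = 3 * 85 + 1 by norm_num, pow_succ, pow_mul, h3, one_pow, one_mul]
  refine ⟨c ^ 128, hc.pow_left _, hp, ?_⟩
  haveI : Fact (Nat.Prime 3) := ⟨Nat.prime_three⟩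
  refine orderOf_eq_prime ?_ fun e => h1 ?_
  · rw [← pow_mul, mul_comm, pow_mul, K.pow128 hw]
  · rw [← hp, e, K.p_one]

theorem p_ne_of_order {a : G} (ha : Commute a z) (hn : ¬ orderOf a ∣ 128) : K.p a ≠ 1 := fun h =>
  hn (orderOf_dvd_of_pow_eq_one (K.pow128 ((K.p_ker a ha).mp h)))

theorem p_x : K.p K.x ≠ 1 := K.p_ne_of_order K.xC (by rw [K.hx]; norm_num)

theorem p_x7 : K.p K.x ^ 7 = 1 := by
  rw [← K.p_pow K.xC, show K.x ^ 7 = 1 from K.hx ▸ pow_orderOf_eq_one K.x, K.p_one]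

theorem p_three {t : G} (ht : Commute t z) (h : orderOf t = 3) : K.p t ^ 3 = 1 ∧ K.p t ≠ 1 :=
  ⟨by rw [← K.p_pow ht, show t ^ 3 = 1 from h ▸ pow_orderOf_eq_one t, K.p_one],
    K.p_ne_of_order ht (by rw [h]; norm_num)⟩

/-- A coset of order 7 fixes only the centre. -/
theorem fix_seven {c w : G} (hc : Commute c z) (h7 : K.p c ^ 7 = 1) (h1 : K.p c ≠ 1) (hw : w ∈ K.W)
    (hcw : Commute c w) : w = 1 ∨ w = z := by
  haveI : Fact (Nat.Prime 7) := ⟨by norm_num⟩
  have hcW : c ^ 7 ∈ K.W := (K.p_ker _ (hc.pow_left 7)).mp (by rw [K.p_pow hc, h7])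
  have hd : orderOf (c ^ 128) = 7 := by
    refine orderOf_eq_prime (by rw [← pow_mul, mul_comm, pow_mul, K.pow128 hcW]) fun e => h1 ?_
    have h2 : K.p c ^ 2 = 1 := by
      have := congrArg K.p e
      rwa [K.p_one, K.p_pow hc, pow_eq_pow_mod 128 h7] at this
    calc K.p c = (K.p c ^ 2) ^ 4 := by rw [← pow_mul, pow_eq_pow_mod _ h7, pow_one]
      _ = 1 := by rw [h2, one_pow]
  let C := centralizer ({z} : Set G)
  let d : C := ⟨c ^ 128, mem_centralizer_singleton_iff.mpr (hc.pow_left _).eq⟩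
  let xx : C := ⟨K.x, mem_centralizer_singleton_iff.mpr K.xC.eq⟩
  have hfac : (Nat.card C).factorization 7 = 1 := by
    rw [K.cardC, show (21504 : ℕ) = 7 * 3072 by norm_num, Nat.factorization_mul (by norm_num) (by norm_num),
      Finsupp.add_apply, Nat.Prime.factorization_self (by norm_num),
      Nat.factorization_eq_zero_of_not_dvd (by norm_num)]
  have hsyl : ∀ y : C, orderOf (y : G) = 7 → Nat.card (Subgroup.zpowers y) = 7 ^ (Nat.card C).factorization 7 := fun y hy => by
    rw [hfac, pow_one, Nat.card_zpowers, ← hy]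
    exact (orderOf_injective C.subtype C.subtype_injective y).symm
  obtain ⟨g, hg⟩ := MulAction.exists_smul_eq C (Sylow.ofCard _ (hsyl xx K.hx)) (Sylow.ofCard _ (hsyl d hd))
  have hmem : g * xx * g⁻¹ ∈ Subgroup.zpowers d := by
    have h := congrArg (fun S : Sylow 7 C => (S : Subgroup C)) hg
    have : MulAut.conj g • xx ∈ MulAut.conj g • Subgroup.zpowers xx :=
      Subgroup.smul_mem_pointwise_smul _ _ _ (Subgroup.mem_zpowers xx)
    rw [show MulAut.conj g • Subgroup.zpowers xx = Subgroup.zpowers d from h] at this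
    exact this
  obtain ⟨i, hi⟩ := Subgroup.mem_zpowers_iff.mp hmem
  have hgG : Commute (g : G) z := mem_centralizer_singleton_iff.mp g.2
  have hcomm : Commute ((g : G) * K.x * (g : G)⁻¹) w := by
    have e : (c ^ 128) ^ i = (g : G) * K.x * (g : G)⁻¹ := by
      have := congrArg (fun y : C => (y : G)) hi
      simpa using this
    rw [← e]
    exact (hcw.pow_left _).zpow_left i
  have hw' : (g : G)⁻¹ * w * (g : G) ∈ K.W := by
    have := K.normW hgG.inv_left hw
    rwa [inv_inv] at this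
  rcases K.hfix _ hw' (by
    refine (Cfsg.Lib.Isolated.commute_conj_iff (g : G)).mp ?_
    rw [show (g : G) * ((g : G)⁻¹ * w * g) * (g : G)⁻¹ = w by group]
    exact hcomm) with e | e
  · left
    calc w = (g : G) * ((g : G)⁻¹ * w * g) * (g : G)⁻¹ := by group
      _ = 1 := by rw [e]; group
  · right
    calc w = (g : G) * ((g : G)⁻¹ * w * g) * (g : G)⁻¹ := by group
      _ = z := by rw [e, hgG.eq, mul_inv_cancel_right]

end Ctx

end Cfsg.Lib.M24Nse
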