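import Cfsg.Agent.M24Nse.EndgameOmega

/-!
No conjugate of the involution is a second central involution of the normal subgroup of order 128.
-/

set_option autoImplicit false
set_option linter.style.haveILetI false
set_option linter.unusedSectionVars false
set_option maxHeartbeats 1000000

namespace Cfsg.Lib.M24Nse

open Subgroup
open Cfsg.Lib.HeldCent (L3)

variable {G : Type*} [Group G] [Finite G]

theorem card_L3 : Nat.card L3 = 168 := by rw [Nat.card_eq_fintype_card]; decide +kernel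

theorem card_two_group {L : Subgroup L3} {a : L3} (a3 : a ^ 3 = 1) (a1 : a ≠ 1) (h2 : Nat.card L ∣ 512)
    (ha : ∀ l ∈ L, a * l * a⁻¹ ∈ L) : Nat.card L ≤ 4 := by
  haveI : Fact (Nat.Prime 3) := ⟨Nat.prime_three⟩
  have h168 := card_L3 ▸ Subgroup.card_subgroup_dvd_card L
  have h8 : Nat.card L ∣ 8 := by
    have := Nat.dvd_gcd h2 h168
    norm_num at this
    exact this
  have hm := fixIn_modEq a3 L ha
  have hbot : fixIn L a = ⊥ := (Subgroup.eq_bot_iff_forall _).mpr fun l hl => by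
    refine no_comm a3 a1 ?_ (mem_fixIn.mp hl).2.eq
    have h : l ^ Nat.card L = 1 := by
      have h := pow_card_eq_one' (x := (⟨l, hl.1⟩ : L))
      exact congrArg Subtype.val h
    have ho : orderOf l ∣ 8 := (orderOf_dvd_of_pow_eq_one h).trans h8
    by_contra h4
    -- an element of order eight does not exist
    have : ∀ y : L3, y ^ 8 = 1 → y ^ 4 = 1 := by decide +kernel
    exact h4 (this l (orderOf_dvd_iff_pow_eq_one.mp ho))
  rw [hbot, Subgroup.card_bot] at hm
  have := Nat.le_of_dvd (by norm_num) h8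
  interval_cases (Nat.card L) <;> omega

namespace Ctx

variable {z : G} (K : Ctx z)

/-- The data at a conjugate involution. -/
def conjTo (φ : G ≃* G) (u : G) (hu : φ u = z) (hc : IsConj u z) : Ctx u where
  hz := by rw [← φ.orderOf_eq u, hu, K.hz]
  cardC := by
    rw [← K.cardC, ← hu]
    exact Nat.card_congr (φ.toEquiv.subtypeEquiv fun a => by
      show a ∈ centralizer ({u} : Set G) ↔ φ a ∈ centralizer ({φ u} : Set G)
      simp only [mem_centralizer_singleton_iff, ← map_mul, φ.injective.eq_iff])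
  W := K.W.comap φ.toMonoidHom
  p a := K.p (φ a)
  WC w hw := φ.injective (by rw [map_mul, map_mul, hu]; exact K.WC _ hw)
  zW := show φ u ∈ K.W from hu.symm ▸ K.zW
  cardW := by
    rw [← K.cardW]
    exact Nat.card_congr (φ.toEquiv.subtypeEquiv fun a => Iff.rfl)
  p_mul a b ha hb := by
    rw [map_mul]
    exact K.p_mul _ _ (hu ▸ ha.map φ) (hu ▸ hb.map φ)
  p_ker a ha := K.p_ker (φ a) (hu ▸ ha.map φ)
  p_surj l := by
    obtain ⟨a, ha, rfl⟩ := K.p_surj l
    refine ⟨φ.symm a, φ.injective ?_, by rw [φ.apply_symm_apply]⟩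
    rw [map_mul, map_mul, hu, φ.apply_symm_apply]
    exact ha
  x := φ.symm K.x
  xC := φ.injective (by rw [map_mul, map_mul, hu, φ.apply_symm_apply]; exact K.xC)
  hx := by rw [φ.symm.orderOf_eq, K.hx]
  hfix w hw h := by
    rcases K.hfix (φ w) hw (by simpa using h.map φ) with e | e
    · exact Or.inl (φ.injective (e.trans (map_one φ).symm))
    · exact Or.inr (φ.injective (e.trans hu.symm))
  hthree t ht ho := by
    rw [← K.hthree (φ t) (hu ▸ ht.map φ) (by rw [φ.orderOf_eq, ho])]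
    exact Nat.card_congr (φ.toEquiv.subtypeEquiv fun a => by
      show a ∈ fixIn (K.W.comap φ.toMonoidHom) t ↔ φ a ∈ fixIn K.W (φ t)
      rw [mem_fixIn, mem_fixIn, Subgroup.mem_comap]
      exact and_congr Iff.rfl ⟨fun h => h.map φ, fun h => φ.injective (by rw [map_mul, map_mul]; exact h)⟩)
  hfive := K.hfive
  cardG := K.cardG
  simple := K.simple
  hinv v hv := (K.hinv v hv).imp_left fun h => hc.trans h

/-- The fixed points of an inverting pair. -/
theorem inverting {A : Subgroup G} (hA : A ≤ K.W) {i i' : G} (t : G) (hi : ∀ w ∈ A, Commute i w)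
    (hi' : ∀ w ∈ A, Commute i' w) (hw : ∃ e ∈ K.W, t = i * i' * e) (hab : ∀ e ∈ K.W, ∀ w ∈ K.W, Commute e w) :
    A ≤ fixIn K.W t := fun w hwA => by
  obtain ⟨e, he, rfl⟩ := hw
  exact mem_fixIn.mpr ⟨hA hwA, ((hi w hwA).mul_left (hi' w hwA)).mul_left (hab e he w (hA hwA))⟩

/-- The fixed points of the preimage of the four-group, when the kernel is elementary abelian. -/
theorem four_bound (habel : ∀ e ∈ K.W, ∀ w ∈ K.W, Commute e w) {j : G} (hj : j ∈ K.W) (j1 : j ≠ 1) (jz : j ≠ z)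
    {a v : L3} (h : Tetra a v) (hjf : ∀ c, Commute c z → K.p c ∈ four h ∨ K.p c = a → Commute c j)
    (F : Subgroup G) (hF : ∀ w, w ∈ F ↔ w ∈ K.W ∧ ∀ c, Commute c z → K.p c ∈ four h → Commute c w) :
    Nat.card F ≤ 16 := by
  classical
  haveI : Fact (Nat.Prime 3) := ⟨Nat.prime_three⟩
  haveI : Finite G := inferInstance
  -- fixed points depend only on the coset
  have cos : ∀ {c d w : G}, Commute c z → Commute d z → K.p c = K.p d → w ∈ K.W → Commute c w → Commute d w := by
    intro c d w hc hd e hw hcw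
    have hcd : c⁻¹ * d ∈ K.W := (K.p_ker _ (hc.inv_left.mul_left hd)).mp
      (by rw [K.p_mul _ _ hc.inv_left hd, K.p_inv hc, e, inv_mul_cancel])
    have := hcw.mul_left (habel _ hcd w hw)
    rwa [mul_inv_cancel_left] at this
  obtain ⟨t, ht, hta, ho⟩ := K.lift_three h.a3 h.a1
  obtain ⟨k, hk, y, hy, x, hx, h7, h1⟩ := h.seven
  obtain ⟨g, hg, hgk⟩ := K.p_surj k
  obtain ⟨cv, hcv, hcvv⟩ := K.p_surj v
  let i := g * cv * g⁻¹
  have hiz : Commute i z := (hg.mul_left hcv).mul_left hg.inv_left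
  have hpi : K.p i = k * v * k⁻¹ := by rw [K.p_conj hg hcv, hgk, hcvv]
  let i' := t * i * t⁻¹
  have hiz' : Commute i' z := (ht.mul_left hiz).mul_left ht.inv_left
  let A := fixIn K.W i
  let B := fixIn K.W i'
  have hAB : A ⊓ B ≤ fixIn K.W t := by
    refine K.inverting (inf_le_left.trans inf_le_left) t (fun w hw => (mem_fixIn.mp hw.1).2)
      (fun w hw => (mem_fixIn.mp hw.2).2) ⟨(i * i')⁻¹ * t, ?_, by group⟩ habel
    refine (K.p_ker _ ((hiz.mul_left hiz').inv_left.mul_left ht)).mp ?_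
    rw [K.p_mul _ _ (hiz.mul_left hiz').inv_left ht, K.p_inv (hiz.mul_left hiz'), K.p_mul _ _ hiz hiz',
      K.p_conj ht hiz, hta, hpi]
    set I := k * v * k⁻¹ with hI
    have hI2 : I * I = 1 := by
      rw [hI, show k * v * k⁻¹ * (k * v * k⁻¹) = k * (v * v) * k⁻¹ by group, h.v2, mul_one, mul_inv_cancel]
    have e : I * (a * I * a⁻¹) = a := by
      rw [show I * (a * I * a⁻¹) = (I * a * I) * a⁻¹ by group, hk, ← pow_two, inv_pow,
        inv_eq_iff_mul_eq_one, ← pow_succ]
      exact h.a3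
    rw [e, inv_mul_cancel]
  have hBA : Nat.card B = Nat.card A := (Nat.card_congr ((MulAut.conj t).toEquiv.subtypeEquiv fun w => by
    show w ∈ fixIn K.W i ↔ t * w * t⁻¹ ∈ fixIn K.W i'
    rw [mem_fixIn, mem_fixIn]
    refine and_congr ⟨K.normW ht, fun hh => ?_⟩ (Cfsg.Lib.Isolated.commute_conj_iff t).symm
    have := K.normW ht.inv_left hh
    rwa [inv_inv, show t⁻¹ * (t * w * t⁻¹) * t = w by group] at this)).symm
  have hcard : Nat.card A * Nat.card B ≤ Nat.card K.W * Nat.card (A ⊓ B : Subgroup G) :=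
    card_mul_le inf_le_left inf_le_left
  have hI8 : Nat.card (A ⊓ B : Subgroup G) ≤ 8 := K.hthree t ht ho ▸ Subgroup.card_le_of_le hAB
  rw [hBA, K.cardW] at hcard
  have hA32 : Nat.card A ≤ 32 := by
    obtain ⟨n, hn, e⟩ : ∃ k ≤ 7, Nat.card A = 2 ^ k :=
      pow_card_two (K.cardW ▸ Subgroup.card_dvd_of_le inf_le_left)
    have h2 : Nat.card A * Nat.card A ≤ 1024 := hcard.trans (by omega)
    rw [e] at h2 ⊢
    interval_cases n <;> omega
  -- the preimage of the four-group fixes no more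
  let φ := MulAut.conj g
  have hFA : F.map φ.toMonoidHom ≤ A := by
    rintro _ ⟨w, hw, rfl⟩
    exact mem_fixIn.mpr ⟨K.normW hg ((hF w).mp hw).1,
      (Cfsg.Lib.Isolated.commute_conj_iff g).mpr (((hF w).mp hw).2 cv hcv (hcvv ▸ (mem_four h).mpr (Or.inr (Or.inl rfl))))⟩
  have hmapc : Nat.card (F.map φ.toMonoidHom) = Nat.card F := Subgroup.card_map_of_injective φ.injective
  have hFle : Nat.card F ≤ 32 := hmapc ▸ (Subgroup.card_le_of_le hFA).trans hA32
  obtain ⟨n, hn, en⟩ := pow_card_two (K.cardW ▸ Subgroup.card_dvd_of_le (fun w hw => ((hF w).mp hw).1 : F ≤ K.W))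
  by_contra hbig
  have h32 : Nat.card F = 32 := by
    rw [en] at hFle hbig ⊢
    interval_cases n <;> omega
  have hFeq : F.map φ.toMonoidHom = A := Subgroup.eq_of_le_of_card_ge hFA (by rw [hmapc, h32]; exact hA32)
  -- all fixed points of the element of order 3 are inside
  have hFt : ∀ w ∈ F, t * w * t⁻¹ ∈ F := fun w hw => by
    obtain ⟨hwW, hwc⟩ := (hF w).mp hw
    refine (hF _).mpr ⟨K.normW ht hwW, fun c hc hcp => ?_⟩
    have hc' : Commute (t⁻¹ * c * t) z := (ht.inv_left.mul_left hc).mul_left ht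
    have hp : K.p (t⁻¹ * c * t) ∈ four h := by
      rw [K.p_mul _ _ (ht.inv_left.mul_left hc) ht, K.p_mul _ _ ht.inv_left hc, K.p_inv ht, hta]
      rcases (mem_four h).mp hcp with e | e | e | e <;> rw [e]
      · rw [mul_one, inv_mul_cancel]; exact one_mem _
      · refine (mem_four h).mpr (Or.inr (Or.inr (Or.inr ?_)))
        calc a⁻¹ * v * a = a⁻¹ * (a * (v * (a * v * a⁻¹)) * a⁻¹) * a := by rw [h.w3]
          _ = _ := by group
      · exact (mem_four h).mpr (Or.inr (Or.inl (by group)))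
      · refine (mem_four h).mpr (Or.inr (Or.inr (Or.inl ?_)))
        rw [h.rel]; group
    have := (Cfsg.Lib.Isolated.commute_conj_iff t).mpr (hwc _ hc' hp)
    rwa [show t * (t⁻¹ * c * t) * t⁻¹ = c by group] at this
  have hP := fixIn_modEq (show t ^ 3 = 1 from ho ▸ pow_orderOf_eq_one t) F hFt
  rw [h32] at hP
  have hjt : j ∈ fixIn F t := mem_fixIn.mpr ⟨(hF j).mpr ⟨hj, fun c hc hcp => hjf c hc (Or.inl hcp)⟩, hjf t ht (Or.inr hta)⟩
  have hsub : fixIn F t ≤ fixIn K.W t := fun w hw => mem_fixIn.mpr ⟨((hF w).mp hw.1).1, (mem_fixIn.mp hw).2⟩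
  have hzt : z ∈ fixIn F t := mem_fixIn.mpr ⟨(hF z).mpr ⟨K.zW, fun c hc _ => hc⟩, ht⟩
  have h3 : 3 ≤ Nat.card (fixIn F t) := by
    have hss : ({1, z, j} : Set G) ⊆ (fixIn F t : Set G) := by
      rintro w (rfl | rfl | rfl)
      exacts [one_mem _, hzt, hjt]
    have := Set.ncard_le_ncard hss (Set.toFinite _)
    rw [Set.ncard_insert_of_notMem (by simp [K.z_ne.symm, Ne.symm j1]), Set.ncard_pair (Ne.symm jz)] at this
    exact this
  obtain ⟨q, hq, eq⟩ : ∃ k ≤ 7, Nat.card (fixIn F t) = 2 ^ k :=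
    pow_card_two (K.cardW ▸ Subgroup.card_dvd_of_le (hsub.trans inf_le_left))
  have hle8 := K.hthree t ht ho ▸ Subgroup.card_le_of_le hsub
  have h8 : Nat.card (fixIn F t) = 8 := by
    rw [eq] at hP h3 hle8 ⊢
    interval_cases q <;> omega
  have hPF : fixIn K.W t ≤ F :=
    (Subgroup.eq_of_le_of_card_ge hsub (by rw [K.hthree t ht ho, h8])).ge.trans inf_le_left
  -- the second four-group fixes them too
  have hAeq : A ⊓ B = fixIn K.W t := Subgroup.eq_of_le_of_card_ge hAB (by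
    rw [K.hthree t ht ho]
    have hA : Nat.card A = 32 := le_antisymm hA32 (by rw [← h32, ← hmapc]; exact Subgroup.card_le_of_le hFA)
    rw [hA] at hcard
    omega)
  have hjW : j ∈ fixIn K.W t := hsub hjt
  obtain ⟨wj, hwj, ewj⟩ : j ∈ F.map φ.toMonoidHom := hFeq.symm ▸ (hAeq.symm ▸ hjW : j ∈ A ⊓ B).1
  obtain ⟨cx, hcx, hcxx⟩ := K.p_surj x
  obtain ⟨cy, hcy, hcyy⟩ := K.p_surj y
  have hxf : x ∈ four h := by
    simp only [List.mem_cons, List.not_mem_nil, or_false] at hx
    exact (mem_four h).mpr (Or.inr hx)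
  have hyj : Commute cy j := by
    have hy' : k⁻¹ * y * k ∈ four h := by
      simp only [List.mem_cons, List.not_mem_nil, or_false] at hy
      refine (mem_four h).mpr (Or.inr ?_)
      rcases hy with e | e | e <;> rw [e]
      · exact Or.inl (by group)
      · exact Or.inr (Or.inl (by group))
      · exact Or.inr (Or.inr (by group))
    have hc' : Commute (g⁻¹ * cy * g) z := (hg.inv_left.mul_left hcy).mul_left hg
    have := ((hF wj).mp hwj).2 (g⁻¹ * cy * g) hc' (by
      rw [K.p_mul _ _ (hg.inv_left.mul_left hcy) hg, K.p_mul _ _ hg.inv_left hcy, K.p_inv hg, hgk, hcyy]; exact hy')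
    have := (Cfsg.Lib.Isolated.commute_conj_iff g).mpr this
    rwa [show g * (g⁻¹ * cy * g) * g⁻¹ = cy by group, show g * wj * g⁻¹ = j from ewj] at this
  have hc : Commute (cx * cy * t) z := (hcx.mul_left hcy).mul_left ht
  have hpc : K.p (cx * cy * t) = x * y * a := by
    rw [K.p_mul _ _ (hcx.mul_left hcy) ht, K.p_mul _ _ hcx hcy, hcxx, hcyy, hta]
  rcases K.fix_seven hc (hpc ▸ h7) (hpc ▸ h1) hj
    (((hjf cx hcx (Or.inl (hcxx ▸ hxf))).mul_left hyj).mul_left (hjf t ht (Or.inr hta))) with e | e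
  · exact j1 e
  · exact jz e

/-- No conjugate is a further central involution with a tetrahedral stabiliser. -/
theorem no_fused (hbig : 2 < Nat.card K.Om) (g : G) (hu : g * z * g⁻¹ ∈ K.Om) (hne : g * z * g⁻¹ ≠ z)
    {a v : L3} (ha : a ∈ K.Img (g * z * g⁻¹)) (hv : v ∈ K.Img (g * z * g⁻¹)) (h : Tetra a v) : False := by
  classical
  haveI : Fact (Nat.Prime 3) := ⟨Nat.prime_three⟩
  set u := g * z * g⁻¹ with hudef
  have u1 : u ≠ 1 := fun e => K.z_ne (conj_eq_one_iff.mp e)
  let K' := K.conjTo (MulAut.conj g⁻¹) u (by simp [u, mul_assoc]) (isConj_iff.mpr ⟨g⁻¹, by simp [u, mul_assoc]⟩)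
  have memW' : ∀ {y : G}, y ∈ K'.W ↔ g⁻¹ * y * g⁻¹⁻¹ ∈ K.W := Iff.rfl
  have hfour : four h ≤ K.Img u := fun l hl => by
    rcases (mem_four h).mp hl with e | e | e | e <;> rw [e]
    exacts [one_mem _, hv, mul_mem (mul_mem ha hv) (inv_mem ha), mul_mem hv (mul_mem (mul_mem ha hv) (inv_mem ha))]
  let R := K.pre (four h)
  have hR : Nat.card R = 512 := by rw [K.card_pre, card_four h]
  have hRu : ∀ y ∈ R, Commute y u := fun y hy => K.comm_of_Img hu hy.1 (hfour hy.2)
  obtain ⟨t, ht, hta, ho⟩ := K.lift_three h.a3 h.a1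
  have htu : Commute t u := K.comm_of_Img hu ht (hta ▸ ha)
  have htR : ∀ y ∈ R, t * y * t⁻¹ ∈ R := fun y hy => ⟨(ht.mul_left hy.1).mul_left ht.inv_left, by
    rw [K.p_conj ht hy.1, hta]
    rcases (mem_four h).mp hy.2 with e | e | e | e <;> rw [e]
    · rw [mul_one, mul_inv_cancel]; exact one_mem _
    · exact (mem_four h).mpr (Or.inr (Or.inr (Or.inl rfl)))
    · exact (mem_four h).mpr (Or.inr (Or.inr (Or.inr h.w2)))
    · exact (mem_four h).mpr (Or.inr (Or.inl h.w3))⟩
  have hW'R : K'.W ≤ R := by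
    have h1 := K'.card_img R hRu
    rw [hR] at h1
    have hq := card_two_group (K'.p_three htu ho).1 (K'.p_three htu ho).2 (Dvd.intro _ h1) (fun l hl => by
      obtain ⟨y, hy, rfl⟩ := K'.mem_img.mp hl
      exact K'.mem_img.mpr ⟨_, htR y hy, K'.p_conj htu (hRu y hy)⟩)
    have h2 := Subgroup.card_le_of_le (inf_le_right : R ⊓ K'.W ≤ K'.W)
    rw [K'.cardW] at h2
    have : Nat.card (R ⊓ K'.W : Subgroup G) = 128 := by nlinarith
    exact inf_eq_right.mp (Subgroup.eq_of_le_of_card_ge inf_le_right (by rw [this, K'.cardW]))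
  have hW'z : ∀ y ∈ K'.W, Commute y z := fun y hy => (hW'R hy).1
  have hWW : K'.W ≠ K.W := fun e => hne (by
    have hN : g ∈ normalizer (K.W : Set G) := mem_normalizer_iff.mpr fun y => by
      have := memW' (y := g * y * g⁻¹)
      rw [e, show g⁻¹ * (g * y * g⁻¹) * g⁻¹⁻¹ = y by group] at this
      exact this.symm
    rw [hudef, (K.normalizer_comm hN).eq, mul_inv_cancel_right])
  -- images of subgroups normalised by the element of order 3
  have himg : ∀ (M : Subgroup G) (hMR : M ≤ R), (∀ y ∈ M, t * y * t⁻¹ ∈ M) → ¬ M ≤ K.W →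
      K.img M (fun y hy => (hMR hy).1) = four h := fun M hMR hM hn => by
    refine (four_inv h (fun l hl => ?_) fun l hl => ?_).resolve_left fun e => hn fun y hy =>
      (K.p_ker y (hMR hy).1).mp ((Subgroup.eq_bot_iff_forall _).mp e _ (K.mem_img.mpr ⟨y, hy, rfl⟩))
    · obtain ⟨y, hy, rfl⟩ := K.mem_img.mp hl; exact (hMR hy).2
    · obtain ⟨y, hy, rfl⟩ := K.mem_img.mp hl
      exact K.mem_img.mpr ⟨_, hM y hy, by rw [K.p_conj ht (hMR hy).1, hta]⟩
  have hI32 : Nat.card (K'.W ⊓ K.W : Subgroup G) = 32 := by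
    have h1 := K.card_img K'.W (fun y hy => (hW'R hy).1)
    rw [himg K'.W hW'R (fun y hy => K'.normW htu hy) (fun hle => hWW (Subgroup.eq_of_le_of_card_ge hle
      (by rw [K.cardW, K'.cardW]))), card_four h, K'.cardW] at h1
    omega
  have hOm' : 2 < Nat.card K'.Om := by
    refine lt_of_lt_of_le hbig (Nat.card_le_card_of_injective (fun w : K.Om => (⟨g * w * g⁻¹, ?_⟩ : K'.Om)) fun a b e => ?_)
    · have hconj : ∀ w : G, g⁻¹ * (g * w * g⁻¹) * g⁻¹⁻¹ = w := fun w => by group
      refine ⟨memW'.mpr (by rw [hconj]; exact w.2.1), fun b hb => ?_, ?_⟩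
      · have := w.2.2.1 _ (memW'.mp hb)
        have := (Cfsg.Lib.Isolated.commute_conj_iff g).mpr this
        rwa [show g * (g⁻¹ * b * g⁻¹⁻¹) * g⁻¹ = b by group] at this
      · rw [show g * (w : G) * g⁻¹ * (g * w * g⁻¹) = g * ((w : G) * w) * g⁻¹ by group, w.2.2.2, mul_one, mul_inv_cancel]
    · exact Subtype.ext (mul_left_cancel (mul_right_cancel (congrArg Subtype.val e)))
  have hOmR : K'.Om ≤ R := K'.Om_le.trans hW'R
  have htK'Om : ∀ y ∈ K'.Om, t * y * t⁻¹ ∈ K'.Om := fun y hy => K'.Om_norm htu hy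
  rcases K.card_inv K.Om_le K.z_Om (fun m hm => K.Om_norm K.xC hm) with h2 | h16 | h128
  · omega
  · -- sixteen central involutions
    have hfixR : ∀ (F : Subgroup G), F ≤ K.Om → (∀ y ∈ R, ∀ w ∈ F, Commute y w) → Nat.card F ≤ 4 := by
      intro F hF hFR
      let F0 : Subgroup G := K.Om ⊓ centralizer (R : Set G)
      have hle : F ≤ F0 := fun w hw => ⟨hF hw, mem_centralizer_iff.mpr fun y hy => hFR y hy w hw⟩
      refine (Subgroup.card_le_of_le hle).trans ?_
      have ht0 : ∀ w ∈ F0, t * w * t⁻¹ ∈ F0 := fun w hw => ⟨K.Om_norm ht hw.1, mem_centralizer_iff.mpr fun y hy => by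
        have hy' : t⁻¹ * y * t ∈ R := by
          have := htR _ (htR y hy)
          rw [show t⁻¹ * y * t = t * (t * y * t⁻¹) * t⁻¹ by
            have h3 : t ^ 3 = 1 := ho ▸ pow_orderOf_eq_one t
            have : t⁻¹ = t * t := inv_eq_of_mul_eq_one_right (by rw [← h3, pow_three])
            rw [mul_assoc t (t * y * t⁻¹), this]
            calc t * t * y * t = t * t * y * (t * t * t * t) := by
                  rw [mul_assoc t t t, ← pow_three, h3, one_mul]
              _ = _ := by group]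
          exact this
        have := (Cfsg.Lib.Isolated.commute_conj_iff t).mpr (mem_centralizer_iff.mp hw.2 _ hy')
        rwa [show t * (t⁻¹ * y * t) * t⁻¹ = y by group] at this⟩
      have hm := fixIn_modEq (show t ^ 3 = 1 from ho ▸ pow_orderOf_eq_one t) F0 ht0
      have hu0 : u ∈ fixIn F0 t := mem_fixIn.mpr ⟨⟨hu, mem_centralizer_iff.mpr fun y hy => (hRu y hy).eq⟩, htu⟩
      have hz0 : z ∈ fixIn F0 t := mem_fixIn.mpr ⟨⟨K.z_Om, mem_centralizer_iff.mpr fun y hy => hy.1.eq⟩, ht⟩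
      have h3 : 3 ≤ Nat.card (fixIn F0 t) := by
        have hss : ({1, z, u} : Set G) ⊆ (fixIn F0 t : Set G) := by
          rintro w (rfl | rfl | rfl)
          exacts [one_mem _, hz0, hu0]
        have := Set.ncard_le_ncard hss (Set.toFinite _)
        rw [Set.ncard_insert_of_notMem (by simp [K.z_ne.symm, u1.symm]), Set.ncard_pair hne.symm] at this
        exact this
      have hm16 := fixIn_modEq (show t ^ 3 = 1 from ho ▸ pow_orderOf_eq_one t) K.Om (fun m hm => K.Om_norm ht hm)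
      have hlt : Nat.card (fixIn K.Om t) < 16 := by
        by_contra hh
        refine (K.p_three ht ho).2 (K.p_W (K.cent_le K.Om_le hbig (fun c hc m hm => K.Om_norm hc hm) ht fun m hm => ?_))
        exact (mem_fixIn.mp ((Subgroup.eq_of_le_of_card_ge inf_le_left (by omega) : fixIn K.Om t = K.Om).symm ▸ hm : m ∈ fixIn K.Om t)).2
      have d1 : Nat.card (fixIn F0 t) ∣ Nat.card (fixIn K.Om t) :=
        Subgroup.card_dvd_of_le fun w hw => mem_fixIn.mpr ⟨hw.1.1, (mem_fixIn.mp hw).2⟩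
      obtain ⟨p, hp, ep⟩ : ∃ k ≤ 7, Nat.card F0 = 2 ^ k :=
        pow_card_two ((Subgroup.card_dvd_of_le inf_le_left).trans (h16 ▸ by norm_num))
      obtain ⟨q, hq, eq⟩ : ∃ k ≤ 7, Nat.card (fixIn K.Om t) = 2 ^ k :=
        pow_card_two ((Subgroup.card_dvd_of_le inf_le_left).trans (h16 ▸ by norm_num))
      obtain ⟨r, hr, er⟩ : ∃ k ≤ 7, Nat.card (fixIn F0 t) = 2 ^ k :=
        pow_card_two ((Subgroup.card_dvd_of_le inf_le_left).trans ((Subgroup.card_dvd_of_le inf_le_left).trans (h16 ▸ by norm_num)))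
      have h4 : Nat.card F0 < 16 := by
        refine lt_of_le_of_ne (h16 ▸ Subgroup.card_le_of_le inf_le_left) fun e16 => ?_
        have hF0 : F0 = K.Om := Subgroup.eq_of_le_of_card_ge inf_le_left (by rw [h16, e16])
        obtain ⟨c, hc, hcv⟩ := K.p_surj v
        refine h.v1 (hcv ▸ K.p_W (K.cent_le K.Om_le hbig (fun c' hc' m hm => K.Om_norm hc' hm) hc fun m hm => ?_))
        exact mem_centralizer_iff.mp (hF0.symm ▸ hm : m ∈ F0).2 c ⟨hc, hcv ▸ (mem_four h).mpr (Or.inr (Or.inl rfl))⟩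
      have h5 : Nat.card (fixIn F0 t) ≤ Nat.card F0 := Subgroup.card_le_of_le inf_le_left
      have h6 := Nat.le_of_dvd Nat.card_pos d1
      rw [h16] at hm16
      rw [ep] at hm h4 h5 ⊢; rw [eq] at hm16 hlt h6; rw [er] at hm h3 h5 h6
      interval_cases q <;> first | omega | (interval_cases r <;> first | omega | (interval_cases p <;> omega))
    by_cases hle : K'.Om ≤ K.W
    · -- both sets of central involutions in the intersection
      have hOmW' : K.Om ≤ K'.W := fun w hw => K'.cent_le K'.Om_le hOm' (fun c hc m hm => K'.Om_norm hc hm)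
        (hu.2.1 _ hw.1) fun m hm => (hw.2.1 m (hle hm)).symm
      have hb := card_mul_le (le_inf (hOmW') K.Om_le : K.Om ≤ K'.W ⊓ K.W) (le_inf K'.Om_le hle : K'.Om ≤ K'.W ⊓ K.W)
      have h4 := hfixR (K.Om ⊓ K'.Om) inf_le_left fun y hy w hw => by
        -- a product of the two kernels
        obtain ⟨y', hy', e⟩ := K.mem_img.mp (show K.p y ∈ K.img K'.W (fun y hy => (hW'R hy).1) by
          rw [himg K'.W hW'R (fun y hy => K'.normW htu hy) (fun hle' => hWW (Subgroup.eq_of_le_of_card_ge hle'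
            (by rw [K.cardW, K'.cardW])))]
          exact hy.2)
        have hz' := hW'z y' hy'
        have hin : y'⁻¹ * y ∈ K.W := (K.p_ker _ (hz'.inv_left.mul_left hy.1)).mp
          (by rw [K.p_mul _ _ hz'.inv_left hy.1, K.p_inv hz', e, inv_mul_cancel])
        have := (hw.2.2.1 y' hy').mul_left (hw.1.2.1 _ hin)
        rwa [mul_inv_cancel_left] at this
      rcases K'.card_inv K'.Om_le K'.z_Om (fun m hm => K'.Om_norm K'.xC hm) with e | e | e <;>
        rw [e, h16, hI32] at hb <;> omega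
    · -- the central involutions of the second cover the four-group
      have hcov := himg K'.Om hOmR htK'Om hle
      let F := K'.W ⊓ K.W
      have hF : ∀ l ∈ four h, ∃ c, Commute c z ∧ K.p c = l ∧ ∀ w ∈ F, Commute c w := fun l hl => by
        obtain ⟨c, hc, e⟩ := K.mem_img.mp (hcov.symm ▸ hl : l ∈ K.img K'.Om (fun y hy => (hOmR hy).1))
        exact ⟨c, (hOmR hc).1, e, fun w hw => (hc.2.1 w hw.1).symm⟩
      have h4 := hfixR (F ⊓ K.Om) inf_le_right fun y hy w hw => by
        obtain ⟨c, hc, e, hcw⟩ := hF (K.p y) hy.2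
        have hin : c⁻¹ * y ∈ K.W := (K.p_ker _ (hc.inv_left.mul_left hy.1)).mp
          (by rw [K.p_mul _ _ hc.inv_left hy.1, K.p_inv hc, e, inv_mul_cancel])
        have := (hcw w hw.1).mul_left (hw.2.2.1 _ hin)
        rwa [mul_inv_cancel_left] at this
      have hsup : F ⊔ K.Om = K.W := by
        refine Subgroup.eq_of_le_of_card_ge (sup_le inf_le_right K.Om_le) ?_
        have hb := card_mul_le (le_sup_left : F ≤ F ⊔ K.Om) (le_sup_right : K.Om ≤ F ⊔ K.Om)
        rw [show Nat.card F = 32 from hI32, h16] at hb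
        rw [K.cardW]
        nlinarith
      -- so a nontrivial element centralises the quotient
      obtain ⟨c, hc, hcv, hcw⟩ := hF v ((mem_four h).mpr (Or.inr (Or.inl rfl)))
      let S : Subgroup G :=
        { carrier := {c | Commute c z ∧ ∀ w ∈ K.W, c * w * c⁻¹ * w⁻¹ ∈ K.Om}
          one_mem' := ⟨Commute.one_left z, fun w _ => by simpa using one_mem K.Om⟩
          mul_mem' := fun {c d} hc hd => ⟨hc.1.mul_left hd.1, fun w hw => by
            rw [show c * d * w * (c * d)⁻¹ * w⁻¹ = c * (d * w * d⁻¹ * w⁻¹) * c⁻¹ * (c * w * c⁻¹ * w⁻¹) by group]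
            exact mul_mem (K.Om_norm hc.1 (hd.2 w hw)) (hc.2 w hw)⟩
          inv_mem' := fun {c} hc => ⟨hc.1.inv_left, fun w hw => by
            rw [show c⁻¹ * w * c⁻¹⁻¹ * w⁻¹ = c⁻¹ * (c * w * c⁻¹ * w⁻¹)⁻¹ * c⁻¹⁻¹ by group]
            exact K.Om_norm hc.1.inv_left (inv_mem (hc.2 w hw))⟩ }
      have hcS : c ∈ S := by
        let T : Subgroup G :=
          { carrier := {w | w ∈ K.W ∧ c * w * c⁻¹ * w⁻¹ ∈ K.Om}
            one_mem' := ⟨one_mem _, by simpa using one_mem K.Om⟩
            mul_mem' := fun {p q} hp hq => ⟨mul_mem hp.1 hq.1, by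
              rw [show c * (p * q) * c⁻¹ * (p * q)⁻¹ = (c * p * c⁻¹ * p⁻¹) * (p * (c * q * c⁻¹ * q⁻¹) * p⁻¹) by group]
              exact mul_mem hp.2 (K.Om_norm (K.WC p hp.1) hq.2)⟩
            inv_mem' := fun {p} hp => ⟨inv_mem hp.1, by
              rw [show c * p⁻¹ * c⁻¹ * p⁻¹⁻¹ = p⁻¹ * (c * p * c⁻¹ * p⁻¹)⁻¹ * p⁻¹⁻¹ by group]
              exact K.Om_norm (K.WC p hp.1).inv_left (inv_mem hp.2)⟩ }
        have hT : K.W ≤ T := by
          rw [← hsup]
          exact sup_le (fun w hw => ⟨hw.2, by rw [(hcw w hw).eq, mul_inv_cancel_right, mul_inv_cancel]; exact one_mem _⟩)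
            (fun w hw => ⟨hw.1, mul_mem (K.Om_norm hc hw) (inv_mem hw)⟩)
        exact ⟨hc, fun w hw => (hT hw).2⟩
      obtain ⟨d, hd, hdz, hpd⟩ := K.exists_seven S (fun g' hg' s hs _ => ⟨(hg'.mul_left hs.1).mul_left hg'.inv_left, fun w hw => by
          have h' := hs.2 (g'⁻¹ * w * g') (by have := K.normW hg'.inv_left hw; rwa [inv_inv] at this)
          have := K.Om_norm hg' h'
          rwa [show g' * (s * (g'⁻¹ * w * g') * s⁻¹ * (g'⁻¹ * w * g')⁻¹) * g'⁻¹ = g' * s * g'⁻¹ * w * (g' * s * g'⁻¹)⁻¹ * w⁻¹ by group] at this⟩)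
        hcS hc (hcv ▸ h.v1)
      haveI : Fact (Nat.Prime 7) := ⟨by norm_num⟩
      have hd7 : d ^ 7 ∈ K.W := (K.p_ker _ (hdz.pow_left 7)).mp (by rw [K.p_pow hdz, hpd, K.p_x7])
      have hd' : (d ^ 128) ^ 7 = 1 := by rw [← pow_mul, mul_comm, pow_mul, K.pow128 hd7]
      have hpd' : K.p (d ^ 128) = K.p K.x ^ 2 := by
        rw [K.p_pow hdz, hpd, pow_eq_pow_mod 128 K.p_x7]
      have hle2 : K.W ≤ K.Om := fun w hw => by
        let Co : Set G := {y | y ∈ K.W ∧ w⁻¹ * y ∈ K.Om}
        have hCo : Nat.card Co = 16 := by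
          rw [← h16]
          exact Nat.card_congr
            { toFun := fun y => ⟨w⁻¹ * y.1, y.2.2⟩
              invFun := fun o => ⟨w * o.1, mul_mem hw o.2.1, by rw [inv_mul_cancel_left]; exact o.2⟩
              left_inv := fun y => Subtype.ext (mul_inv_cancel_left _ _)
              right_inv := fun o => Subtype.ext (inv_mul_cancel_left _ _) }
        have hm := fixed_modEq hd' Co (fun y hy => ⟨K.normW (hdz.pow_left _) hy.1, by
          have h' := (pow_mem hd 128).2 y hy.1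
          have h2 : w⁻¹ * (d ^ 128 * y * (d ^ 128)⁻¹ * y⁻¹) * w = d ^ 128 * y * (d ^ 128)⁻¹ * y⁻¹ := by
            rw [mul_assoc, ← (h'.2.1 w hw).eq, inv_mul_cancel_left]
          rw [show w⁻¹ * (d ^ 128 * y * (d ^ 128)⁻¹) = w⁻¹ * (d ^ 128 * y * (d ^ 128)⁻¹ * y⁻¹) * w * (w⁻¹ * y) by group, h2]
          exact mul_mem h' hy.2⟩)
        rw [hCo] at hm
        obtain ⟨⟨y, hy, hcy⟩⟩ : Nonempty {m : G | m ∈ Co ∧ Commute (d ^ 128) m} :=
          (Nat.card_ne_zero.mp (fun e => by rw [e] at hm; norm_num at hm)).1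
        have hyO : y ∈ K.Om := by
          rcases K.fix_seven (hdz.pow_left _) (by rw [hpd', ← pow_mul, pow_mul', K.p_x7, one_pow])
            (by rw [hpd']; exact fun e => K.p_x (by
              calc K.p K.x = (K.p K.x ^ 2) ^ 4 := by rw [← pow_mul, pow_eq_pow_mod _ K.p_x7, pow_one]
                _ = 1 := by rw [e, one_pow])) hy.1 hcy with e | e <;> rw [e]
          exacts [one_mem _, K.z_Om]
        have := mul_mem hyO (inv_mem hy.2)
        rwa [mul_inv_rev, inv_inv, mul_inv_cancel_left] at this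
      have := Subgroup.card_le_of_le hle2
      rw [h16, K.cardW] at this
      omega
  · -- elementary abelian
    have hWOm : K.Om = K.W := Subgroup.eq_of_le_of_card_ge K.Om_le (by rw [h128, K.cardW])
    have habel : ∀ e ∈ K.W, ∀ w ∈ K.W, Commute e w := fun e he w hw => (hWOm.symm ▸ hw : w ∈ K.Om).2.1 e he
    have hWOm' : K'.Om = K'.W := by
      refine Subgroup.eq_of_le_of_card_ge K'.Om_le ?_
      rw [K'.cardW, ← h128]
      refine Nat.card_le_card_of_injective (fun w : K.Om => (⟨g * w * g⁻¹, ?_⟩ : K'.Om))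
        fun a b e => Subtype.ext (mul_left_cancel (mul_right_cancel (congrArg Subtype.val e)))
      have hconj : ∀ w : G, g⁻¹ * (g * w * g⁻¹) * g⁻¹⁻¹ = w := fun w => by group
      refine ⟨memW'.mpr (by rw [hconj]; exact w.2.1), fun b hb => ?_, ?_⟩
      · have := (Cfsg.Lib.Isolated.commute_conj_iff g).mpr (w.2.2.1 _ (memW'.mp hb))
        rwa [show g * (g⁻¹ * b * g⁻¹⁻¹) * g⁻¹ = b by group] at this
      · rw [show g * (w : G) * g⁻¹ * (g * w * g⁻¹) = g * ((w : G) * w) * g⁻¹ by group, w.2.2.2, mul_one, mul_inv_cancel]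
    have habel' : ∀ e ∈ K'.W, ∀ w ∈ K'.W, Commute e w := fun e he w hw => (hWOm'.symm ▸ hw : w ∈ K'.Om).2.1 e he
    have hnle : ¬ K'.W ≤ K.W := fun hle => hWW (Subgroup.eq_of_le_of_card_ge hle (by rw [K.cardW, K'.cardW]))
    let F : Subgroup G := K.W ⊓ centralizer (R : Set G)
    have hb := K.four_bound habel (K.Om_le hu) u1 hne h (fun c hc hcp => by
        rcases hcp with e | e
        · exact hRu c ⟨hc, e⟩
        · exact K.comm_of_Img hu hc (e ▸ ha)) F
      (fun w => ⟨fun hw => ⟨hw.1, fun c hc hcp => mem_centralizer_iff.mp hw.2 c ⟨hc, hcp⟩⟩,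
        fun hw => ⟨hw.1, mem_centralizer_iff.mpr fun c hc => hw.2 c hc.1 hc.2⟩⟩)
    have hsub : K'.W ⊓ K.W ≤ F := fun w hw => ⟨hw.2, mem_centralizer_iff.mpr fun y hy => by
      obtain ⟨y', hy', e⟩ := K.mem_img.mp (show K.p y ∈ K.img K'.W (fun y hy => (hW'R hy).1) by
        rw [himg K'.W hW'R (fun y hy => K'.normW htu hy) hnle]; exact hy.2)
      have hz' := hW'z y' hy'
      have hin : y'⁻¹ * y ∈ K.W := (K.p_ker _ (hz'.inv_left.mul_left hy.1)).mp
        (by rw [K.p_mul _ _ hz'.inv_left hy.1, K.p_inv hz', e, inv_mul_cancel])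
      have := (habel' y' hy' w hw.1).mul_left (habel _ hin w hw.2)
      rw [mul_inv_cancel_left] at this
      exact this⟩
    have := Subgroup.card_le_of_le hsub
    omega

end Ctx

end Cfsg.Lib.M24Nse
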