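import Cfsg.Agent.HeldCent.Quot

/-!
Finite facts on SL(3,2) for the recognition of M24 by element counts.
-/

set_option autoImplicit false
set_option maxRecDepth 100000

namespace Cfsg.Lib.M24Nse

open Cfsg.Lib.HeldCent

theorem conj_three0 : ∀ a : L3, a ^ 3 = 1 → a ≠ 1 → ∃ g : L3, g * mR * g⁻¹ = a := by decide +kernel

theorem no_comm0 : ∀ v : L3, v ^ 4 = 1 → v ≠ 1 → mR * v ≠ v * mR := by decide +kernel

theorem comm_three0 : ∀ b : L3, b ^ 3 = 1 → b ≠ 1 → mR * b = b * mR → b = mR ∨ b = mR⁻¹ := by decide +kernel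

theorem pair0 : ∀ b : L3, b ^ 3 = 1 → b ≠ 1 → mR * b ≠ b * mR →
    (∃ u ∈ [mR * b, mR * b⁻¹, mR * b * (mR⁻¹ * b⁻¹)], u ^ 7 = 1 ∧ u ≠ 1) ∨
    ∃ v ∈ [mR * b, mR * b⁻¹], v * v = 1 ∧ v ≠ 1 ∧ v * (mR * v * mR⁻¹) = mR * v * mR⁻¹ * v ∧
      v * (mR * v * mR⁻¹) = mR * (mR * v * mR⁻¹) * mR⁻¹ := by decide +kernel

theorem four0 : ∀ v : L3, v * v = 1 → v ≠ 1 → v * (mR * v * mR⁻¹) = mR * (mR * v * mR⁻¹) * mR⁻¹ →
    ∃ g : L3, g * v * g⁻¹ * mR * (g * v * g⁻¹) = mR⁻¹ ∧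
      ∃ y ∈ [g * v * g⁻¹, g * (mR * v * mR⁻¹) * g⁻¹, g * (v * (mR * v * mR⁻¹)) * g⁻¹],
      ∃ x ∈ [v, mR * v * mR⁻¹, v * (mR * v * mR⁻¹)], (x * y * mR) ^ 7 = 1 ∧ x * y * mR ≠ 1 := by decide +kernel

theorem card_three : ((Finset.univ : Finset L3).filter fun a => a ^ 3 = 1 ∧ a ≠ 1).card = 56 := by decide +kernel

theorem exists_four_rel : ∀ v : L3, v * v = 1 → v * (mR * v * mR⁻¹) = mR * (mR * v * mR⁻¹) * mR⁻¹ →
    v * (mR * v * mR⁻¹) = mR * v * mR⁻¹ * v := by decide +kernel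

/-- An element of order 3 with a four-group it normalises. -/
structure Tetra (a v : L3) : Prop where
  a3 : a ^ 3 = 1
  a1 : a ≠ 1
  v2 : v * v = 1
  v1 : v ≠ 1
  rel : v * (a * v * a⁻¹) = a * (a * v * a⁻¹) * a⁻¹

theorem conj_three {a : L3} (a3 : a ^ 3 = 1) (a1 : a ≠ 1) : ∃ f : L3 ≃* L3, f mR = a := by
  obtain ⟨g, hg⟩ := conj_three0 a a3 a1
  exact ⟨MulAut.conj g, hg⟩

theorem no_comm {a v : L3} (a3 : a ^ 3 = 1) (a1 : a ≠ 1) (v4 : v ^ 4 = 1) (h : a * v = v * a) : v = 1 := by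
  obtain ⟨f, rfl⟩ := conj_three a3 a1
  obtain ⟨c, rfl⟩ := f.surjective v
  rw [← map_mul, ← map_mul] at h
  rw [← map_pow, ← map_one f] at v4
  by_contra v1
  exact no_comm0 c (f.injective v4) (fun e => v1 (by rw [e, map_one])) (f.injective h)

theorem comm_three {a b : L3} (a3 : a ^ 3 = 1) (a1 : a ≠ 1) (b3 : b ^ 3 = 1) (b1 : b ≠ 1) (h : a * b = b * a) :
    b = a ∨ b = a⁻¹ := by
  obtain ⟨f, rfl⟩ := conj_three a3 a1
  obtain ⟨c, rfl⟩ := f.surjective b
  rw [← map_mul, ← map_mul] at h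
  rw [← map_pow, ← map_one f] at b3
  rcases comm_three0 c (f.injective b3) (fun e => b1 (by rw [e, map_one])) (f.injective h) with e | e
  · exact Or.inl (congrArg f e)
  · exact Or.inr (by rw [e, map_inv])

theorem pair_fact {a b : L3} (a3 : a ^ 3 = 1) (a1 : a ≠ 1) (b3 : b ^ 3 = 1) (b1 : b ≠ 1) (h : a * b ≠ b * a) :
    (∃ u ∈ Subgroup.closure {a, b}, u ^ 7 = 1 ∧ u ≠ 1) ∨ ∃ v ∈ Subgroup.closure {a, b}, Tetra a v := by
  have ha : a ∈ Subgroup.closure {a, b} := Subgroup.subset_closure (Set.mem_insert _ _)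
  have hb : b ∈ Subgroup.closure {a, b} := Subgroup.subset_closure (Set.mem_insert_of_mem _ rfl)
  obtain ⟨f, rfl⟩ := conj_three a3 a1
  obtain ⟨c, rfl⟩ := f.surjective b
  rw [← map_pow, ← map_one f] at b3
  rcases pair0 c (f.injective b3) (fun e => b1 (by rw [e, map_one]))
    (fun e => h (by rw [← map_mul, e, map_mul])) with ⟨u, hu, h7, hne⟩ | ⟨v, hv, hvv, hv1, -, hrel⟩
  · refine Or.inl ⟨f u, ?_, by rw [← map_pow, h7, map_one],
      fun e => hne (f.injective (e.trans (map_one f).symm))⟩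
    simp only [List.mem_cons, List.not_mem_nil, or_false] at hu
    rcases hu with e | e | e
    · rw [e, map_mul]; exact mul_mem ha hb
    · rw [e, map_mul, map_inv]; exact mul_mem ha (inv_mem hb)
    · rw [e, map_mul, map_mul, map_mul, map_inv, map_inv]
      exact mul_mem (mul_mem ha hb) (mul_mem (inv_mem ha) (inv_mem hb))
  · refine Or.inr ⟨f v, ?_, a3, a1, by rw [← map_mul, hvv, map_one],
      fun e => hv1 (f.injective (e.trans (map_one f).symm)), ?_⟩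
    · simp only [List.mem_cons, List.not_mem_nil, or_false] at hv
      rcases hv with e | e
      · rw [e, map_mul]; exact mul_mem ha hb
      · rw [e, map_mul, map_inv]; exact mul_mem ha (inv_mem hb)
    · simp only [← map_inv, ← map_mul]
      exact congrArg f hrel

theorem Tetra.pull (f : L3 ≃* L3) {a v : L3} (h : Tetra (f a) (f v)) : Tetra a v where
  a3 := f.injective (by rw [map_pow, h.a3, map_one])
  a1 e := h.a1 (by rw [e, map_one])
  v2 := f.injective (by rw [map_mul, h.v2, map_one])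
  v1 e := h.v1 (by rw [e, map_one])
  rel := f.injective (by simp only [map_mul, map_inv]; exact h.rel)

theorem Tetra.comm {a v : L3} (h : Tetra a v) : v * (a * v * a⁻¹) = a * v * a⁻¹ * v := by
  obtain ⟨f, rfl⟩ := conj_three h.a3 h.a1
  obtain ⟨u, rfl⟩ := f.surjective v
  have hu := h.pull f
  have := congrArg f (exists_four_rel u hu.v2 hu.rel)
  simp only [map_mul, map_inv] at this
  exact this

/-- A conjugate four-group and an inverting involution in it give an element of order 7. -/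
theorem Tetra.seven {a v : L3} (h : Tetra a v) :
    ∃ k : L3, k * v * k⁻¹ * a * (k * v * k⁻¹) = a⁻¹ ∧
      ∃ y ∈ [k * v * k⁻¹, k * (a * v * a⁻¹) * k⁻¹, k * (v * (a * v * a⁻¹)) * k⁻¹],
      ∃ x ∈ [v, a * v * a⁻¹, v * (a * v * a⁻¹)], (x * y * a) ^ 7 = 1 ∧ x * y * a ≠ 1 := by
  obtain ⟨f, rfl⟩ := conj_three h.a3 h.a1
  obtain ⟨u, rfl⟩ := f.surjective v
  have hu := h.pull f
  obtain ⟨k, hk, y, hy, x, hx, h7, h1⟩ := four0 u hu.v2 hu.v1 hu.rel
  simp only [← map_inv, ← map_mul]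
  refine ⟨f k, ?_, f y, ?_, f x, ?_, ?_, ?_⟩
  · simp only [← map_inv, ← map_mul]; exact congrArg f hk
  · simp only [← map_inv, ← map_mul]; exact List.mem_map_of_mem hy
  · exact List.mem_map_of_mem hx
  · simp only [← map_mul, ← map_pow, h7, map_one]
  · simp only [← map_mul]
    exact fun e => h1 (f.injective (e.trans (map_one f).symm))

end Cfsg.Lib.M24Nse
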