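import Cfsg.Agent.M24Nse.EndgameCtx

/-!
The involutions of the centre of the normal subgroup of order 128, and stabilisers in SL(3,2).
-/

set_option autoImplicit false
set_option linter.style.haveILetI false
set_option linter.unusedSectionVars false
set_option maxHeartbeats 1000000

namespace Cfsg.Lib.M24Nse

open Subgroup
open Cfsg.Lib.HeldCent (L3)

variable {G : Type*} [Group G] [Finite G]

theorem card_mul_le {A B M : Subgroup G} (hA : A ≤ M) (hB : B ≤ M) :
    Nat.card A * Nat.card B ≤ Nat.card M * Nat.card (A ⊓ B : Subgroup G) := by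
  have h := Subgroup.index_inf_le (H := A.subgroupOf M) (K := B.subgroupOf M)
  have eA : Nat.card (A.subgroupOf M) = Nat.card A := Nat.card_congr (Subgroup.subgroupOfEquivOfLe hA).toEquiv
  have eB : Nat.card (B.subgroupOf M) = Nat.card B := Nat.card_congr (Subgroup.subgroupOfEquivOfLe hB).toEquiv
  have eI : Nat.card (A.subgroupOf M ⊓ B.subgroupOf M : Subgroup M) = Nat.card (A ⊓ B : Subgroup G) := by
    rw [show A.subgroupOf M ⊓ B.subgroupOf M = (A ⊓ B).subgroupOf M from rfl]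
    exact Nat.card_congr (Subgroup.subgroupOfEquivOfLe (inf_le_left.trans hA)).toEquiv
  have mA := (A.subgroupOf M).card_mul_index
  have mB := (B.subgroupOf M).card_mul_index
  have mI := (A.subgroupOf M ⊓ B.subgroupOf M).card_mul_index
  rw [eA] at mA; rw [eB] at mB; rw [eI] at mI
  set a := (A.subgroupOf M).index; set b := (B.subgroupOf M).index
  set c := (A.subgroupOf M ⊓ B.subgroupOf M).index
  have hpos : 0 < Nat.card M := Nat.card_pos
  refine Nat.le_of_mul_le_mul_left ?_ hpos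
  calc Nat.card M * (Nat.card A * Nat.card B)
      = Nat.card (A ⊓ B : Subgroup G) * c * (Nat.card A * Nat.card B) := by rw [mI]
    _ ≤ Nat.card (A ⊓ B : Subgroup G) * (a * b) * (Nat.card A * Nat.card B) := by gcongr
    _ = (Nat.card A * a) * (Nat.card B * b) * Nat.card (A ⊓ B : Subgroup G) := by ring
    _ = Nat.card M * (Nat.card M * Nat.card (A ⊓ B : Subgroup G)) := by rw [mA, mB]; ring

/-- The four-group of a tetrahedral pair. -/
def four {a v : L3} (h : Tetra a v) : Subgroup L3 where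
  carrier := {1, v, a * v * a⁻¹, v * (a * v * a⁻¹)}
  one_mem' := Set.mem_insert _ _
  mul_mem' := by
    have hw2 : (a * v * a⁻¹) * (a * v * a⁻¹) = 1 := by
      rw [show a * v * a⁻¹ * (a * v * a⁻¹) = a * (v * v) * a⁻¹ by group, h.v2, mul_one, mul_inv_cancel]
    have c := h.comm
    generalize a * v * a⁻¹ = w at hw2 c ⊢
    have e1 : ∀ x : L3, v * (v * x) = x := fun x => by rw [← mul_assoc, h.v2, one_mul]
    have e2 : ∀ x : L3, w * (w * x) = x := fun x => by rw [← mul_assoc, hw2, one_mul]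
    have e3 : ∀ x : L3, w * (v * x) = v * (w * x) := fun x => by rw [← mul_assoc, ← c, mul_assoc]
    have e4 := h.v2
    rintro x y (rfl | rfl | rfl | rfl) (rfl | rfl | rfl | rfl) <;>
      simp only [Set.mem_insert_iff, Set.mem_singleton_iff, mul_assoc, one_mul, mul_one, e1, e2, e3, e4, hw2, ← c,
        true_or, or_true]
  inv_mem' := by
    have hw2 : (a * v * a⁻¹) * (a * v * a⁻¹) = 1 := by
      rw [show a * v * a⁻¹ * (a * v * a⁻¹) = a * (v * v) * a⁻¹ by group, h.v2, mul_one, mul_inv_cancel]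
    have c := h.comm
    generalize a * v * a⁻¹ = w at hw2 c ⊢
    rintro x (rfl | rfl | rfl | rfl) <;>
      simp only [Set.mem_insert_iff, Set.mem_singleton_iff, inv_one, mul_inv_rev,
        inv_eq_of_mul_eq_one_right h.v2, inv_eq_of_mul_eq_one_right hw2, ← c, true_or, or_true]

theorem mem_four {a v l : L3} (h : Tetra a v) :
    l ∈ four h ↔ l = 1 ∨ l = v ∨ l = a * v * a⁻¹ ∨ l = v * (a * v * a⁻¹) := Iff.rfl

theorem Tetra.w2 {a v : L3} (h : Tetra a v) : a * (a * v * a⁻¹) * a⁻¹ = v * (a * v * a⁻¹) := h.rel.symm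

theorem Tetra.w3 {a v : L3} (h : Tetra a v) : a * (v * (a * v * a⁻¹)) * a⁻¹ = v := by
  rw [h.rel]
  have := h.a3
  calc a * (a * (a * v * a⁻¹) * a⁻¹) * a⁻¹ = a ^ 3 * v * (a ^ 3)⁻¹ := by rw [pow_three]; group
    _ = v := by rw [this]; group

theorem four_sq {a v l : L3} (h : Tetra a v) (hl : l ∈ four h) : l * l = 1 := by
  have hw2 : (a * v * a⁻¹) * (a * v * a⁻¹) = 1 := by
    rw [show a * v * a⁻¹ * (a * v * a⁻¹) = a * (v * v) * a⁻¹ by group, h.v2, mul_one, mul_inv_cancel]
  rcases (mem_four h).mp hl with e | e | e | e <;> rw [e]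
  · exact mul_one _
  · exact h.v2
  · exact hw2
  · rw [h.rel, show a * (a * v * a⁻¹) * a⁻¹ * (a * (a * v * a⁻¹) * a⁻¹) = a * (a * v * a⁻¹ * (a * v * a⁻¹)) * a⁻¹ by group,
      hw2, mul_one, mul_inv_cancel]

theorem card_four {a v : L3} (h : Tetra a v) : Nat.card (four h) = 4 := by
  have n1 : a * v * a⁻¹ ≠ 1 := fun e => h.v1 (conj_eq_one_iff.mp e)
  have n2 : v * (a * v * a⁻¹) ≠ 1 := fun e => by
    rw [h.rel] at e
    exact n1 (conj_eq_one_iff.mp e)
  have n3 : a * v * a⁻¹ ≠ v := fun e => n2 (by rw [e, h.v2])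
  have n4 : v * (a * v * a⁻¹) ≠ v := fun e => n1 (mul_eq_left.mp e)
  have n5 : v * (a * v * a⁻¹) ≠ a * v * a⁻¹ := fun e => h.v1 (mul_eq_right.mp e)
  show Nat.card ({1, v, a * v * a⁻¹, v * (a * v * a⁻¹)} : Set L3) = 4
  rw [Nat.card_coe_set_eq, Set.ncard_insert_of_notMem, Set.ncard_insert_of_notMem, Set.ncard_pair]
  · exact n5.symm
  · simp only [Set.mem_insert_iff, Set.mem_singleton_iff, not_or]
    exact ⟨n3.symm, n4.symm⟩
  · simp only [Set.mem_insert_iff, Set.mem_singleton_iff, not_or]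
    exact ⟨h.v1.symm, n1.symm, n2.symm⟩

/-- A subgroup of the four-group normalised by the element of order 3. -/
theorem four_inv {a v : L3} (h : Tetra a v) {L : Subgroup L3} (hle : L ≤ four h) (ha : ∀ l ∈ L, a * l * a⁻¹ ∈ L) :
    L = ⊥ ∨ L = four h := by
  by_cases hb : L = ⊥
  · exact Or.inl hb
  obtain ⟨l, hl, hl1⟩ := L.bot_or_exists_ne_one.resolve_left hb
  have hv : v ∈ L := by
    rcases (mem_four h).mp (hle hl) with e | e | e | e
    · exact absurd e hl1
    · exact e ▸ hl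
    · rw [← h.w3]; refine ha _ ?_; rw [← h.w2]; exact ha _ (e ▸ hl)
    · rw [← h.w3]; exact ha _ (e ▸ hl)
  refine Or.inr (le_antisymm hle fun y hy => ?_)
  rcases (mem_four h).mp hy with e | e | e | e <;> rw [e]
  · exact one_mem _
  · exact hv
  · exact ha _ hv
  · exact mul_mem hv (ha _ hv)

namespace Ctx

variable {z : G} (K : Ctx z)

/-- The central involutions. -/
def Om : Subgroup G where
  carrier := {w | w ∈ K.W ∧ (∀ a ∈ K.W, Commute a w) ∧ w * w = 1}
  one_mem' := ⟨one_mem _, fun a _ => Commute.one_right a, mul_one _⟩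
  mul_mem' := by
    rintro x y ⟨hx, cx, x2⟩ ⟨hy, cy, y2⟩
    refine ⟨mul_mem hx hy, fun a ha => (cx a ha).mul_right (cy a ha), ?_⟩
    calc x * y * (x * y) = x * (y * x) * y := by group
      _ = x * (x * y) * y := by rw [(cx y hy).eq]
      _ = x * x * (y * y) := by group
      _ = 1 := by rw [x2, y2, mul_one]
  inv_mem' := by
    rintro x ⟨hx, cx, x2⟩
    rw [show x⁻¹ = x from inv_eq_of_mul_eq_one_right x2]
    exact ⟨hx, cx, x2⟩

theorem Om_le : K.Om ≤ K.W := fun _ h => h.1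

theorem z_Om : z ∈ K.Om := ⟨K.zW, fun a ha => K.WC a ha, K.z_sq⟩

theorem Om_norm {c w : G} (hc : Commute c z) (hw : w ∈ K.Om) : c * w * c⁻¹ ∈ K.Om := by
  refine ⟨K.normW hc hw.1, fun a ha => ?_, by
    rw [show c * w * c⁻¹ * (c * w * c⁻¹) = c * (w * w) * c⁻¹ by group, hw.2.2, mul_one, mul_inv_cancel]⟩
  have h := hw.2.1 _ (K.normW hc.inv_left ha)
  rw [inv_inv] at h
  have := (Cfsg.Lib.Isolated.commute_conj_iff c).mpr h
  rwa [show c * (c⁻¹ * a * c) * c⁻¹ = a by group] at this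

theorem fixIn_x {M : Subgroup G} (hM : M ≤ K.W) (hz : z ∈ M) : Nat.card (fixIn M K.x) = 2 := by
  rw [show fixIn M K.x = zpowers z from le_antisymm
    (fun m hm => by
      rcases K.hfix m (hM (mem_fixIn.mp hm).1) (mem_fixIn.mp hm).2 with e | e <;> rw [e]
      exacts [one_mem _, mem_zpowers z])
    (zpowers_le.mpr (mem_fixIn.mpr ⟨hz, K.xC⟩)), Nat.card_zpowers, K.hz]

theorem card_inv {M : Subgroup G} (hM : M ≤ K.W) (hz : z ∈ M) (hx : ∀ m ∈ M, K.x * m * K.x⁻¹ ∈ M) :
    Nat.card M = 2 ∨ Nat.card M = 16 ∨ Nat.card M = 128 := by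
  haveI : Fact (Nat.Prime 7) := ⟨by norm_num⟩
  have h := fixIn_modEq (show K.x ^ 7 = 1 from K.hx ▸ pow_orderOf_eq_one K.x) M hx
  rw [K.fixIn_x hM hz] at h
  obtain ⟨k, hk, e⟩ := pow_card_two (K.cardW ▸ Subgroup.card_dvd_of_le hM)
  rw [e] at h ⊢
  interval_cases k <;> simp_all

/-- A subgroup of the centraliser normal in it and outside the kernel reaches order 7. -/
theorem exists_seven (S : Subgroup G) (hn : ∀ c, Commute c z → ∀ s ∈ S, Commute s z → c * s * c⁻¹ ∈ S)
    {s : G} (hs : s ∈ S) (hsz : Commute s z) (hs1 : K.p s ≠ 1) :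
    ∃ c ∈ S, Commute c z ∧ K.p c = K.p K.x := by
  let L : Subgroup L3 :=
    { carrier := {l | ∃ c ∈ S, Commute c z ∧ K.p c = l}
      one_mem' := ⟨1, one_mem _, Commute.one_left z, K.p_one⟩
      mul_mem' := by
        rintro _ _ ⟨a, ha, hza, rfl⟩ ⟨b, hb, hzb, rfl⟩
        exact ⟨a * b, mul_mem ha hb, hza.mul_left hzb, K.p_mul a b hza hzb⟩
      inv_mem' := by
        rintro _ ⟨a, ha, hza, rfl⟩
        exact ⟨a⁻¹, inv_mem ha, hza.inv_left, K.p_inv hza⟩ }
  haveI : L.Normal := ⟨by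
    rintro _ ⟨a, ha, hza, rfl⟩ g
    obtain ⟨c, hc, rfl⟩ := K.p_surj g
    exact ⟨_, hn c hc a ha hza, (hc.mul_left hza).mul_left hc.inv_left, K.p_conj hc hza⟩⟩
  haveI := K.simple
  rcases IsSimpleGroup.eq_bot_or_eq_top_of_normal L inferInstance with h | h
  · exact absurd ((Subgroup.eq_bot_iff_forall L).mp h _ ⟨s, hs, hsz, rfl⟩) hs1
  · exact show K.p K.x ∈ L from h ▸ Subgroup.mem_top _

/-- The centraliser of a large normal subgroup is inside. -/
theorem cent_le {M : Subgroup G} (hM : M ≤ K.W) (hbig : 2 < Nat.card M)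
    (hn : ∀ c, Commute c z → ∀ m ∈ M, c * m * c⁻¹ ∈ M) {s : G} (hsz : Commute s z) (hs : ∀ m ∈ M, Commute s m) :
    s ∈ K.W := by
  by_contra hsW
  obtain ⟨c, hc, hcz, e⟩ := K.exists_seven (centralizer (M : Set G)) (fun g hg t ht _ => mem_centralizer_iff.mpr fun m hm => by
    have h := mem_centralizer_iff.mp ht _ (hn g⁻¹ hg.inv_left m hm)
    rw [inv_inv] at h
    have := (Cfsg.Lib.Isolated.commute_conj_iff g).mpr h
    rwa [show g * (g⁻¹ * m * g) * g⁻¹ = m by group] at this)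
    (mem_centralizer_iff.mpr fun m hm => (hs m hm).eq.symm) hsz (fun h => hsW ((K.p_ker s hsz).mp h))
  have hle : (M : Set G) ⊆ {1, z} := fun m hm => K.fix_seven hcz (e ▸ K.p_x7) (e ▸ K.p_x) (hM hm)
    (mem_centralizer_iff.mp hc m hm).symm
  have := Set.ncard_le_ncard hle (Set.toFinite _)
  rw [← Nat.card_coe_set_eq] at this
  have h2 := Set.ncard_insert_le (1 : G) {z}
  rw [Set.ncard_singleton] at h2
  exact absurd (show 2 < Nat.card (M : Set G) from hbig) (by omega)

/-- An element of a set of preimages. -/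
def pre (L : Subgroup L3) : Subgroup G where
  carrier := {c | Commute c z ∧ K.p c ∈ L}
  one_mem' := ⟨Commute.one_left z, K.p_one ▸ one_mem _⟩
  mul_mem' := fun ha hb => ⟨ha.1.mul_left hb.1, K.p_mul _ _ ha.1 hb.1 ▸ mul_mem ha.2 hb.2⟩
  inv_mem' := fun ha => ⟨ha.1.inv_left, K.p_inv ha.1 ▸ inv_mem ha.2⟩

theorem mem_pre {L : Subgroup L3} {c : G} : c ∈ K.pre L ↔ Commute c z ∧ K.p c ∈ L := Iff.rfl

/-- The image of a subgroup of the centraliser. -/
def img (M : Subgroup G) (hM : ∀ m ∈ M, Commute m z) : Subgroup L3 :=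
  (MonoidHom.mk' (fun m : M => K.p m) fun a b => K.p_mul a b (hM a a.2) (hM b b.2)).range

theorem mem_img {M : Subgroup G} {hM : ∀ m ∈ M, Commute m z} {l : L3} : l ∈ K.img M hM ↔ ∃ m ∈ M, K.p m = l :=
  ⟨fun ⟨m, h⟩ => ⟨m, m.2, h⟩, fun ⟨m, hm, h⟩ => ⟨⟨m, hm⟩, h⟩⟩

theorem card_img (M : Subgroup G) (hM : ∀ m ∈ M, Commute m z) :
    Nat.card (K.img M hM) * Nat.card (M ⊓ K.W : Subgroup G) = Nat.card M := by
  let f : M →* L3 := MonoidHom.mk' (fun m : M => K.p m) fun a b => K.p_mul a b (hM a a.2) (hM b b.2)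
  have hk : f.ker = (M ⊓ K.W).subgroupOf M := by
    ext m
    show K.p m = 1 ↔ (m : G) ∈ M ⊓ K.W
    exact (K.p_ker m (hM m m.2)).trans ⟨fun h => ⟨m.2, h⟩, fun h => h.2⟩
  have h := f.ker.card_eq_card_quotient_mul_card_subgroup
  rw [Nat.card_congr (QuotientGroup.quotientKerEquivRange f).toEquiv, hk,
    Nat.card_congr (Subgroup.subgroupOfEquivOfLe (inf_le_left : M ⊓ K.W ≤ M)).toEquiv] at h
  exact h.symm

theorem W_le_pre (L : Subgroup L3) : K.W ≤ K.pre L := fun w hw => ⟨K.WC w hw, K.p_W hw ▸ one_mem _⟩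

theorem card_pre (L : Subgroup L3) : Nat.card (K.pre L) = 128 * Nat.card L := by
  have h := K.card_img (K.pre L) (fun _ h => h.1)
  rw [inf_eq_right.mpr (K.W_le_pre L), K.cardW] at h
  have e : K.img (K.pre L) (fun _ h => h.1) = L := le_antisymm
    (fun l hl => by obtain ⟨m, hm, rfl⟩ := K.mem_img.mp hl; exact hm.2)
    (fun l hl => by
      obtain ⟨c, hc, rfl⟩ := K.p_surj l
      exact K.mem_img.mpr ⟨c, ⟨hc, hl⟩, rfl⟩)
  rw [e] at h
  omega

/-- The image of a stabiliser. -/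
def Img (j : G) : Subgroup L3 where
  carrier := {l | ∃ c, Commute c z ∧ K.p c = l ∧ Commute c j}
  one_mem' := ⟨1, Commute.one_left z, K.p_one, Commute.one_left j⟩
  mul_mem' := by
    rintro _ _ ⟨a, ha, rfl, haj⟩ ⟨b, hb, rfl, hbj⟩
    exact ⟨a * b, ha.mul_left hb, K.p_mul a b ha hb, haj.mul_left hbj⟩
  inv_mem' := by
    rintro _ ⟨a, ha, rfl, haj⟩
    exact ⟨a⁻¹, ha.inv_left, K.p_inv ha, haj.inv_left⟩

theorem comm_of_Img {c j : G} (hj : j ∈ K.Om) (hc : Commute c z) (h : K.p c ∈ K.Img j) : Commute c j := by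
  obtain ⟨d, hd, e, hdj⟩ := h
  have hw : d⁻¹ * c ∈ K.W := (K.p_ker _ (hd.inv_left.mul_left hc)).mp
    (by rw [K.p_mul _ _ hd.inv_left hc, K.p_inv hd, e, inv_mul_cancel])
  have := hdj.mul_left (hj.2.1 _ hw)
  rwa [mul_inv_cancel_left] at this

theorem Img_seven {j : G} (hj : j ∈ K.W) (h1 : j ≠ 1) (hz : j ≠ z) {l : L3} (hl : l ∈ K.Img j) (h7 : l ^ 7 = 1) : l = 1 := by
  by_contra hl1
  obtain ⟨c, hc, rfl, hcj⟩ := hl
  exact (K.fix_seven hc h7 hl1 hj hcj).elim h1 hz

theorem fix_Om {t : G} (ht : Commute t z) (ho : orderOf t = 3) (hbig : 2 < Nat.card K.Om) :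
    (Nat.card K.Om = 16 ∧ 4 ≤ Nat.card (fixIn K.Om t)) ∨ (Nat.card K.Om = 128 ∧ Nat.card (fixIn K.Om t) = 8) := by
  haveI : Fact (Nat.Prime 3) := ⟨Nat.prime_three⟩
  rcases K.card_inv K.Om_le K.z_Om (fun m hm => K.Om_norm K.xC hm) with h | h | h
  · omega
  · refine Or.inl ⟨h, ?_⟩
    have h3 := fixIn_modEq (show t ^ 3 = 1 from ho ▸ pow_orderOf_eq_one t) K.Om (fun m hm => K.Om_norm ht hm)
    rw [h] at h3
    have hz : zpowers z ≤ fixIn K.Om t := zpowers_le.mpr (mem_fixIn.mpr ⟨K.z_Om, ht⟩)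
    have h2 := Subgroup.card_le_of_le hz
    rw [Nat.card_zpowers, K.hz] at h2
    omega
  · refine Or.inr ⟨h, ?_⟩
    rw [Subgroup.eq_of_le_of_card_ge K.Om_le (by rw [h, K.cardW])]
    exact K.hthree t ht ho

/-- Some element of the central involutions is fixed by a tetrahedral pair. -/
theorem exists_tetra (hbig : 2 < Nat.card K.Om) :
    ∃ j ∈ K.Om, j ≠ 1 ∧ j ≠ z ∧ ∃ a ∈ K.Img j, ∃ v ∈ K.Img j, Tetra a v := by
  classical
  by_contra hno
  push Not at hno
  haveI : Fintype G := Fintype.ofFinite _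
  set A := (Finset.univ : Finset L3).filter fun a => a ^ 3 = 1 ∧ a ≠ 1 with hA
  set M := (Finset.univ : Finset G).filter fun j => j ∈ K.Om ∧ j ≠ 1 ∧ j ≠ z with hM
  have hMcard : M.card + 2 = Nat.card K.Om := by
    have e : (Finset.univ.filter fun j => j ∈ K.Om) = insert 1 (insert z M) := by
      ext j
      simp only [hM, Finset.mem_filter, Finset.mem_univ, true_and, Finset.mem_insert]
      constructor
      · intro h; tauto
      · rintro (rfl | rfl | h)
        exacts [one_mem _, K.z_Om, h.1]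
    rw [show Nat.card K.Om = (Finset.univ.filter fun j => j ∈ K.Om).card by
      rw [Nat.card_eq_fintype_card, Fintype.card_subtype], e, Finset.card_insert_of_notMem, Finset.card_insert_of_notMem]
    · simp [hM]
    · simp [hM, K.z_ne.symm]
  have hup : ∀ j ∈ M, (A.filter fun a => a ∈ K.Img j).card ≤ 2 := by
    intro j hj
    simp only [hM, Finset.mem_filter, Finset.mem_univ, true_and] at hj
    rcases (A.filter fun a => a ∈ K.Img j).eq_empty_or_nonempty with h | ⟨a, ha⟩
    · rw [h]; simp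
    simp only [hA, Finset.mem_filter, Finset.mem_univ, true_and] at ha
    refine (Finset.card_le_card (t := {a, a⁻¹}) fun b hb => ?_).trans (Finset.card_le_two)
    simp only [hA, Finset.mem_filter, Finset.mem_univ, true_and] at hb
    simp only [Finset.mem_insert, Finset.mem_singleton]
    by_cases hc : a * b = b * a
    · exact comm_three ha.1.1 ha.1.2 hb.1.1 hb.1.2 hc
    exfalso
    have hcl : Subgroup.closure {a, b} ≤ K.Img j := (Subgroup.closure_le _).mpr (by
      rintro y (rfl | rfl)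
      exacts [ha.2, hb.2])
    rcases pair_fact ha.1.1 ha.1.2 hb.1.1 hb.1.2 hc with ⟨u, hu, h7, hu1⟩ | ⟨v, hv, ht⟩
    · exact hu1 (K.Img_seven hj.1.1 hj.2.1 hj.2.2 (hcl hu) h7)
    · exact hno j hj.1 hj.2.1 hj.2.2 a ha.2 v (hcl hv) ht
  have hlow : ∀ a ∈ A, (if Nat.card K.Om = 16 then 2 else 6) ≤ (M.filter fun j => a ∈ K.Img j).card := by
    intro a ha
    simp only [hA, Finset.mem_filter, Finset.mem_univ, true_and] at ha
    obtain ⟨t, ht, rfl, ho⟩ := K.lift_three ha.1 ha.2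
    have hsub : Finset.univ.filter (fun j => j ∈ fixIn K.Om t) ⊆ insert 1 (insert z (M.filter fun j => K.p t ∈ K.Img j)) := by
      intro j hj
      simp only [Finset.mem_filter, Finset.mem_univ, true_and, mem_fixIn] at hj
      simp only [hM, Finset.mem_insert, Finset.mem_filter, Finset.mem_univ, true_and]
      by_cases e1 : j = 1
      · exact Or.inl e1
      by_cases e2 : j = z
      · exact Or.inr (Or.inl e2)
      exact Or.inr (Or.inr ⟨⟨hj.1, e1, e2⟩, t, ht, rfl, hj.2⟩)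
    have h := (Finset.card_le_card hsub).trans
      ((Finset.card_insert_le _ _).trans (Nat.succ_le_succ (Finset.card_insert_le _ _)))
    rw [show (Finset.univ.filter fun j => j ∈ fixIn K.Om t).card = Nat.card (fixIn K.Om t) by
      rw [Nat.card_eq_fintype_card, Fintype.card_subtype]] at h
    rcases K.fix_Om ht ho hbig with ⟨e, h4⟩ | ⟨e, h8⟩ <;> rw [e] <;> norm_num <;> omega
  have hd := Finset.sum_card_bipartiteAbove_eq_sum_card_bipartiteBelow (fun (a : L3) (j : G) => a ∈ K.Img j) (s := A) (t := M)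
  have l := Finset.card_nsmul_le_sum A _ _ hlow
  have u := Finset.sum_le_card_nsmul M _ _ hup
  simp only [Finset.bipartiteAbove, Finset.bipartiteBelow] at hd
  rw [hd] at l
  have h56 : A.card = 56 := card_three
  simp only [smul_eq_mul, h56] at l u
  rcases K.card_inv K.Om_le K.z_Om (fun m hm => K.Om_norm K.xC hm) with h | h | h <;> simp only [h] at l hMcard hbig <;>
    norm_num at l hbig <;> omega

/-- Only the centraliser normalises. -/
theorem normalizer_comm {g : G} (hg : g ∈ normalizer (K.W : Set G)) : Commute g z := by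
  haveI : Fact (Nat.Prime 7) := ⟨by norm_num⟩
  set N := normalizer (K.W : Set G) with hN
  have nW : ∀ {n : G}, n ∈ N → ∀ w ∈ K.W, n * w * n⁻¹ ∈ K.W := fun hn w hw => (mem_normalizer_iff.mp hn w).mp hw
  have CN : ∀ c, Commute c z → c ∈ N := fun c hc => mem_normalizer_iff.mpr fun w => ⟨K.normW hc, fun h => by
    have := K.normW hc.inv_left h
    rwa [inv_inv, show c⁻¹ * (c * w * c⁻¹) * c = w by group] at this⟩
  letI : MulAction N G := MulAction.compHom G ((MulAut.conj (G := G)).comp N.subtype)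
  set O := MulAction.orbit N z
  have hO : ∀ {y : G}, y ∈ O ↔ ∃ n ∈ N, n * z * n⁻¹ = y := fun {y} =>
    ⟨fun ⟨n, h⟩ => ⟨n, n.2, h⟩, fun ⟨n, hn, h⟩ => ⟨⟨n, hn⟩, h⟩⟩
  have hst : (MulAction.stabilizer N z) = (centralizer ({z} : Set G)).subgroupOf N := by
    ext n
    show (n : G) * z * (n : G)⁻¹ = z ↔ (n : G) ∈ centralizer ({z} : Set G)
    rw [mem_centralizer_singleton_iff, mul_inv_eq_iff_eq_mul]
  have hmul : Nat.card O * 21504 = Nat.card N := by
    have e := (MulAction.stabilizer N z).card_eq_card_quotient_mul_card_subgroup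
    rw [← Nat.card_congr (MulAction.orbitEquivQuotientStabilizer N z), hst,
      Nat.card_congr (Subgroup.subgroupOfEquivOfLe (fun c hc => CN c (mem_centralizer_singleton_iff.mp hc) :
        centralizer ({z} : Set G) ≤ N)).toEquiv, K.cardC] at e
    exact e.symm
  have h7 : Nat.card O % 7 = 1 := by
    rw [fixed_modEq (show K.x ^ 7 = 1 from K.hx ▸ pow_orderOf_eq_one K.x) O (fun y hy => by
      obtain ⟨n, hn, rfl⟩ := hO.mp hy
      exact hO.mpr ⟨K.x * n, mul_mem (CN _ K.xC) hn, by group⟩)]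
    have : {m : G | m ∈ O ∧ Commute K.x m} = {z} := by
      ext m
      simp only [Set.mem_setOf_eq, Set.mem_singleton_iff]
      constructor
      · rintro ⟨hm, hc⟩
        obtain ⟨n, hn, rfl⟩ := hO.mp hm
        exact (K.hfix _ (nW hn z K.zW) hc).resolve_left fun e => K.z_ne (conj_eq_one_iff.mp e)
      · rintro rfl; exact ⟨MulAction.mem_orbit_self _, K.xC⟩
    rw [this]; simp
  have hle : Nat.card O ≤ 128 := by
    rw [← K.cardW]
    exact Nat.card_mono (Set.toFinite (K.W : Set G)) fun y hy => by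
      obtain ⟨n, hn, rfl⟩ := hO.mp hy
      exact nW hn z K.zW
  have hdiv : Nat.card O ∣ 11385 := by
    have h := Subgroup.card_subgroup_dvd_card N
    rw [← hmul, K.cardG, show (244823040 : ℕ) = 11385 * 21504 by norm_num] at h
    exact Nat.dvd_of_mul_dvd_mul_right (by norm_num) h
  have noq : ∀ q, q.Prime → q = 5 ∨ q = 11 → ¬ q ∣ Nat.card O := by
    intro q hq hq' hdvd
    haveI := Fact.mk hq
    obtain ⟨f, hf⟩ := exists_prime_orderOf_dvd_card' (G := N) q (hmul ▸ Dvd.dvd.mul_right hdvd _)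
    have hfo : orderOf (f : G) = q := by rw [← hf]; exact orderOf_injective N.subtype N.subtype_injective f
    have h := fixIn_modEq (show (f : G) ^ q = 1 from hfo ▸ pow_orderOf_eq_one (f : G)) K.W (nW f.2)
    rw [K.cardW] at h
    obtain ⟨k, hk, e⟩ : ∃ k ≤ 7, Nat.card (fixIn K.W (f : G)) = 2 ^ k :=
      pow_card_two (K.cardW ▸ Subgroup.card_dvd_of_le inf_le_left)
    rcases hq' with rfl | rfl
    · have h60 : Nat.card (fixIn K.W (f : G)) ∣ Nat.card (centralizer ({(f : G)} : Set G)) := Subgroup.card_dvd_of_le inf_le_right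
      rw [K.hfive _ hfo, e] at h60
      rw [e] at h
      interval_cases k <;> first | omega | simp_all
    · rw [e] at h
      have hk7 : k = 7 := by interval_cases k <;> simp_all
      have hW : fixIn K.W (f : G) = K.W := Subgroup.eq_of_le_of_card_ge inf_le_left (by rw [e, hk7, K.cardW]; norm_num)
      have hc : (f : G) ∈ centralizer ({z} : Set G) :=
        mem_centralizer_singleton_iff.mpr (mem_fixIn.mp (hW.symm ▸ K.zW : z ∈ fixIn K.W (f : G))).2.eq
      have := orderOf_dvd_natCard (⟨_, hc⟩ : centralizer ({z} : Set G))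
      rw [K.cardC, ← orderOf_injective (centralizer ({z} : Set G)).subtype (Subgroup.subtype_injective _)] at this
      change orderOf (f : G) ∣ _ at this
      rw [hfo] at this
      norm_num at this
  have h1 : Nat.card O = 1 := by
    have key : ∀ m < 129, m ∣ 11385 → m % 7 = 1 → m = 1 ∨ 5 ∣ m ∨ 11 ∣ m := by decide +kernel
    rcases key _ (by omega) hdiv h7 with e | e | e
    · exact e
    · exact absurd e (noq 5 (by norm_num) (Or.inl rfl))
    · exact absurd e (noq 11 (by norm_num) (Or.inr rfl))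
  obtain ⟨y, hy⟩ := Set.ncard_eq_one.mp (by rw [← Nat.card_coe_set_eq]; exact h1)
  have a1 : g * z * g⁻¹ ∈ O := hO.mpr ⟨g, hg, rfl⟩
  have a2 : z ∈ O := MulAction.mem_orbit_self z
  rw [hy, Set.mem_singleton_iff] at a1 a2
  exact mul_inv_eq_iff_eq_mul.mp (a1.trans a2.symm)

end Ctx

end Cfsg.Lib.M24Nse
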