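import Cfsg.Agent.Small.DegreeGraph.Orders.Main
import Cfsg.Agent.M24Nse.Degree
import Cfsg.Agent.S0497

/-!
Orders of groups which are not simple, for the recognition of the Mathieu group of degree twenty-four.
-/

set_option autoImplicit false
set_option maxRecDepth 100000

namespace Cfsg.Lib.M24Nse

open Cfsg.Lib.Small

universe u

variable {G : Type u} [Group G] [Finite G] [IsSimpleGroup G]

theorem check_8640 : Sieve.degree 8640 5 = true := by decide +kernel
theorem check_23040 : Sieve.degree 23040 5 = true := by decide +kernel
theorem check_10752 : Sieve.degree 10752 7 = true := by decide +kernel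
theorem check_16128 : Sieve.degree 16128 7 = true := by decide +kernel

/-- the orders below six thousand which may be simple here -/
theorem small_order (hnc : ¬ ∀ a b : G, a * b = b * a) (h : Nat.card G < 6000) :
    Nat.card G ∈ [60, 168, 360, 504, 660, 1092, 2448, 2520, 3420, 4080, 5616] :=
  DegreeGraph.card_mem_of_lt (fun hc => hnc fun a b => hc.1.1 a b) h

theorem false_of_degree (hnc : ¬ ∀ a b : G, a * b = b * a) {n p : ℕ} (hn : Nat.card G = n)
    (h : Sieve.degree n p = true) : False := Sieve.false_of_degree hnc (hn ▸ h)

end Cfsg.Lib.M24Nse
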