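import Cfsg.Agent.M24Nse.Socle
import Cfsg.Agent.Components.BalanceDelta
import Cfsg.Agent.Recognition.MathieuEleven.Basic

/-!
The quotient of a local subgroup by its largest normal subgroup of two-power order.
-/

set_option autoImplicit false
set_option linter.unusedSectionVars false
set_option linter.style.haveILetI false
set_option maxRecDepth 100000

namespace Cfsg.Lib.M24Nse

open Subgroup Cfsg.Lib.SameOrder Cfsg.Lib.MathieuEleven

universe u

variable {D : Type u} [Group D] [Finite D] {p : ℕ} [hp : Fact p.Prime]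

/-- the fixed points of an element of prime order on a subgroup which it normalises -/
theorem card_fixed_mod {x : D} (hx : orderOf x = p) {N : Subgroup D} (hN : ∀ a ∈ N, x * a * x⁻¹ ∈ N) :
    Nat.card ↥N % p = Nat.card ↥(N ⊓ centralizer ({x} : Set D)) % p := by
  have h := ncard_conj_mod (p := p) (x := x) (k := 1) (by rw [pow_one, ← hx, pow_orderOf_eq_one])
    (s := (N : Set D)) hN
  have e1 : (N : Set D).ncard = Nat.card ↥N := (Nat.card_coe_set_eq _).symm
  have e2 : {a ∈ (N : Set D) | x * a = a * x}.ncard = Nat.card ↥(N ⊓ centralizer ({x} : Set D)) := by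
    rw [← Nat.card_coe_set_eq]
    exact Nat.card_congr (Equiv.subtypeEquivRight fun a => by
      simp only [Set.mem_ofPred_eq, SetLike.mem_coe, Subgroup.mem_inf, mem_centralizer_singleton_iff]
      exact ⟨fun h => ⟨h.1, h.2.symm⟩, fun h => ⟨h.1, h.2.symm⟩⟩)
  rw [← e1, ← e2]
  exact h

/-- no normal 3-subgroup -/
theorem no_three (hp57 : p = 5 ∨ p = 7) (hd : Nat.card D ∣ 2 ^ 10 * 3 ^ 3 * p) {x : D} (hx : orderOf x = p)
    (hc : ¬ 3 ∣ Nat.card ↥(centralizer ({x} : Set D))) {N : Subgroup D} (hN : N.Normal) (h3 : IsPGroup 3 ↥N) :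
    N = ⊥ := by
  haveI : Fact (Nat.Prime 3) := ⟨Nat.prime_three⟩
  obtain ⟨n, hn⟩ := IsPGroup.iff_card.1 h3
  have hle : n ≤ 3 := by
    have h1 : 3 ^ n ∣ 2 ^ 10 * 3 ^ 3 * p := hn ▸ (card_subgroup_dvd_card N).trans hd
    by_contra hlt
    have h2 : 3 ^ 4 ∣ 2 ^ 10 * 3 ^ 3 * p := (pow_dvd_pow 3 (by omega : 4 ≤ n)).trans h1
    rcases hp57 with rfl | rfl <;> norm_num at h2
  have h := card_fixed_mod hx fun a ha => hN.conj_mem a ha x
  obtain ⟨m, hm⟩ := IsPGroup.iff_card.1 (h3.to_le (inf_le_left : N ⊓ centralizer ({x} : Set D) ≤ N))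
  have hm0 : m = 0 := by
    by_contra hm0
    exact hc ((dvd_pow_self 3 hm0).trans (hm ▸ card_dvd_of_le inf_le_right))
  rw [hm, hm0, hn] at h
  refine card_eq_one.1 ?_
  rw [hn]
  interval_cases n <;> rcases hp57 with rfl | rfl <;> simp_all

/-- the facts about the quotient by the largest normal subgroup of two-power order -/
structure Local (W : Subgroup D) [W.Normal] (p : ℕ) (x : D) : Prop where
  pgroup : IsPGroup 2 ↥W
  le : ∀ N : Subgroup D, N.Normal → IsPGroup 2 ↥N → N ≤ W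
  mod : Nat.card ↥W % p = Nat.card ↥(W ⊓ centralizer ({x} : Set D)) % p
  no2 : ∀ N : Subgroup (D ⧸ W), N.Normal → IsPGroup 2 ↥N → N = ⊥
  no3 : ∀ N : Subgroup (D ⧸ W), N.Normal → IsPGroup 3 ↥N → N = ⊥
  card : Nat.card (D ⧸ W) * Nat.card ↥W = Nat.card D
  ord : orderOf (QuotientGroup.mk' W x) = p
  norm : Nat.card ↥(normalizer (zpowers (QuotientGroup.mk' W x) : Set (D ⧸ W))) *
      Nat.card ↥(W ⊓ centralizer ({x} : Set D)) = Nat.card ↥(normalizer (zpowers x : Set D))
  cent : Nat.card ↥(centralizer ({QuotientGroup.mk' W x} : Set (D ⧸ W))) *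
      Nat.card ↥(W ⊓ centralizer ({x} : Set D)) = Nat.card ↥(centralizer ({x} : Set D))
  sylow : Nat.card (Sylow p (D ⧸ W)) *
      Nat.card ↥(normalizer (zpowers (QuotientGroup.mk' W x) : Set (D ⧸ W))) = Nat.card (D ⧸ W)
  lift : ∀ g : D, QuotientGroup.mk' W g * QuotientGroup.mk' W x = QuotientGroup.mk' W x * QuotientGroup.mk' W g →
    ∃ c : D, c * x = x * c ∧ QuotientGroup.mk' W c = QuotientGroup.mk' W g

theorem card_map_mul (W : Subgroup D) [W.Normal] (M : Subgroup D) :
    Nat.card ↥(M.map (QuotientGroup.mk' W)) * Nat.card ↥(W ⊓ M) = Nat.card ↥M := by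
  have h := Subgroup.card_eq_card_quotient_mul_card_subgroup ((QuotientGroup.mk' W).comp M.subtype).ker
  rw [Nat.card_congr (QuotientGroup.quotientKerEquivRange ((QuotientGroup.mk' W).comp M.subtype)).toEquiv,
    MonoidHom.range_comp, Subgroup.range_subtype] at h
  rw [h]
  congr 1
  refine Nat.card_congr
    { toFun := fun g => ⟨⟨g.1, (mem_inf.1 g.2).2⟩, ?_⟩
      invFun := fun g => ⟨g.1.1, mem_inf.2 ⟨?_, g.1.2⟩⟩
      left_inv := fun _ => rfl
      right_inv := fun _ => rfl }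
  · show QuotientGroup.mk' W g.1 = 1
    exact (QuotientGroup.eq_one_iff _).2 (mem_inf.1 g.2).1
  · exact (QuotientGroup.eq_one_iff _).1 g.2

theorem exists_local (hp57 : p = 5 ∨ p = 7) (hd : Nat.card D ∣ 2 ^ 10 * 3 ^ 3 * p) {x : D}
    (hx : orderOf x = p) (hc : ¬ 3 ∣ Nat.card ↥(centralizer ({x} : Set D))) :
    ∃ (W : Subgroup D) (_ : W.Normal), Local W p x := by
  classical
  haveI : Fact (Nat.Prime 2) := ⟨Nat.prime_two⟩
  have hsq : ¬ p ^ 2 ∣ Nat.card D := fun h => by
    have h2 := h.trans hd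
    rcases hp57 with rfl | rfl <;> norm_num at h2
  refine ⟨Cfsg.pCore 2 D, inferInstance, ?_⟩
  set W := Cfsg.pCore 2 D
  set f := QuotientGroup.mk' W
  have hW : IsPGroup 2 ↥W := Cfsg.Lib.Components.isPGroup_pCore 2
  have hcop : (Nat.card ↥f.ker).Coprime p := by
    rw [QuotientGroup.ker_mk']
    obtain ⟨k, hk⟩ := IsPGroup.iff_card.1 hW
    rw [hk]
    refine Nat.Coprime.pow_left _ ?_
    rcases hp57 with rfl | rfl <;> norm_num
  have hxp : IsPGroup p ↥(zpowers x) := IsPGroup.of_card (n := 1) (by rw [Nat.card_zpowers, hx, pow_one])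
  have hxW : x ∉ W := fun h => by
    obtain ⟨k, hk⟩ := IsPGroup.iff_orderOf.1 hW ⟨x, h⟩
    rw [Subgroup.orderOf_mk, hx] at hk
    have := (Nat.prime_dvd_prime_iff_eq hp.out Nat.prime_two).1
      (hp.out.dvd_of_dvd_pow (dvd_of_eq hk))
    rcases hp57 with rfl | rfl <;> omega
  have hord : orderOf (f x) = p := by
    refine ((Nat.dvd_prime hp.out).1 (hx ▸ orderOf_map_dvd f x)).resolve_left fun e => hxW ?_
    rwa [orderOf_eq_one_iff, QuotientGroup.mk'_apply, QuotientGroup.eq_one_iff] at e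
  have hcard : Nat.card (D ⧸ W) * Nat.card ↥W = Nat.card D := (card_eq_card_quotient_mul_card_subgroup W).symm
  have hXd : Nat.card (D ⧸ W) ∣ 2 ^ 10 * 3 ^ 3 * p := (Dvd.intro _ hcard).trans hd
  have hnorm := Cfsg.Lib.Components.normalizer_map_of_coprime_ker (p := p) (f := f)
    (QuotientGroup.mk'_surjective W) hcop hxp
  rw [MonoidHom.map_zpowers] at hnorm
  have hcent := Cfsg.Lib.Components.centralizer_map_of_coprime_ker (p := p) (f := f)
    (QuotientGroup.mk'_surjective W) hcop hxp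
  -- the normalizer meets the core inside the centraliser
  have hWN : W ⊓ normalizer (zpowers x : Set D) = W ⊓ centralizer ({x} : Set D) := by
    refine le_antisymm (fun a ha => mem_inf.2 ⟨(mem_inf.1 ha).1, mem_centralizer_singleton_iff.2 ?_⟩)
      (inf_le_inf_left _ fun c hc => MathieuEleven.mem_normalizer_zpowers (by
        rw [mem_centralizer_singleton_iff.1 hc, mul_inv_cancel_right]; exact mem_zpowers x))
    have h1 : a * x * a⁻¹ * x⁻¹ ∈ zpowers x := mul_mem
      ((Subgroup.mem_normalizer_iff.1 (mem_inf.1 ha).2 x).1 (mem_zpowers x)) (inv_mem (mem_zpowers x))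
    have h2 : a * x * a⁻¹ * x⁻¹ ∈ W := by
      rw [show a * x * a⁻¹ * x⁻¹ = a * (x * a⁻¹ * x⁻¹) by group]
      exact mul_mem (mem_inf.1 ha).1 ((inferInstance : W.Normal).conj_mem _ (inv_mem (mem_inf.1 ha).1) x)
    have h3 : a * x * a⁻¹ * x⁻¹ = 1 := by
      have := Cfsg.Lib.Components.coprime_pGroup_disjoint hxp hcop
      rw [← mem_bot, ← this]
      exact mem_inf.2 ⟨h1, by rwa [QuotientGroup.ker_mk']⟩
    calc a * x = a * x * a⁻¹ * x⁻¹ * (x * a) := by group
      _ = x * a := by rw [h3, one_mul]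
  have hno3 : ∀ N : Subgroup (D ⧸ W), N.Normal → IsPGroup 3 ↥N → N = ⊥ := fun N hN h3 =>
    no_three hp57 hXd hord (fun h => hc (h.trans ((Dvd.intro _ (by
      rw [← hcent]; exact card_map_mul W (centralizer ({x} : Set D)))) : _ ∣ _))) hN h3
  refine ⟨hW, fun N hN h2 => ?_, card_fixed_mod hx fun a ha => (inferInstance : W.Normal).conj_mem a ha x,
    fun N hN h2 => ?_, hno3, hcard, hord, ?_, ?_, ?_, fun g hg => ?_⟩
  · haveI := hN
    exact Cfsg.Lib.Components.le_pCore h2
  · have h' : (N.comap f) ≤ W := by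
      haveI : (N.comap f).Normal := hN.comap f
      refine Cfsg.Lib.Components.le_pCore (h2.comap_of_ker_isPGroup f ?_)
      rwa [QuotientGroup.ker_mk']
    refine eq_bot_iff.2 fun z hz => ?_
    obtain ⟨g, rfl⟩ := QuotientGroup.mk'_surjective W z
    rw [mem_bot, QuotientGroup.mk'_apply, QuotientGroup.eq_one_iff]
    exact h' hz
  · rw [← hnorm, ← hWN]
    exact card_map_mul W _
  · rw [← hcent]
    exact card_map_mul W _
  · have hS : ∀ P : Sylow p (D ⧸ W), Nat.card ↥(P : Subgroup (D ⧸ W)) = p := fun P => by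
      obtain ⟨m, hm⟩ : p ∣ Nat.card (D ⧸ W) := hord ▸ orderOf_dvd_natCard _
      have h0 := Cfsg.Lib.Small.card_sylow_of_factor P (a := 1) (m := m) (by rw [hm, pow_one]) fun h => hsq (by
        rw [pow_two]
        exact ((Nat.mul_dvd_mul_left p h).trans (dvd_of_eq hm.symm)).trans (Dvd.intro _ hcard))
      rwa [pow_one] at h0
    obtain ⟨P, hP⟩ := M12Nse.exists_sylow_zpowers hS hord
    rw [← hP, mul_comm]
    exact Cfsg.Lib.Small.card_normalizer_mul P
  · obtain ⟨c, hc', e⟩ : f g ∈ (centralizer ({x} : Set D)).map f := by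
      rw [hcent]
      exact mem_centralizer_singleton_iff.2 hg
    exact ⟨c, mem_centralizer_singleton_iff.1 hc', e⟩

/-- the socle of the quotient -/
theorem Local.exists_socle {W : Subgroup D} [W.Normal] {x : D} (L : Local W p x)
    (hp57 : p = 5 ∨ p = 7) (hd : Nat.card D ∣ 2 ^ 10 * 3 ^ 3 * p) (hn : Nat.card (Sylow p (D ⧸ W)) ≠ 1) :
    ∃ S : Subgroup (D ⧸ W), S.Normal ∧ IsSimpleGroup ↥S ∧ (¬ ∀ a b : ↥S, a * b = b * a) ∧
      (∀ z : D ⧸ W, orderOf z = p → z ∈ S) ∧ centralizer (S : Set (D ⧸ W)) = ⊥ ∧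
      Nat.card (Sylow p ↥S) = Nat.card (Sylow p (D ⧸ W)) ∧ p ∣ Nat.card ↥S := by
  refine M24Nse.exists_socle (a := 10) (b := 3) ((Dvd.intro _ L.card).trans hd) (L.ord ▸ orderOf_dvd_natCard _)
    (fun h => ?_) hn L.no2 L.no3
  have h2 := h.trans ((Dvd.intro _ L.card).trans hd)
  rcases hp57 with rfl | rfl <;> norm_num at h2

/-- a nontrivial normal subgroup contains the socle -/
theorem socle_le {X : Type u} [Group X] {S N : Subgroup X} (hS : S.Normal) (hsimple : IsSimpleGroup ↥S)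
    (hcen : centralizer (S : Set X) = ⊥) (hN : N.Normal) (hne : N ≠ ⊥) : S ≤ N := by
  haveI := hS
  haveI := hN
  have hn : (N.subgroupOf S).Normal := hN.comap S.subtype
  rcases hn.eq_bot_or_eq_top with e | e
  · exfalso
    rw [subgroupOf_eq_bot] at e
    refine hne (le_bot_iff.1 (hcen ▸ fun a ha => mem_centralizer_iff.2 fun b hb => ?_))
    exact (commute_of_normal_of_disjoint N S hN hS e a b ha hb).eq.symm
  · exact subgroupOf_eq_top.1 e

end Cfsg.Lib.M24Nse
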