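import Cfsg.Agent.M24Nse.Local
import Cfsg.Agent.M24Nse.Classes
import Cfsg.Agent.M24Nse.Kills

/-!
The local quotients at the two classes of involutions.
-/

set_option autoImplicit false
set_option linter.unusedSectionVars false
set_option linter.style.haveILetI false
set_option maxRecDepth 100000

namespace Cfsg.Lib.M24Nse

open Subgroup Cfsg.Lib.SameOrder

universe u

variable {G : Type u} [Group G] [Finite G]

local instance fact_five_mflb : Fact (Nat.Prime 5) := ⟨Nat.prime_five⟩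
local instance fact_seven_mflb : Fact (Nat.Prime 7) := ⟨by norm_num⟩

theorem card_cent_sub (D : Subgroup G) {x : G} (hx : x ∈ D) :
    Nat.card ↥(centralizer ({(⟨x, hx⟩ : ↥D)} : Set ↥D)) = Nat.card ↥(D ⊓ centralizer ({x} : Set G)) :=
  Nat.card_congr
    { toFun := fun g => ⟨g.1.1, mem_inf.2 ⟨g.1.2, mem_centralizer_singleton_iff.2
        (congrArg Subtype.val (mem_centralizer_singleton_iff.1 g.2))⟩⟩
      invFun := fun g => ⟨⟨g.1, (mem_inf.1 g.2).1⟩, mem_centralizer_singleton_iff.2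
        (Subtype.ext (mem_centralizer_singleton_iff.1 (mem_inf.1 g.2).2))⟩
      left_inv := fun _ => rfl
      right_inv := fun _ => rfl }

theorem card_norm_sub (D : Subgroup G) {x : G} (hx : x ∈ D) :
    Nat.card ↥(normalizer (zpowers (⟨x, hx⟩ : ↥D) : Set ↥D)) = Nat.card ↥(D ⊓ normalizer (zpowers x : Set G)) := by
  have hmem : ∀ g : ↥D, g ∈ normalizer (zpowers (⟨x, hx⟩ : ↥D) : Set ↥D) ↔
      (g : G) ∈ normalizer (zpowers x : Set G) := by
    intro g
    constructor
    · intro hg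
      refine MathieuEleven.mem_normalizer_zpowers ?_
      obtain ⟨k, hk⟩ := mem_zpowers_iff.1 ((Subgroup.mem_normalizer_iff.1 hg _).1 (mem_zpowers _))
      exact ⟨k, by simpa using congrArg Subtype.val hk⟩
    · intro hg
      refine MathieuEleven.mem_normalizer_zpowers ?_
      obtain ⟨k, hk⟩ := mem_zpowers_iff.1 ((Subgroup.mem_normalizer_iff.1 hg _).1 (mem_zpowers _))
      exact ⟨k, Subtype.ext (by simpa using hk)⟩
  exact Nat.card_congr
    { toFun := fun g => ⟨g.1.1, mem_inf.2 ⟨g.1.2, (hmem g.1).1 g.2⟩⟩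
      invFun := fun g => ⟨⟨g.1, (mem_inf.1 g.2).1⟩, (hmem ⟨g.1, _⟩).2 (mem_inf.1 g.2).2⟩
      left_inv := fun _ => rfl
      right_inv := fun _ => rfl }

/-- A central involution lies in the core. -/
theorem invol_mem {D : Type u} [Group D] [Finite D] {W : Subgroup D} [W.Normal] {p : ℕ} {x : D}
    (L : Local W p x) {a : D} (ha : orderOf a = 2) (hc : ∀ g : D, a * g = g * a) : a ∈ W := by
  have hn : (zpowers a).Normal := ⟨fun b hb g => by
    obtain ⟨k, rfl⟩ := mem_zpowers_iff.1 hb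
    have : Commute g (a ^ k) := ((show Commute a g from hc g).zpow_left k).symm
    rw [this.eq, mul_inv_cancel_right]
    exact hb⟩
  exact L.le _ hn (IsPGroup.of_card (n := 1) (by rw [Nat.card_zpowers, ha, pow_one])) (mem_zpowers a)

theorem self_mem_centralizer (u : G) : u ∈ centralizer ({u} : Set G) := mem_centralizer_singleton_iff.2 rfl

theorem central_self (u : G) (g : ↥(centralizer ({u} : Set G))) :
    (⟨u, self_mem_centralizer u⟩ : ↥(centralizer ({u} : Set G))) * g = g * ⟨u, self_mem_centralizer u⟩ :=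
  Subtype.ext (mem_centralizer_singleton_iff.1 g.2).symm

/-- A simple group of small order. -/
theorem false_small {S : Type u} [Group S] [Finite S] (hs : IsSimpleGroup S) (hnc : ¬ ∀ a b : S, a * b = b * a)
    {n : ℕ} (hn : Nat.card S = n) (h6 : n < 6000)
    (hl : n ∉ [60, 168, 360, 504, 660, 1092, 2448, 2520, 3420, 4080, 5616]) : False :=
  hl (hn ▸ small_order hnc (hn ▸ h6))

/-- The order of the socle. -/
theorem socle_card {X : Type u} [Group X] [Finite X] {p N n : ℕ} [Fact p.Prime] {S : Subgroup X}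
    (hn : Nat.card (Sylow p ↥S) = n) (hp : p ∣ Nat.card ↥S) (hX : Nat.card X = n * N) (hcop : ¬ p ∣ n)
    (hn0 : 0 < n) : ∃ m, Nat.card ↥S = n * m ∧ p ∣ m ∧ m ∣ N := by
  obtain ⟨P⟩ : Nonempty (Sylow p ↥S) := inferInstance
  obtain ⟨m, hm⟩ : n ∣ Nat.card ↥S := by
    rw [← hn, P.card_eq_index_normalizer]
    exact Subgroup.index_dvd_card _
  refine ⟨m, hm, ((Nat.Prime.dvd_mul Fact.out).1 (hm ▸ hp)).resolve_left hcop, ?_⟩
  refine Nat.dvd_of_mul_dvd_mul_left hn0 ?_
  rw [← hm, ← hX]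
  exact card_subgroup_dvd_card S

variable (H : Counts G)
include H

/-- the local quotient at an involution commuting with an element of order seven -/
theorem setup_seven {x u : G} (hx : orderOf x = 7) (hu : orderOf u = 2) (hux : u * x = x * u)
    {x' : ↥(centralizer ({u} : Set G))} (hx' : (x' : G) = x) :
    ∃ (W : Subgroup ↥(centralizer ({u} : Set G))) (_ : W.Normal), Local W 7 x' ∧
      ⟨u, self_mem_centralizer u⟩ ∈ W ∧
      Nat.card ↥(W ⊓ centralizer ({x'} : Set ↥(centralizer ({u} : Set G)))) = 2 ∧ Nat.card ↥W % 7 = 2 ∧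
      orderOf x' = 7 ∧
      Nat.card ↥(centralizer ({x'} : Set ↥(centralizer ({u} : Set G)))) = 14 ∧
      Nat.card ↥(normalizer (zpowers (QuotientGroup.mk' W x') :
        Set (↥(centralizer ({u} : Set G)) ⧸ W))) = 21 := by
  obtain ⟨xv, hxm⟩ := x'
  subst hx'
  set D := centralizer ({u} : Set G)
  have ho : orderOf (⟨xv, hxm⟩ : ↥D) = 7 := by rw [Subgroup.orderOf_mk]; exact hx
  have hcd : Nat.card ↥(centralizer ({(⟨xv, hxm⟩ : ↥D)} : Set ↥D)) = 14 := by
    rw [card_cent_sub]; exact (seven_u H hx hu hux).1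
  have hnd : Nat.card ↥(normalizer (zpowers (⟨xv, hxm⟩ : ↥D) : Set ↥D)) = 42 := by
    rw [card_norm_sub]; exact (seven_u H hx hu hux).2
  have hd : Nat.card ↥D ∣ 2 ^ 10 * 3 ^ 3 * 7 := by
    rw [show 2 ^ 10 * 3 ^ 3 * 7 = 193536 from rfl]
    exact cent_seven_dvd H hx hu hux
  obtain ⟨W, hW, L⟩ := exists_local (Or.inr rfl) hd ho (by rw [hcd]; norm_num)
  have huW := invol_mem L (a := ⟨u, self_mem_centralizer u⟩) (by rw [Subgroup.orderOf_mk]; exact hu) (central_self u)
  have he : Nat.card ↥(W ⊓ centralizer ({(⟨xv, hxm⟩ : ↥D)} : Set ↥D)) = 2 := by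
    obtain ⟨k, hk⟩ := IsPGroup.iff_card.1 (L.pgroup.to_le (inf_le_left :
      W ⊓ centralizer ({(⟨xv, hxm⟩ : ↥D)} : Set ↥D) ≤ W))
    have h1 : 2 ^ k ∣ 14 := hk ▸ hcd ▸ card_dvd_of_le inf_le_right
    have h2 : k ≠ 0 := fun e => by
      rw [e, pow_zero, card_eq_one] at hk
      have hmem : (⟨u, self_mem_centralizer u⟩ : ↥D) ∈ W ⊓ centralizer ({(⟨xv, hxm⟩ : ↥D)} : Set ↥D) :=
        mem_inf.2 ⟨huW, mem_centralizer_singleton_iff.2 (Subtype.ext hux)⟩
      rw [hk, mem_bot] at hmem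
      exact (show u ≠ 1 from fun e => by rw [e, orderOf_one] at hu; norm_num at hu) (congrArg Subtype.val hmem)
    have : k ≤ 1 := by
      by_contra hlt
      have := (pow_dvd_pow 2 (by omega : 2 ≤ k)).trans h1
      norm_num at this
    rw [hk, show k = 1 by omega, pow_one]
  refine ⟨W, hW, L, huW, he, by rw [L.mod, he], ho, hcd, ?_⟩
  have h := L.norm
  rw [he, hnd] at h
  exact Nat.eq_of_mul_eq_mul_right (show 0 < 2 by norm_num) h

/-- the local quotient at an involution commuting with an element of order five -/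
theorem setup_five {y v : G} (hy : orderOf y = 5) (hv : orderOf v = 2) (hvy : v * y = y * v)
    {y' : ↥(centralizer ({v} : Set G))} (hy' : (y' : G) = y) :
    ∃ (W : Subgroup ↥(centralizer ({v} : Set G))) (_ : W.Normal), Local W 5 y' ∧
      ⟨v, self_mem_centralizer v⟩ ∈ W ∧
      orderOf y' = 5 ∧ Nat.card ↥(centralizer ({y'} : Set ↥(centralizer ({v} : Set G)))) = 20 ∧
      ((Nat.card ↥(W ⊓ centralizer ({y'} : Set ↥(centralizer ({v} : Set G)))) = 2 ∧ Nat.card ↥W % 5 = 2 ∧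
          Nat.card ↥(normalizer (zpowers (QuotientGroup.mk' W y') :
            Set (↥(centralizer ({v} : Set G)) ⧸ W))) = 40) ∨
        (Nat.card ↥(W ⊓ centralizer ({y'} : Set ↥(centralizer ({v} : Set G)))) = 4 ∧ Nat.card ↥W % 5 = 4 ∧
          Nat.card ↥(normalizer (zpowers (QuotientGroup.mk' W y') :
            Set (↥(centralizer ({v} : Set G)) ⧸ W))) = 20)) := by
  obtain ⟨yv, hym⟩ := y'
  subst hy'
  set D := centralizer ({v} : Set G)
  have ho : orderOf (⟨yv, hym⟩ : ↥D) = 5 := by rw [Subgroup.orderOf_mk]; exact hy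
  have hcd : Nat.card ↥(centralizer ({(⟨yv, hym⟩ : ↥D)} : Set ↥D)) = 20 := by
    rw [card_cent_sub]; exact (five_v H hy hv hvy).1
  have hnd : Nat.card ↥(normalizer (zpowers (⟨yv, hym⟩ : ↥D) : Set ↥D)) = 80 := by
    rw [card_norm_sub]; exact (five_v H hy hv hvy).2
  have hd : Nat.card ↥D ∣ 2 ^ 10 * 3 ^ 3 * 5 := by
    rw [show 2 ^ 10 * 3 ^ 3 * 5 = 138240 from rfl]
    exact cent_five_dvd H hy hv hvy
  obtain ⟨W, hW, L⟩ := exists_local (Or.inl rfl) hd ho (by rw [hcd]; norm_num)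
  have hvW := invol_mem L (a := ⟨v, self_mem_centralizer v⟩) (by rw [Subgroup.orderOf_mk]; exact hv) (central_self v)
  refine ⟨W, hW, L, hvW, ho, hcd, ?_⟩
  obtain ⟨k, hk⟩ := IsPGroup.iff_card.1 (L.pgroup.to_le (inf_le_left :
    W ⊓ centralizer ({(⟨yv, hym⟩ : ↥D)} : Set ↥D) ≤ W))
  have h1 : 2 ^ k ∣ 20 := hk ▸ hcd ▸ card_dvd_of_le inf_le_right
  have h2 : k ≠ 0 := fun e => by
    rw [e, pow_zero, card_eq_one] at hk
    have hmem : (⟨v, self_mem_centralizer v⟩ : ↥D) ∈ W ⊓ centralizer ({(⟨yv, hym⟩ : ↥D)} : Set ↥D) :=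
      mem_inf.2 ⟨hvW, mem_centralizer_singleton_iff.2 (Subtype.ext hvy)⟩
    rw [hk, mem_bot] at hmem
    exact (show v ≠ 1 from fun e => by rw [e, orderOf_one] at hv; norm_num at hv) (congrArg Subtype.val hmem)
  have : k ≤ 2 := by
    by_contra hlt
    have := (pow_dvd_pow 2 (by omega : 3 ≤ k)).trans h1
    norm_num at this
  have h := L.norm
  have hm := L.mod
  rw [hk, hnd] at h
  rw [hk] at hm
  rcases (show k = 1 ∨ k = 2 by omega) with rfl | rfl
  · exact Or.inl ⟨by rw [hk, pow_one], by rw [hm]; norm_num,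
      Nat.eq_of_mul_eq_mul_right (show 0 < 2 ^ 1 by norm_num) h⟩
  · exact Or.inr ⟨by rw [hk]; norm_num, by rw [hm]; norm_num,
      Nat.eq_of_mul_eq_mul_right (show 0 < 2 ^ 2 by norm_num) h⟩

end Cfsg.Lib.M24Nse
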