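import Cfsg.Agent.M24Nse.ThreeQuot
import Cfsg.Agent.M24Nse.BetaKill

/-!
The case of a large core at the first involution class contradicts the number of elements of order six.
-/

set_option autoImplicit false
set_option linter.unusedSectionVars false
set_option linter.style.haveILetI false
set_option maxRecDepth 100000

namespace Cfsg.Lib.M24Nse

open Subgroup Cfsg.Lib.SameOrder Cfsg.Lib.Small

universe u

local instance fact_two_mftk : Fact (Nat.Prime 2) := ⟨Nat.prime_two⟩
local instance fact_three_mftk : Fact (Nat.Prime 3) := ⟨Nat.prime_three⟩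
local instance fact_five_mftk : Fact (Nat.Prime 5) := ⟨Nat.prime_five⟩
local instance fact_seven_mftk : Fact (Nat.Prime 7) := ⟨by norm_num⟩
local instance fact_eleven_mftk : Fact (Nat.Prime 11) := ⟨by norm_num⟩
local instance fact_23_mftk : Fact (Nat.Prime 23) := ⟨by norm_num⟩

variable {G : Type u} [Group G] [Finite G]

/-- Conjugation of a pair of centralisers. -/
theorem card_pair_conj (g a b : G) :
    Nat.card ↥(centralizer ({g * a * g⁻¹} : Set G) ⊓ centralizer ({g * b * g⁻¹} : Set G)) =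
      Nat.card ↥(centralizer ({a} : Set G) ⊓ centralizer ({b} : Set G)) := by
  rw [card_centralizer_inf, card_centralizer_inf]
  refine (Nat.card_congr ((MulAut.conj g).toEquiv.subtypeEquiv fun c => ?_)).symm
  simp only [MulEquiv.toEquiv_eq_coe, MulEquiv.coe_toEquiv, MulAut.conj_apply, comm_conj_iff]

variable (H : Counts G)
include H

/-- Elements of order three commuting with elements of order seven form one class. -/
theorem seven_three_conj {x t x' t' : G} (hx : orderOf x = 7) (ht : orderOf t = 3) (htx : t * x = x * t)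
    (hx' : orderOf x' = 7) (ht' : orderOf t' = 3) (htx' : t' * x' = x' * t') : IsConj t t' := by
  classical
  obtain ⟨g, hg⟩ := exists_conj_zpowers (card_sylow_seven H) hx' hx
  suffices h : ∀ b : G, orderOf b = 3 → b * x = x * b → IsConj t b from
    (h _ ((MulEquiv.orderOf_eq (MulAut.conj g) t').trans ht') ((hg _).1 (conj_comm g htx'))).trans
      (isConj_iff.2 ⟨g, rfl⟩ : IsConj t' (g * t' * g⁻¹)).symm
  intro b hb hbx
  by_cases hbt : b = t
  · rw [hbt]
  obtain ⟨⟨a, ha, hax⟩⟩ : Nonempty {b : G // orderOf b = 2 ∧ b * x = x * b} := by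
    refine (Nat.card_ne_zero.1 ?_).1
    have := (ncom_seven H hx).1
    rw [ncom] at this
    omega
  have h1o : orderOf (a * t * a⁻¹) = 3 := (MulEquiv.orderOf_eq (MulAut.conj a) t).trans ht
  have h1x : a * t * a⁻¹ * x = x * (a * t * a⁻¹) :=
    (((show Commute a x from hax).mul_left htx).mul_left (show Commute a x from hax).inv_left).eq
  have hne : a * t * a⁻¹ ≠ t := fun e => by
    have hcom : Commute a t := mul_inv_eq_iff_eq_mul.1 e
    refine order_comm H (a := a * t) (x := x)
      ((show Commute a x from hax).mul_left htx).eq (m := 6) ?_ hx (by norm_num)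
    rw [hcom.orderOf_mul_eq_mul_orderOf_of_coprime (by rw [ha, ht]; norm_num), ha, ht]
  refine isConj_iff.2 ⟨a, ?_⟩
  have h2 : ({c | orderOf c = 3 ∧ c * x = x * c} : Set G).ncard = 2 := by
    rw [← Nat.card_coe_set_eq]; exact (ncom_seven H hx).2
  by_contra hab
  have h3 : ({t, a * t * a⁻¹, b} : Set G).ncard = 3 :=
    Set.ncard_eq_three.2 ⟨t, a * t * a⁻¹, b, hne.symm, Ne.symm hbt, hab, rfl⟩
  have h4 : ({t, a * t * a⁻¹, b} : Set G).ncard ≤ 2 := by
    rw [← h2]
    refine Set.ncard_le_ncard ?_ (Set.toFinite _)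
    rintro c (rfl | rfl | rfl)
    · exact ⟨ht, htx⟩
    · exact ⟨h1o, h1x⟩
    · exact ⟨hb, hbx⟩
  omega

/-- the centraliser of an element of order three of order 504 contains 21 involutions -/
theorem seven_lower (hno : ∀ z : G, orderOf z = 2 → ¬ 9 ∣ Nat.card ↥(centralizer ({z} : Set G)))
    {t : G} (ht : orderOf t = 3) (hC : Nat.card ↥(centralizer ({t} : Set G)) = 504) : 21 ≤ ncom t 2 := by
  obtain ⟨⟨x, hxm⟩, hxo⟩ := exists_prime_orderOf_dvd_card' (G := ↥(centralizer ({t} : Set G))) 7 (by rw [hC]; norm_num)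
  have hx : orderOf x = 7 := by rwa [Subgroup.orderOf_mk] at hxo
  have htx : t * x = x * t := (mem_centralizer_singleton_iff.1 hxm).symm
  have hZle : zpowers (⟨t, self_mem_centralizer t⟩ : ↥(centralizer ({t} : Set G))) ≤ center _ :=
    zpowers_le.2 (mem_center_iff.2 fun g => (central_self t g).symm)
  haveI : (zpowers (⟨t, self_mem_centralizer t⟩ : ↥(centralizer ({t} : Set G)))).Normal :=
    ⟨fun a ha g => by rw [mem_center_iff.1 (hZle ha) g, mul_inv_cancel_right]; exact ha⟩
  have hN : Nat.card ↥(normalizer (zpowers (⟨x, hxm⟩ : ↥(centralizer ({t} : Set G))) :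
      Set ↥(centralizer ({t} : Set G)))) ≤ 126 := by
    rw [card_norm_sub]
    exact (Nat.le_of_dvd Nat.card_pos (card_dvd_of_le inf_le_right)).trans (card_norm_seven H hx).le
  have hC21 : Nat.card ↥(centralizer ({(⟨x, hxm⟩ : ↥(centralizer ({t} : Set G)))} :
      Set ↥(centralizer ({t} : Set G)))) = 21 := by
    rw [card_cent_sub]
    have hd : Nat.card ↥(centralizer ({t} : Set G) ⊓ centralizer ({x} : Set G)) ∣ 42 :=
      (card_dvd_of_le inf_le_right).trans (dvd_of_eq (card_cent_seven H hx))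
    have h3 : 3 ∣ Nat.card ↥(centralizer ({t} : Set G) ⊓ centralizer ({x} : Set G)) :=
      ht ▸ Subgroup.orderOf_dvd_natCard _ (mem_inf.2 ⟨self_mem_centralizer t, mem_centralizer_singleton_iff.2 htx⟩)
    have h7 : 7 ∣ Nat.card ↥(centralizer ({t} : Set G) ⊓ centralizer ({x} : Set G)) :=
      hx ▸ Subgroup.orderOf_dvd_natCard _ (mem_inf.2 ⟨hxm, self_mem_centralizer x⟩)
    have hodd : ¬ 2 ∣ Nat.card ↥(centralizer ({t} : Set G) ⊓ centralizer ({x} : Set G)) := fun h => by
      obtain ⟨⟨a, ha⟩, hao⟩ := exists_prime_orderOf_dvd_card' 2 h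
      rw [Subgroup.orderOf_mk] at hao
      obtain ⟨ha1, ha2⟩ := mem_inf.1 ha
      refine order_comm H (a := a * t) (x := x)
        ((show Commute a x from mem_centralizer_singleton_iff.1 ha2).mul_left (show Commute t x from htx)).eq
        (m := 6) ?_ hx (by norm_num)
      rw [(show Commute a t from mem_centralizer_singleton_iff.1 ha1).orderOf_mul_eq_mul_orderOf_of_coprime
        (by rw [hao, ht]; norm_num), hao, ht]
    have hall : ∀ d ∈ Nat.divisors 42, 3 ∣ d → 7 ∣ d → ¬ 2 ∣ d → d = 21 := by decide +kernel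
    exact hall _ (Nat.mem_divisors.2 ⟨hd, by norm_num⟩) h3 h7 hodd
  rw [← cnt_cent]
  refine seven_invols (zpowers (⟨t, self_mem_centralizer t⟩ : ↥(centralizer ({t} : Set G))))
    (by rw [Nat.card_zpowers, Subgroup.orderOf_mk, ht]) hZle hC (fun z hz h => hno z.1 ?_ (h.trans ?_))
    (x := ⟨x, hxm⟩) hxo hC21 hN
  · rwa [Subgroup.orderOf_coe]
  · rw [card_cent_sub]
    exact card_dvd_of_le inf_le_right

/-- the centraliser of an element of order three of order 2160 contains more than 45 involutions -/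
theorem five_lower (hno : ∀ z : G, orderOf z = 2 → ¬ 9 ∣ Nat.card ↥(centralizer ({z} : Set G)))
    {t : G} (ht : orderOf t = 3) (hC : Nat.card ↥(centralizer ({t} : Set G)) = 2160) : 45 < ncom t 2 := by
  obtain ⟨⟨y, hym⟩, hyo⟩ := exists_prime_orderOf_dvd_card' (G := ↥(centralizer ({t} : Set G))) 5 (by rw [hC]; norm_num)
  have hy : orderOf y = 5 := by rwa [Subgroup.orderOf_mk] at hyo
  have hty : t * y = y * t := (mem_centralizer_singleton_iff.1 hym).symm
  have hZle : zpowers (⟨t, self_mem_centralizer t⟩ : ↥(centralizer ({t} : Set G))) ≤ center _ :=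
    zpowers_le.2 (mem_center_iff.2 fun g => (central_self t g).symm)
  haveI : (zpowers (⟨t, self_mem_centralizer t⟩ : ↥(centralizer ({t} : Set G)))).Normal :=
    ⟨fun a ha g => by rw [mem_center_iff.1 (hZle ha) g, mul_inv_cancel_right]; exact ha⟩
  rw [← cnt_cent]
  refine five_invols (zpowers (⟨t, self_mem_centralizer t⟩ : ↥(centralizer ({t} : Set G))))
    (by rw [Nat.card_zpowers, Subgroup.orderOf_mk, ht]) hZle hC (fun z hz h => hno z.1 ?_ (h.trans ?_))
    (fun g => ?_) (y := ⟨y, hym⟩) hyo ?_ ?_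
  · rwa [Subgroup.orderOf_coe]
  · rw [card_cent_sub]
    exact card_dvd_of_le inf_le_right
  · rw [← Subgroup.orderOf_coe]
    exact ⟨fun h => order_comm H (mem_centralizer_singleton_iff.1 g.2) h ht (by norm_num),
      fun h => order_comm H (mem_centralizer_singleton_iff.1 g.2) h ht (by norm_num)⟩
  · rw [card_cent_sub]
    exact cent_five_three H hy ht hty
  · rw [card_norm_sub]
    exact norm_cent_three H hy ht hty

/-- The elements of order three cannot all have small centralisers. -/
theorem false_core (h32 : ∀ t : G, orderOf t = 3 → ¬ 32 ∣ Nat.card ↥(centralizer ({t} : Set G)))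
    (hno : ∀ z : G, orderOf z = 2 → ¬ 9 ∣ Nat.card ↥(centralizer ({z} : Set G)))
    {t₁ : G} (ht₁ : orderOf t₁ = 3) (h16 : 16 ∣ Nat.card ↥(centralizer ({t₁} : Set G))) : False := by
  classical
  have := Fintype.ofFinite G
  obtain ⟨x, hx⟩ := exists_order H (n := 7)
  obtain ⟨⟨t₇, ht₇, htx⟩⟩ : Nonempty {b : G // orderOf b = 3 ∧ b * x = x * b} := by
    refine (Nat.card_ne_zero.1 ?_).1
    have := (ncom_seven H hx).2
    rw [ncom] at this
    omega
  obtain ⟨n, hn, hn7, hnd⟩ := seven_three_shape H hx ht₇ htx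
  -- possible orders of centralisers
  have hdvd : ∀ t : G, orderOf t = 3 → Nat.card ↥(centralizer ({t} : Set G)) ∣ 15120 := by
    intro t ht
    set C := Nat.card ↥(centralizer ({t} : Set G))
    have hq : ∀ q : ℕ, q = 11 ∨ q = 23 → ¬ q ∣ C := by
      intro q hq hd
      have : Fact q.Prime := ⟨by rcases hq with rfl | rfl <;> norm_num⟩
      obtain ⟨⟨w, hw⟩, hwo⟩ := exists_prime_orderOf_dvd_card' q hd
      rw [Subgroup.orderOf_mk] at hwo
      rcases hq with rfl | rfl
      · exact order_comm H (mem_centralizer_singleton_iff.1 hw) hwo ht (by norm_num)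
      · exact order_comm H (mem_centralizer_singleton_iff.1 hw) hwo ht (by norm_num)
    have h1 : C ∣ 967680 * 253 := (card_subgroup_dvd_card _).trans (dvd_of_eq (by rw [H.card]))
    have h2 : C ∣ 1024 * 945 := Nat.Coprime.dvd_of_dvd_mul_right (by
      rw [show 253 = 11 * 23 from rfl]
      exact Nat.Coprime.mul_right ((Nat.Prime.coprime_iff_not_dvd (by norm_num)).2 (hq 11 (Or.inl rfl))).symm
        ((Nat.Prime.coprime_iff_not_dvd (by norm_num)).2 (hq 23 (Or.inr rfl))).symm) h1
    obtain ⟨a, b, ha, hb, hab⟩ := Nat.dvd_mul.1 h2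
    obtain ⟨i, hi, rfl⟩ := (Nat.dvd_prime_pow Nat.prime_two).1 (show a ∣ 2 ^ 10 by norm_num; exact ha)
    have hi4 : i ≤ 4 := by
      by_contra hlt
      exact h32 t ht ((pow_dvd_pow 2 (by omega : 5 ≤ i)).trans (Dvd.intro _ hab))
    rw [← hab, show 15120 = 2 ^ 4 * 945 from rfl]
    exact Nat.mul_dvd_mul (pow_dvd_pow 2 hi4) hb
  have hn240 : n ∣ 240 := Nat.dvd_of_mul_dvd_mul_left (show 0 < 63 by norm_num) (hn ▸ hdvd t₇ ht₇)
  -- the three sorts
  let K := Finset.univ.filter fun t : G => orderOf t = 3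
  let c : G → ℕ := fun t => Nat.card ↥(centralizer ({t} : Set G))
  let P7 := K.filter fun t => 7 ∣ c t
  let P5 := (K.filter fun t => ¬ 7 ∣ c t).filter fun t => 5 ∣ c t
  let P0 := (K.filter fun t => ¬ 7 ∣ c t).filter fun t => ¬ 5 ∣ c t
  have hK : K.card = 712448 := by
    rw [← cnt_val H (n := 3) (v := 712448), cnt, Nat.card_eq_fintype_card, Fintype.card_subtype]
  have hsum : P7.card + (P5.card + P0.card) = 712448 := by
    rw [← hK, Finset.card_filter_add_card_filter_not, Finset.card_filter_add_card_filter_not]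
  have h7conj : ∀ t : G, t ∈ P7 ↔ IsConj t₇ t := by
    intro t
    constructor
    · intro h
      obtain ⟨hK', h7⟩ := Finset.mem_filter.1 h
      obtain ⟨⟨w, hw⟩, hwo⟩ := exists_prime_orderOf_dvd_card' (G := ↥(centralizer ({t} : Set G))) 7 h7
      rw [Subgroup.orderOf_mk] at hwo
      exact seven_three_conj H hx ht₇ htx hwo (Finset.mem_filter.1 hK').2 (mem_centralizer_singleton_iff.1 hw).symm
    · intro h
      refine Finset.mem_filter.2 ⟨Finset.mem_filter.2 ⟨Finset.mem_univ _, (M12Nse.conj_orderOf h).trans ht₇⟩, ?_⟩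
      show 7 ∣ Nat.card _
      rw [M12Nse.conj_card_centralizer h, hn]
      omega
  have hP7 : P7.card * (63 * n) = 244823040 := by
    rw [← hn, ← H.card, ← M12Nse.card_isConj_mul t₇,
      Nat.card_eq_fintype_card (α := {a : G // IsConj t₇ a}), Fintype.card_subtype]
    congr 2
    ext t
    rw [h7conj t]
    simp
  -- unions of classes
  have hclass : ∀ (P : Finset G), (∀ t ∈ P, ∀ s, IsConj t s → s ∈ P) → ∀ d : ℕ,
      (∀ t ∈ P, d ∣ Nat.card {a : G // IsConj t a}) → d ∣ P.card := by
    intro P hP d hd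
    rw [Finset.card_eq_sum_card_fiberwise (f := ConjClasses.mk) (t := Finset.univ) fun _ _ => Finset.mem_univ _]
    refine Finset.dvd_sum fun k _ => ?_
    obtain ⟨s, rfl⟩ := ConjClasses.exists_rep k
    by_cases hs : s ∈ P
    · refine (hd s hs).trans (dvd_of_eq ?_)
      rw [Nat.card_eq_fintype_card, Fintype.card_subtype]
      congr 1
      ext a
      simp only [Finset.mem_filter, Finset.mem_univ, true_and, ConjClasses.mk_eq_mk_iff_isConj]
      exact ⟨fun h => ⟨hP s hs a h, h.symm⟩, fun h => h.2.symm⟩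
    · rw [Finset.filter_eq_empty_iff.2 fun a ha ha' => hs (hP a ha s (ConjClasses.mk_eq_mk_iff_isConj.1 ha')),
        Finset.card_empty]
      exact dvd_zero _
  have hmem5 : ∀ t : G, t ∈ P5 ↔ orderOf t = 3 ∧ ¬ 7 ∣ c t ∧ 5 ∣ c t := fun t => by
    simp only [P5, K, Finset.mem_filter, Finset.mem_univ, true_and, and_assoc]
  have hmem0 : ∀ t : G, t ∈ P0 ↔ orderOf t = 3 ∧ ¬ 7 ∣ c t ∧ ¬ 5 ∣ c t := fun t => by
    simp only [P0, K, Finset.mem_filter, Finset.mem_univ, true_and, and_assoc]
  have hP0 : 566720 ∣ P0.card := by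
    refine hclass P0 (fun t ht s hs => ?_) _ fun t ht => ?_
    · obtain ⟨h1, h2, h3⟩ := (hmem0 t).1 ht
      refine (hmem0 s).2 ⟨(M12Nse.conj_orderOf hs).trans h1, ?_, ?_⟩
      · show ¬ 7 ∣ Nat.card _
        rw [M12Nse.conj_card_centralizer hs]; exact h2
      · show ¬ 5 ∣ Nat.card _
        rw [M12Nse.conj_card_centralizer hs]; exact h3
    · obtain ⟨h1, h2, h3⟩ := (hmem0 t).1 ht
      have h432 : c t ∣ 432 := by
        refine Nat.Coprime.dvd_of_dvd_mul_right (k := c t) (n := 35) ?_ (show c t ∣ 432 * 35 from hdvd t h1)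
        rw [show 35 = 5 * 7 from rfl]
        exact Nat.Coprime.mul_right ((Nat.Prime.coprime_iff_not_dvd Nat.prime_five).2 h3).symm
          ((Nat.Prime.coprime_iff_not_dvd (by norm_num)).2 h2).symm
      obtain ⟨q, hq⟩ := h432
      have hmul := M12Nse.card_isConj_mul t
      rw [H.card] at hmul
      refine ⟨q, Nat.eq_of_mul_eq_mul_right (show 0 < c t from Nat.card_pos) (hmul.trans ?_)⟩
      rw [mul_assoc]
      exact (show 244823040 = 566720 * 432 by norm_num).trans (by rw [hq]; ring)
  have h5eq : ∀ t t' : G, orderOf t = 3 → orderOf t' = 3 → 5 ∣ c t → 5 ∣ c t' → c t = c t' := by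
    intro t t' ht ht' h h'
    obtain ⟨⟨w, hw⟩, hwo⟩ := exists_prime_orderOf_dvd_card' (G := ↥(centralizer ({t} : Set G))) 5 h
    rw [Subgroup.orderOf_mk] at hwo
    obtain ⟨⟨w', hw'⟩, hwo'⟩ := exists_prime_orderOf_dvd_card' (G := ↥(centralizer ({t'} : Set G))) 5 h'
    rw [Subgroup.orderOf_mk] at hwo'
    exact cent_three_five H hwo' ht' (mem_centralizer_singleton_iff.1 hw').symm hwo ht
      (mem_centralizer_singleton_iff.1 hw).symm
  -- the seven-class
  have hn8 : n = 8 := by
    have hall : ∀ d ∈ Nat.divisors 240, d % 7 = 1 → d = 1 ∨ d = 8 ∨ d = 15 ∨ d = 120 := by decide +kernel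
    rcases hall n (Nat.mem_divisors.2 ⟨hn240, by norm_num⟩) hn7 with rfl | rfl | rfl | rfl
    · omega
    · rfl
    all_goals
      have hP5 : P5 = ∅ := by
        refine Finset.eq_empty_of_forall_notMem fun t ht => ?_
        obtain ⟨h1, h2, h3⟩ := (hmem5 t).1 ht
        refine h2 ?_
        rw [h5eq t t₇ h1 ht₇ h3 (by show 5 ∣ Nat.card _; rw [hn]; norm_num)]
        show 7 ∣ Nat.card _
        rw [hn]; norm_num
      rw [hP5, Finset.card_empty] at hsum
      omega
  subst hn8
  have hP0e : P0.card = 0 := by omega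
  have h56 : P7.card = 485760 ∧ P5.card = 226688 := by omega
  have ht₁5 : t₁ ∈ P5 := by
    have hK₁ : t₁ ∈ K := Finset.mem_filter.2 ⟨Finset.mem_univ _, ht₁⟩
    have h7 : ¬ 7 ∣ c t₁ := fun h => by
      have hc := M12Nse.conj_card_centralizer ((h7conj t₁).1 (Finset.mem_filter.2 ⟨hK₁, h⟩))
      rw [hc, hn] at h16
      norm_num at h16
    refine (hmem5 t₁).2 ⟨ht₁, h7, ?_⟩
    by_contra h5
    have hm : t₁ ∈ P0 := (hmem0 t₁).2 ⟨ht₁, h7, h5⟩
    rw [Finset.card_eq_zero.1 hP0e] at hm
    exact Finset.notMem_empty _ hm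
  obtain ⟨-, h17, h15⟩ := (hmem5 t₁).1 ht₁5
  have hc2160 : c t₁ = 2160 := by
    have hd : c t₁ ∣ 2160 := by
      refine Nat.Coprime.dvd_of_dvd_mul_right (k := c t₁) (n := 7) ?_ (show c t₁ ∣ 2160 * 7 from hdvd t₁ ht₁)
      exact ((Nat.Prime.coprime_iff_not_dvd (by norm_num)).2 h17).symm
    have hle : Nat.card {a : G // IsConj t₁ a} ≤ 226688 := by
      rw [← h56.2, Nat.card_eq_fintype_card, Fintype.card_subtype]
      refine Finset.card_le_card fun s hs => ?_
      have hs' := (Finset.mem_filter.1 hs).2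
      refine (hmem5 s).2 ⟨(M12Nse.conj_orderOf hs').trans ht₁, ?_, ?_⟩
      · show ¬ 7 ∣ Nat.card _
        rw [M12Nse.conj_card_centralizer hs']; exact h17
      · show 5 ∣ Nat.card _
        rw [M12Nse.conj_card_centralizer hs']; exact h15
    have h := Nat.mul_le_mul_right (c t₁) hle
    rw [show Nat.card {a : G // IsConj t₁ a} * c t₁ = 244823040 from (M12Nse.card_isConj_mul t₁).trans H.card] at h
    obtain ⟨q, hq⟩ := hd
    have hq2 : q ≤ 2 := by
      by_contra hlt
      have := Nat.mul_le_mul_left (c t₁) (show 3 ≤ q by omega)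
      rw [← hq] at this
      omega
    have h16' : 16 ∣ c t₁ := h16
    interval_cases q <;> omega
  -- elements of order six
  have h6 := cnt_val H (n := 3 * 2) (v := 20401920)
  rw [cnt_mul (by norm_num) (by norm_num) (by norm_num), Nat.card_sigma,
    ← Finset.sum_subtype K (fun a => by simp [K]) (fun a => Nat.card {b : G // orderOf b = 2 ∧ b * a = a * b}),
    ← Finset.sum_filter_add_sum_filter_not K (fun t => 7 ∣ c t),
    ← Finset.sum_filter_add_sum_filter_not (K.filter fun t => ¬ 7 ∣ c t) (fun t => 5 ∣ c t)] at h6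
  have l7 : P7.card * 21 ≤ ∑ t ∈ P7, Nat.card {b : G // orderOf b = 2 ∧ b * t = t * b} := by
    rw [← smul_eq_mul]
    refine Finset.card_nsmul_le_sum _ _ _ fun t ht => seven_lower H hno ?_ ?_
    · exact (M12Nse.conj_orderOf ((h7conj t).1 ht)).trans ht₇
    · rw [M12Nse.conj_card_centralizer ((h7conj t).1 ht), hn]
  have l5 : P5.card * 46 ≤ ∑ t ∈ P5, Nat.card {b : G // orderOf b = 2 ∧ b * t = t * b} := by
    rw [← smul_eq_mul]
    refine Finset.card_nsmul_le_sum _ _ _ fun t ht => ?_
    obtain ⟨h1, -, h3⟩ := (hmem5 t).1 ht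
    exact five_lower H hno h1 ((h5eq t t₁ h1 ht₁ h3 h15).trans hc2160)
  simp only [P7, P5] at l7 l5 h56
  rw [h56.1] at l7
  rw [h56.2] at l5
  omega

/-- The core of order 1024 is impossible. -/
theorem false_three {u v : G} (hu : orderOf u = 2) (hv : orderOf v = 2)
    (hCu : Nat.card ↥(centralizer ({u} : Set G)) = 21504) (hCv : Nat.card ↥(centralizer ({v} : Set G)) = 7680)
    (hall : ∀ a : G, orderOf a = 2 → IsConj u a ∨ IsConj v a)
    {W : Subgroup ↥(centralizer ({u} : Set G))} [W.Normal] (hW : Nat.card ↥W = 1024)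
    (hc : ∀ t : ↥(centralizer ({u} : Set G)), orderOf t = 3 →
      Nat.card ↥(W ⊓ centralizer ({t} : Set ↥(centralizer ({u} : Set G)))) = 16)
    {V : Subgroup ↥(centralizer ({v} : Set G))} [V.Normal] (hV : Nat.card ↥V = 64)
    (hWv : cnt (↥(centralizer ({v} : Set G)) ⧸ V) 3 = 20)
    (hc' : ∀ t : ↥(centralizer ({v} : Set G)), orderOf t = 3 →
      Nat.card ↥(V ⊓ centralizer ({t} : Set ↥(centralizer ({v} : Set G)))) = 4) : False := by
  -- two-parts at the first class
  have hu32 : ∀ t : G, orderOf t = 3 → t * u = u * t →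
      ¬ 32 ∣ Nat.card ↥(centralizer ({u} : Set G) ⊓ centralizer ({t} : Set G)) := by
    intro t ht htu hd
    have hm := card_map_mul W (centralizer ({(⟨t, mem_centralizer_singleton_iff.2 htu⟩ :
      ↥(centralizer ({u} : Set G)))} : Set ↥(centralizer ({u} : Set G))))
    rw [hc _ (by rw [Subgroup.orderOf_mk]; exact ht), card_cent_sub] at hm
    have hX : Nat.card (↥(centralizer ({u} : Set G)) ⧸ W) = 21 := by
      have := W.card_eq_card_quotient_mul_card_subgroup
      rw [hCu, hW] at this
      omega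
    have h21 := hX ▸ card_subgroup_dvd_card ((centralizer ({(⟨t, mem_centralizer_singleton_iff.2 htu⟩ :
      ↥(centralizer ({u} : Set G)))} : Set ↥(centralizer ({u} : Set G)))).map (QuotientGroup.mk' W))
    rw [← hm] at hd
    have h2 := Nat.dvd_of_mul_dvd_mul_right (show 0 < 16 by norm_num) (show 2 * 16 ∣ _ * 16 from hd)
    have := h2.trans h21
    norm_num at this
  have hv32 : ∀ t : G, orderOf t = 3 → t * v = v * t →
      ¬ 32 ∣ Nat.card ↥(centralizer ({v} : Set G) ⊓ centralizer ({t} : Set G)) := by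
    intro t ht htv hd
    set f := QuotientGroup.mk' V
    set tD : ↥(centralizer ({v} : Set G)) := ⟨t, mem_centralizer_singleton_iff.2 htv⟩
    have htD : orderOf tD = 3 := by rw [Subgroup.orderOf_mk]; exact ht
    have hm := card_map_mul V (centralizer ({tD} : Set ↥(centralizer ({v} : Set G))))
    rw [hc' tD htD, card_cent_sub] at hm
    have hX : Nat.card (↥(centralizer ({v} : Set G)) ⧸ V) = 120 := by
      have := V.card_eq_card_quotient_mul_card_subgroup
      rw [hCv, hV] at this
      omega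
    have hft : orderOf (f tD) = 3 := by
      refine ((Nat.dvd_prime Nat.prime_three).1 (htD ▸ orderOf_map_dvd f tD)).resolve_left fun e => ?_
      rw [orderOf_eq_one_iff, QuotientGroup.mk'_apply, QuotientGroup.eq_one_iff] at e
      have := (htD ▸ Subgroup.orderOf_dvd_natCard V e : 3 ∣ Nat.card ↥V)
      rw [hV] at this
      norm_num at this
    have hS : ∀ P : Sylow 3 (↥(centralizer ({v} : Set G)) ⧸ V),
        Nat.card ↥(P : Subgroup (↥(centralizer ({v} : Set G)) ⧸ V)) = 3 := fun P => by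
      simpa using card_sylow_of_factor P (a := 1) (m := 40) (by rw [hX]; norm_num) (by norm_num)
    obtain ⟨P, hP⟩ := M12Nse.exists_sylow_zpowers hS hft
    have hN := card_normalizer_mul P
    rw [hP, hX] at hN
    rw [M12Nse.cnt_prime hS] at hWv
    rw [show Nat.card (Sylow 3 (↥(centralizer ({v} : Set G)) ⧸ V)) = 10 by omega] at hN
    have hle : (centralizer ({tD} : Set ↥(centralizer ({v} : Set G)))).map f ≤
        normalizer (zpowers (f tD) : Set (↥(centralizer ({v} : Set G)) ⧸ V)) := by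
      rintro _ ⟨a, ha, rfl⟩
      refine MathieuEleven.mem_normalizer_zpowers ?_
      rw [← map_inv, ← map_mul, ← map_mul, mem_centralizer_singleton_iff.1 ha, mul_inv_cancel_right]
      exact mem_zpowers _
    have h12 := (card_dvd_of_le hle).trans (dvd_of_eq (show _ = 12 by omega))
    rw [← hm] at hd
    have h2 := Nat.dvd_of_mul_dvd_mul_right (show 0 < 4 by norm_num) (show 8 * 4 ∣ _ * 4 from hd)
    have := h2.trans h12
    norm_num at this
  have hpair : ∀ z t : G, orderOf z = 2 → orderOf t = 3 → t * z = z * t →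
      ¬ 32 ∣ Nat.card ↥(centralizer ({z} : Set G) ⊓ centralizer ({t} : Set G)) := by
    intro z t hz ht htz hd
    rcases hall z hz with h | h
    all_goals
      obtain ⟨g, hg⟩ := isConj_iff.1 h.symm
      rw [← card_pair_conj g z t, hg] at hd
      have hcomm := conj_comm g htz
      rw [hg] at hcomm
    · exact hu32 _ ((MulEquiv.orderOf_eq (MulAut.conj g) t).trans ht) hcomm hd
    · exact hv32 _ ((MulEquiv.orderOf_eq (MulAut.conj g) t).trans ht) hcomm hd
  obtain ⟨t₁, ht₁⟩ := exists_prime_orderOf_dvd_card' (G := ↥(centralizer ({u} : Set G))) 3 (by rw [hCu]; norm_num)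
  refine false_core H (fun t ht hd => ?_) (fun z hz hd => ?_) (t₁ := t₁.1) (by rwa [Subgroup.orderOf_coe]) ?_
  · obtain ⟨P, hP⟩ := Sylow.exists_subgroup_card_pow_prime (G := ↥(centralizer ({t} : Set G))) 2 (n := 5) hd
    have hPp : IsPGroup 2 ↥P := IsPGroup.of_card hP
    haveI : Nontrivial ↥P := Finite.one_lt_card_iff_nontrivial.1 (by rw [hP]; norm_num)
    haveI := hPp.center_nontrivial
    obtain ⟨z, hz⟩ := exists_prime_orderOf_dvd_card' (G := ↥(center ↥P)) 2 (by
      obtain ⟨k, hk⟩ := IsPGroup.iff_card.1 (hPp.to_subgroup (center ↥P))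
      have h1 : 1 < Nat.card ↥(center ↥P) := Finite.one_lt_card_iff_nontrivial.2 inferInstance
      rw [hk] at h1 ⊢
      exact dvd_pow_self 2 fun e => by rw [e] at h1; norm_num at h1)
    rw [← Subgroup.orderOf_coe, ← Subgroup.orderOf_coe, ← Subgroup.orderOf_coe] at hz
    refine hpair _ t hz ht (mem_centralizer_singleton_iff.1 (z : ↥P).1.2).symm (?_ : 32 ∣ _)
    have hle : P.map (centralizer ({t} : Set G)).subtype ≤
        centralizer ({(((z : ↥P) : ↥(centralizer ({t} : Set G))) : G)} : Set G) ⊓ centralizer ({t} : Set G) := by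
      rintro _ ⟨a, ha, rfl⟩
      refine mem_inf.2 ⟨mem_centralizer_singleton_iff.2 ?_, a.2⟩
      exact congrArg Subtype.val (congrArg Subtype.val (mem_center_iff.1 z.2 ⟨a, ha⟩))
    have h := card_dvd_of_le hle
    rw [card_map_of_injective (Subgroup.subtype_injective _), hP] at h
    exact h
  · have hall' : ∀ a : G, orderOf a = 2 → Nat.card ↥(centralizer ({a} : Set G)) = 21504 ∨
        Nat.card ↥(centralizer ({a} : Set G)) = 7680 := fun a ha => by
      rcases hall a ha with h | h
      · exact Or.inl ((M12Nse.conj_card_centralizer h).trans hCu)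
      · exact Or.inr ((M12Nse.conj_card_centralizer h).trans hCv)
    rcases hall' z hz with e | e <;> rw [e] at hd <;> norm_num at hd
  · have h := card_dvd_of_le (inf_le_right :
      W ⊓ centralizer ({t₁} : Set ↥(centralizer ({u} : Set G))) ≤ centralizer ({t₁} : Set ↥(centralizer ({u} : Set G))))
    rw [hc t₁ ht₁, show t₁ = (⟨t₁.1, t₁.2⟩ : ↥(centralizer ({u} : Set G))) from rfl, card_cent_sub] at h
    exact h.trans (card_dvd_of_le inf_le_right)

end Cfsg.Lib.M24Nse
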