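import Cfsg.Agent.M24Nse.Alpha
import Cfsg.Agent.M24Nse.BetaKill
import Cfsg.Agent.M24Nse.ThreeK
import Cfsg.Agent.M24Nse.Endgame

/-!
M24 is determined by its order and the numbers of elements of each order.
-/

set_option autoImplicit false
set_option linter.unusedSectionVars false
set_option linter.style.haveILetI false
set_option maxRecDepth 100000

namespace Cfsg.Lib.M24Nse

open Subgroup Cfsg.Lib.SameOrder

universe u

variable {G : Type u} [Group G] [Finite G] (H : Counts G)
include H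

theorem iso_of_counts : Nonempty (G ≃* ↥Cfsg.M24) := by
  haveI := isSimple H
  obtain ⟨x, u, hx, hu, hux⟩ := exists_pair H (n := 7) (fun x hx => (ncom_seven H hx).1) (by decide +kernel)
  obtain ⟨y, v, hy, hv, hvy⟩ := exists_pair H (n := 5) (fun y hy => (ncom_five H hy).1) (by decide +kernel)
  obtain ⟨hCu, hCv, hcls⟩ := class_equation H hx hu hux hy hv hvy
  obtain ⟨W, hWn, L, huW, hW2, hmod, hxo, -, hNx⟩ := setup_seven H hx hu hux
    (x' := ⟨x, mem_centralizer_singleton_iff.2 hux.symm⟩) rfl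
  obtain ⟨hCu', hWc⟩ := alpha H hx hu hux hCu L hW2 hmod huW hxo hNx
  obtain ⟨V, hVn, M, hvV, hyo, hCy, hcase⟩ := setup_five H hy hv hvy
    (y' := ⟨y, mem_centralizer_singleton_iff.2 hvy.symm⟩) rfl
  obtain ⟨hCv', hV, he⟩ := beta H hy hv hvy hCv M hvV hyo hCy hcase
  rcases hCv' with hCv' | hbig
  case inr =>
    obtain ⟨N, W', V', hW'n, hV'n, yN, tN, S', B⟩ := exists_big H hy hv hvy hbig rfl M hvV hCy hV he
    exact (false_big H B).elim
  have hinv := hcls hCu' hCv'
  have hN20 : Nat.card ↥(normalizer (zpowers (QuotientGroup.mk' V (⟨y, mem_centralizer_singleton_iff.2 hvy.symm⟩ :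
      ↥(centralizer ({v} : Set G)))) : Set (↥(centralizer ({v} : Set G)) ⧸ V))) = 20 := by
    rcases hcase with ⟨h, -, -⟩ | ⟨-, -, h⟩
    · omega
    · exact h
  have hV20 := five_quot M hCv' hV hN20
  have hq := seven_quot L hCu' hWc hNx
  obtain ⟨hc, hc', -, -⟩ := three_counts H hx hu hux hy hv hvy hCu' hCv' hinv
    (hq.imp (fun h => ⟨h.1, h.2.2⟩) id) hV hV20
  rcases hq with ⟨hW, hsimple, -⟩ | ⟨hW, -⟩
  case inr =>
    exact (false_three H hu hv hCu' hCv' hinv hW (fun t ht => (hc t ht).2 hW) hV hV20 hc').elim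
  refine endgame H u hu hCu' W hW hsimple ⟨x, mem_centralizer_singleton_iff.2 hux.symm⟩ hxo ?_
    (fun t ht => (hc t ht).1 hW) (fun f hf => card_cent_five H hf)
    (fun a ha => (hinv a ha).imp_right fun h => (M12Nse.conj_card_centralizer h).trans hCv')
  intro w hw hwx
  have hmem : w ∈ W ⊓ centralizer ({(⟨x, mem_centralizer_singleton_iff.2 hux.symm⟩ :
      ↥(centralizer ({u} : Set G)))} : Set ↥(centralizer ({u} : Set G))) :=
    mem_inf.2 ⟨hw, mem_centralizer_singleton_iff.2 hwx⟩
  have huI : (⟨u, self_mem_centralizer u⟩ : ↥(centralizer ({u} : Set G))) ∈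
      W ⊓ centralizer ({(⟨x, mem_centralizer_singleton_iff.2 hux.symm⟩ :
        ↥(centralizer ({u} : Set G)))} : Set ↥(centralizer ({u} : Set G))) :=
    mem_inf.2 ⟨huW, mem_centralizer_singleton_iff.2 (Subtype.ext hux)⟩
  by_contra hne
  push Not at hne
  classical
  have h2 := Set.ncard_le_ncard (s := ({1, w, ⟨u, self_mem_centralizer u⟩} : Set ↥(centralizer ({u} : Set G))))
    (t := ((W ⊓ centralizer ({(⟨x, mem_centralizer_singleton_iff.2 hux.symm⟩ :
      ↥(centralizer ({u} : Set G)))} : Set ↥(centralizer ({u} : Set G))) : Subgroup _) :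
      Set ↥(centralizer ({u} : Set G)))) (by
    rintro a (rfl | rfl | rfl)
    · exact one_mem _
    · exact hmem
    · exact huI) (Set.toFinite _)
  have h3 : ({1, w, ⟨u, self_mem_centralizer u⟩} : Set ↥(centralizer ({u} : Set G))).ncard = 3 :=
    Set.ncard_eq_three.2 ⟨1, w, ⟨u, self_mem_centralizer u⟩, Ne.symm hne.1, fun e => by
      have h1 : (1 : G) = u := congrArg Subtype.val e
      rw [← h1, orderOf_one] at hu
      norm_num at hu, fun e => hne.2 (congrArg Subtype.val e), rfl⟩
  rw [h3, ← Nat.card_coe_set_eq] at h2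
  exact absurd h2 (by rw [SetLike.coe_sort_coe, hW2]; norm_num)

end Cfsg.Lib.M24Nse
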