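import Cfsg.Agent.M24Nse.Defs

/-!
Sylow numbers for the large primes in a group with the counts of the Mathieu group of degree twenty-four.
-/

set_option autoImplicit false
set_option linter.unusedSectionVars false
set_option linter.style.haveILetI false

namespace Cfsg.Lib.M24Nse

open Subgroup Cfsg.Lib.SameOrder Cfsg.Lib.Small Cfsg.Lib.MathieuEleven

universe u

variable {G : Type u} [Group G] [Finite G] (H : Hyp G)

local instance fact_five_mfo : Fact (Nat.Prime 5) := ⟨by norm_num⟩
local instance fact_seven_mfo : Fact (Nat.Prime 7) := ⟨by norm_num⟩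
local instance fact_eleven_mfo : Fact (Nat.Prime 11) := ⟨by norm_num⟩
local instance fact_twenty_three_mfo : Fact (Nat.Prime 23) := ⟨by norm_num⟩

include H

theorem card_sylow {p : ℕ} [Fact p.Prime] {m : ℕ} (hm : 244823040 = p * m) (hp : ¬ p ∣ m) (P : Sylow p G) :
    Nat.card ↥(P : Subgroup G) = p := by
  simpa using card_sylow_of_factor P (a := 1) (m := m) (by rw [H.card, pow_one, hm]) hp

theorem sylow_five (P : Sylow 5 G) : Nat.card ↥(P : Subgroup G) = 5 :=
  card_sylow H (m := 48964608) (by norm_num) (by norm_num) P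

theorem sylow_seven (P : Sylow 7 G) : Nat.card ↥(P : Subgroup G) = 7 :=
  card_sylow H (m := 34974720) (by norm_num) (by norm_num) P

theorem sylow_eleven (P : Sylow 11 G) : Nat.card ↥(P : Subgroup G) = 11 :=
  card_sylow H (m := 22256640) (by norm_num) (by norm_num) P

theorem sylow_twenty_three (P : Sylow 23 G) : Nat.card ↥(P : Subgroup G) = 23 :=
  card_sylow H (m := 10644480) (by norm_num) (by norm_num) P

theorem cnt_prime_value {p : ℕ} [Fact p.Prime] (hS : ∀ P : Sylow p G, Nat.card ↥(P : Subgroup G) = p) {m v : ℕ}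
    (hm : 244823040 = p * m) (hall : ∀ c ∈ nseVals, c ≠ 0 → (1 + c) % p = 0 → c = v) :
    cnt G p = v ∧ (p - 1) * Nat.card (Sylow p G) = v := by
  have hd : p ∣ Nat.card G := ⟨m, by rw [H.card, hm]⟩
  have hz := dvd_sum_divisors (G := G) (n := p) hd
  rw [Nat.Prime.divisors (Fact.out : p.Prime), Finset.sum_pair (Fact.out : p.Prime).ne_one.symm, cnt_one] at hz
  have hv := hall _ (H.mem p) (cnt_prime_ne_zero Fact.out hd) (Nat.mod_eq_zero_of_dvd hz)
  exact ⟨hv, by rw [← M12Nse.cnt_prime hS, hv]⟩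

theorem cnt_five : cnt G 5 = 4080384 ∧ Nat.card (Sylow 5 G) = 1020096 := by
  obtain ⟨h1, h2⟩ := cnt_prime_value H (sylow_five H) (m := 48964608) (v := 4080384) (by norm_num) (by decide +kernel)
  exact ⟨h1, by omega⟩

theorem cnt_seven : cnt G 7 = 11658240 ∧ Nat.card (Sylow 7 G) = 1943040 := by
  obtain ⟨h1, h2⟩ := cnt_prime_value H (sylow_seven H) (m := 34974720) (v := 11658240) (by norm_num) (by decide +kernel)
  exact ⟨h1, by omega⟩

theorem cnt_eleven : cnt G 11 = 22256640 ∧ Nat.card (Sylow 11 G) = 2225664 := by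
  obtain ⟨h1, h2⟩ := cnt_prime_value H (sylow_eleven H) (m := 22256640) (v := 22256640) (by norm_num) (by decide +kernel)
  exact ⟨h1, by omega⟩

theorem cnt_twenty_three : cnt G 23 = 21288960 ∧ Nat.card (Sylow 23 G) = 967680 := by
  obtain ⟨h1, h2⟩ :=
    cnt_prime_value H (sylow_twenty_three H) (m := 10644480) (v := 21288960) (by norm_num) (by decide +kernel)
  exact ⟨h1, by omega⟩

/-- An element of prime order has centraliser of order dividing that of the normalizer of its Sylow subgroup. -/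
theorem cent_dvd_normalizer {p N : ℕ} [Fact p.Prime] (hS : ∀ P : Sylow p G, Nat.card ↥(P : Subgroup G) = p)
    (hN : Nat.card (Sylow p G) * N = 244823040) {x : G} (hx : orderOf x = p) :
    Nat.card ↥(centralizer ({x} : Set G)) ∣ N := by
  obtain ⟨P, hP⟩ := M12Nse.exists_sylow_zpowers hS hx
  have hle : centralizer ({x} : Set G) ≤ normalizer ((P : Subgroup G) : Set G) := by
    rw [hP]
    exact fun c hc => mem_normalizer_zpowers (by
      rw [mem_centralizer_singleton_iff.1 hc, mul_inv_cancel_right]; exact mem_zpowers x)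
  have h := card_normalizer_mul P
  rw [H.card, ← hN, mul_comm] at h
  exact (Subgroup.card_dvd_of_le hle).trans (dvd_of_eq (Nat.eq_of_mul_eq_mul_left Nat.card_pos h))

theorem order_dvd {p N : ℕ} [Fact p.Prime] (hS : ∀ P : Sylow p G, Nat.card ↥(P : Subgroup G) = p)
    (hN : Nat.card (Sylow p G) * N = 244823040) {g : G} (hg : p ∣ orderOf g) : orderOf g ∣ N := by
  have hx : orderOf (g ^ (orderOf g / p)) = p := orderOf_pow_orderOf_div (orderOf_pos g).ne' hg
  exact (M12Nse.dvd_centralizer_orderOf (Commute.self_pow g _).eq).trans (cent_dvd_normalizer H hS hN hx)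

theorem cnt_two : cnt G 2 = 43263 := by
  have : Fact (Nat.Prime 2) := ⟨Nat.prime_two⟩
  have hd : 2 ∣ Nat.card G := by rw [H.card]; norm_num
  have hz := dvd_sum_divisors (G := G) (n := 2) hd
  rw [Nat.Prime.divisors Nat.prime_two, Finset.sum_pair (by norm_num), cnt_one] at hz
  have hv : ∀ c ∈ nseVals, c ≠ 0 → (1 + c) % 2 = 0 → c = 43263 ∨ c = 1 := by decide +kernel
  refine (hv _ (H.mem 2) (cnt_prime_ne_zero Nat.prime_two hd) (Nat.mod_eq_zero_of_dvd hz)).resolve_right fun h1 => ?_
  -- a unique involution would be central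
  obtain ⟨x, hx⟩ := exists_prime_orderOf_dvd_card' (G := G) 2 hd
  obtain ⟨y, hy⟩ := exists_prime_orderOf_dvd_card' (G := G) 23 (by rw [H.card]; norm_num)
  have huniq : y * x * y⁻¹ = x := by
    have hf := (Nat.card_eq_one_iff_unique.1 h1).1
    have hc : orderOf (y * x * y⁻¹) = 2 := (MulEquiv.orderOf_eq (MulAut.conj y) x).trans hx
    exact congrArg Subtype.val (hf.elim ⟨_, hc⟩ ⟨x, hx⟩)
  have hcomm : Commute x y := (mul_inv_eq_iff_eq_mul.1 huniq).symm
  have hxy := hcomm.orderOf_mul_eq_mul_orderOf_of_coprime (by rw [hx, hy]; norm_num)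
  rw [hx, hy] at hxy
  have h := order_dvd H (N := 253) (sylow_twenty_three H) (by rw [(cnt_twenty_three H).2])
    (g := x * y) (by rw [hxy]; norm_num)
  rw [hxy] at h
  norm_num at h

theorem cnt_three : cnt G 3 = 712448 := by
  have : Fact (Nat.Prime 3) := ⟨Nat.prime_three⟩
  have hd : 3 ∣ Nat.card G := by rw [H.card]; norm_num
  have hz := dvd_sum_divisors (G := G) (n := 3) hd
  rw [Nat.Prime.divisors Nat.prime_three, Finset.sum_pair (by norm_num), cnt_one] at hz
  have hv : ∀ c ∈ nseVals, c ≠ 0 → (1 + c) % 3 = 0 → c = 712448 := by decide +kernel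
  exact hv _ (H.mem 3) (cnt_prime_ne_zero Nat.prime_three hd) (Nat.mod_eq_zero_of_dvd hz)

end Cfsg.Lib.M24Nse
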