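import Cfsg.Agent.CITExt.Almost
import Cfsg.Agent.Known.POver.Small
import Cfsg.Agent.Chars.Burnside
import Cfsg.Agent.M12Nse.Facts

/-!
A group of order divisible by two, three and one further prime, without normal subgroups of prime power order,
has a simple socle.
-/

set_option autoImplicit false
set_option linter.unusedSectionVars false
set_option linter.style.haveILetI false

namespace Cfsg.Lib.M24Nse

open Subgroup Cfsg.Lib.SameOrder

universe u

variable {X : Type u} [Group X] [Finite X]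

theorem pCore_map_normal (q : ℕ) (S : Subgroup X) [hS : S.Normal] :
    ((Cfsg.pCore q ↥S).map S.subtype).Normal := by
  constructor
  rintro _ ⟨x, hx, rfl⟩ g
  refine ⟨MulAut.conjNormal g x, ?_, MulAut.conjNormal_apply g x⟩
  have hn : ((Cfsg.pCore q ↥S).map (MulAut.conjNormal g : MulAut ↥S).toMonoidHom).Normal :=
    (show (Cfsg.pCore q ↥S).Normal from inferInstance).map _ (MulAut.conjNormal g : MulAut ↥S).surjective
  exact Cfsg.Lib.Components.le_pCore ((Cfsg.Lib.Components.isPGroup_pCore q).map _)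
    (Subgroup.mem_map_of_mem (MulAut.conjNormal g : MulAut ↥S).toMonoidHom hx)

/-- A normal subgroup inherits the absence of normal subgroups of prime power order. -/
theorem no_pgroup_of_normal {q : ℕ} [Fact q.Prime] (hq : ∀ N : Subgroup X, N.Normal → IsPGroup q ↥N → N = ⊥)
    (S : Subgroup X) [hS : S.Normal] : ∀ L : Subgroup ↥S, L.Normal → IsPGroup q ↥L → L = ⊥ := by
  intro L hL hLq
  have h := hq _ (pCore_map_normal q S) ((Cfsg.Lib.Components.isPGroup_pCore q).map _)
  rw [map_eq_bot_iff_of_injective _ S.subtype_injective] at h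
  exact le_bot_iff.1 (h ▸ Cfsg.Lib.Components.le_pCore hLq)

variable {p : ℕ} [hp : Fact p.Prime] {a b : ℕ}

/-- A nontrivial normal subgroup has order divisible by the third prime. -/
theorem prime_dvd_normal (hcard : Nat.card X ∣ 2 ^ a * 3 ^ b * p)
    (h2 : ∀ N : Subgroup X, N.Normal → IsPGroup 2 ↥N → N = ⊥)
    (h3 : ∀ N : Subgroup X, N.Normal → IsPGroup 3 ↥N → N = ⊥) {N : Subgroup X} (hN : N.Normal) (hne : N ≠ ⊥) :
    p ∣ Nat.card ↥N := by
  by_contra hnd
  obtain ⟨L, hL, hLN, hL1, hmin⟩ := Cfsg.Lib.CITExt.exists_minimal_normal hN hne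
  have hcop : (Nat.card ↥L).Coprime p :=
    ((Nat.Prime.coprime_iff_not_dvd hp.out).2 fun h => hnd (h.trans (card_dvd_of_le hLN))).symm
  have hd : Nat.card ↥L ∣ 2 ^ a * 3 ^ b :=
    hcop.dvd_of_dvd_mul_right ((card_subgroup_dvd_card L).trans hcard)
  obtain ⟨d1, d2, e1, e2, he⟩ := Nat.dvd_mul.1 hd
  obtain ⟨i, -, rfl⟩ := (Nat.dvd_prime_pow Nat.prime_two).1 e1
  obtain ⟨j, -, rfl⟩ := (Nat.dvd_prime_pow Nat.prime_three).1 e2
  have hsol : Group.IsSolvable ↥L :=
    Cfsg.Lib.Chars.burnside_isSolvable 2 3 Nat.prime_two Nat.prime_three _ ⟨i, j, he.symm⟩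
  have hcomm := Cfsg.Lib.CITExt.comm_of_minimal_solvable hmin hsol hL1
  have : IsMulCommutative ↥L := ⟨⟨fun x y => Subtype.ext (hcomm x x.2 y y.2).eq⟩⟩
  obtain ⟨r, hr, hrd⟩ := Nat.exists_prime_and_dvd (show Nat.card ↥L ≠ 1 from fun e => hL1 (card_eq_one.1 e))
  have := Fact.mk hr
  let P : Sylow r ↥L := Classical.arbitrary _
  have : (P : Subgroup ↥L).Characteristic := Sylow.characteristic_of_normal P inferInstance
  have hR : ((P : Subgroup ↥L).map L.subtype).Normal := inferInstance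
  have hR1 : (P : Subgroup ↥L).map L.subtype ≠ ⊥ := fun e =>
    P.ne_bot_of_dvd_card hrd ((map_eq_bot_iff_of_injective _ L.subtype_injective).1 e)
  rw [← he] at hrd
  rcases (Nat.Prime.dvd_mul hr).1 hrd with h | h
  · obtain rfl := (Nat.prime_dvd_prime_iff_eq hr Nat.prime_two).1 (hr.dvd_of_dvd_pow h)
    exact hR1 (h2 _ hR (P.2.map _))
  · obtain rfl := (Nat.prime_dvd_prime_iff_eq hr Nat.prime_three).1 (hr.dvd_of_dvd_pow h)
    exact hR1 (h3 _ hR (P.2.map _))

/-- two normal subgroups meet -/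
theorem inf_ne_bot (hp2 : ¬ p ^ 2 ∣ Nat.card X) {M N : Subgroup X} (hM : M.Normal) (hN : N.Normal)
    (hMp : p ∣ Nat.card ↥M) (hNp : p ∣ Nat.card ↥N) : M ⊓ N ≠ ⊥ := fun e => by
  haveI := hM
  haveI := hN
  have h : M.relIndex (M ⊔ N) = Nat.card ↥N := by
    rw [sup_comm, Subgroup.relIndex_sup_right, ← Subgroup.inf_relIndex_right, e, relIndex_bot_left]
  have h' : Nat.card ↥(M ⊔ N) = Nat.card ↥M * Nat.card ↥N := by
    have h0 := Subgroup.relIndex_mul_relIndex ⊥ M (M ⊔ N) bot_le le_sup_left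
    rw [relIndex_bot_left, relIndex_bot_left, h] at h0
    exact h0.symm
  refine hp2 ?_
  rw [pow_two]
  exact ((Nat.mul_dvd_mul hMp hNp).trans (dvd_of_eq h'.symm)).trans (card_subgroup_dvd_card _)

/-- The socle. -/
theorem exists_socle (hcard : Nat.card X ∣ 2 ^ a * 3 ^ b * p) (hdiv : p ∣ Nat.card X) (hp2 : ¬ p ^ 2 ∣ Nat.card X)
    (hn : Nat.card (Sylow p X) ≠ 1)
    (h2 : ∀ N : Subgroup X, N.Normal → IsPGroup 2 ↥N → N = ⊥)
    (h3 : ∀ N : Subgroup X, N.Normal → IsPGroup 3 ↥N → N = ⊥) :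
    ∃ S : Subgroup X, S.Normal ∧ IsSimpleGroup ↥S ∧ (¬ ∀ x y : ↥S, x * y = y * x) ∧
      (∀ x : X, orderOf x = p → x ∈ S) ∧ centralizer (S : Set X) = ⊥ ∧
      Nat.card (Sylow p ↥S) = Nat.card (Sylow p X) ∧ p ∣ Nat.card ↥S := by
  classical
  haveI : Fact (Nat.Prime 2) := ⟨Nat.prime_two⟩
  haveI : Fact (Nat.Prime 3) := ⟨Nat.prime_three⟩
  have hsy : ∀ P : Sylow p X, Nat.card ↥(P : Subgroup X) = p := fun P => by
    obtain ⟨m, hm⟩ := hdiv
    simpa using Cfsg.Lib.Small.card_sylow_of_factor P (a := 1) (m := m) (by rw [hm, pow_one])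
      fun h => hp2 (by rw [hm, pow_two]; exact Nat.mul_dvd_mul_left p h)
  haveI : Nontrivial X := Finite.one_lt_card_iff_nontrivial.1
    (lt_of_lt_of_le hp.out.one_lt (Nat.le_of_dvd Nat.card_pos hdiv))
  obtain ⟨S, hS, -, hS1, hmin⟩ :=
    Cfsg.Lib.CITExt.exists_minimal_normal (normal_top : (⊤ : Subgroup X).Normal) top_ne_bot
  haveI := hS
  have hSp := prime_dvd_normal hcard h2 h3 hS hS1
  have hmem : ∀ x : X, orderOf x = p → x ∈ S := by
    intro x hx
    by_contra hxS
    have h1 : orderOf (QuotientGroup.mk' S x) = p := by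
      refine ((Nat.dvd_prime hp.out).1 (hx ▸ orderOf_map_dvd _ x)).resolve_left fun e => hxS ?_
      rwa [orderOf_eq_one_iff, QuotientGroup.mk'_apply, QuotientGroup.eq_one_iff] at e
    refine hp2 ?_
    rw [S.card_eq_card_quotient_mul_card_subgroup, pow_two]
    exact Nat.mul_dvd_mul (h1 ▸ orderOf_dvd_natCard _) hSp
  obtain ⟨y, hy⟩ := exists_prime_orderOf_dvd_card' (G := X) p hdiv
  have hnc : ¬ ∀ x y : ↥S, x * y = y * x := fun hc => by
    refine hn ?_
    have : IsMulCommutative ↥S := ⟨⟨hc⟩⟩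
    let P : Sylow p ↥S := Classical.arbitrary _
    haveI : (P : Subgroup ↥S).Characteristic := Sylow.characteristic_of_normal P inferInstance
    have hR : ((P : Subgroup ↥S).map S.subtype).Normal := inferInstance
    obtain ⟨Q, hQ⟩ := (P.2.map S.subtype).exists_le_sylow
    have hQ' : (P : Subgroup ↥S).map S.subtype = (Q : Subgroup X) := by
      refine Subgroup.eq_of_le_of_card_ge hQ ?_
      rw [hsy, card_map_of_injective S.subtype_injective]
      obtain ⟨x, hx⟩ := exists_prime_orderOf_dvd_card' (G := ↥(P : Subgroup ↥S)) p (P.dvd_card_of_dvd_card hSp)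
      exact Nat.le_of_dvd Nat.card_pos ((dvd_of_eq hx.symm).trans (orderOf_dvd_natCard x))
    haveI := Sylow.unique_of_normal Q (hQ' ▸ hR)
    exact Nat.card_unique
  have hcen : centralizer (S : Set X) = ⊥ := by
    by_contra hne
    have hCn : (centralizer (S : Set X)).Normal := inferInstance
    rcases hmin _ (inferInstance : (centralizer (S : Set X) ⊓ S).Normal) inf_le_right with e | e
    · exact inf_ne_bot hp2 hCn hS (prime_dvd_normal hcard h2 h3 hCn hne) hSp e
    · refine hnc fun x z => Subtype.ext ?_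
      have hz : (z : X) ∈ centralizer (S : Set X) := (e.symm ▸ z.2 : (z : X) ∈ centralizer (S : Set X) ⊓ S).1
      exact mem_centralizer_iff.1 hz x x.2
  have hdS : Nat.card ↥S ∣ 2 ^ a * 3 ^ b * p := (card_subgroup_dvd_card S).trans hcard
  have hp2S : ¬ p ^ 2 ∣ Nat.card ↥S := fun h => hp2 (h.trans (card_subgroup_dvd_card S))
  have hSn : ∀ {L : Subgroup ↥S}, L.Normal → L ≠ ⊥ → p ∣ Nat.card ↥L := fun hL hne =>
    prime_dvd_normal hdS (no_pgroup_of_normal h2 S) (no_pgroup_of_normal h3 S) hL hne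
  haveI : Nontrivial ↥S := S.nontrivial_iff_ne_bot.2 hS1
  have hsimple : IsSimpleGroup ↥S := by
    obtain ⟨L, hL, -, hL1, hLmin⟩ :=
      Cfsg.Lib.CITExt.exists_minimal_normal (normal_top : (⊤ : Subgroup ↥S).Normal) top_ne_bot
    have huniq : ∀ M : Subgroup ↥S, M.Normal → M ≠ ⊥ → L ≤ M := fun M hM hM1 => by
      haveI := hM
      haveI := hL
      rcases hLmin (L ⊓ M) inferInstance inf_le_left with e | e
      · exact absurd e (inf_ne_bot hp2S hL hM (hSn hL hL1) (hSn hM hM1))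
      · exact inf_eq_left.1 e
    have hLX : (L.map S.subtype).Normal := by
      constructor
      rintro _ ⟨x, hx, rfl⟩ g
      refine ⟨MulAut.conjNormal g x, ?_, MulAut.conjNormal_apply g x⟩
      have hn' : (L.comap (MulAut.conjNormal g : MulAut ↥S).toMonoidHom).Normal := hL.comap _
      exact huniq _ hn' (fun e => hL1 (by
        rw [← map_comap_eq_self_of_surjective (f := (MulAut.conjNormal g : MulAut ↥S).toMonoidHom)
          (MulAut.conjNormal g : MulAut ↥S).surjective L, e, Subgroup.map_bot])) hx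
    have hLtop : L = ⊤ := by
      rcases hmin _ hLX (map_subtype_le L) with e | e
      · exact absurd ((map_eq_bot_iff_of_injective _ S.subtype_injective).1 e) hL1
      · refine eq_top_iff.2 fun x _ => ?_
        obtain ⟨z, hz, hzx⟩ : (x : X) ∈ L.map S.subtype := e.symm ▸ x.2
        exact Subtype.ext hzx ▸ hz
    exact ⟨fun M hM => or_iff_not_imp_left.2 fun hM1 => eq_top_iff.2 (hLtop ▸ huniq M hM hM1)⟩
  refine ⟨S, hS, hsimple, hnc, hmem, hcen, ?_, hSp⟩
  have hsyS : ∀ P : Sylow p ↥S, Nat.card ↥(P : Subgroup ↥S) = p := fun P => by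
    obtain ⟨m, hm⟩ := hSp
    simpa using Cfsg.Lib.Small.card_sylow_of_factor P (a := 1) (m := m) (by rw [hm, pow_one])
      fun h => hp2S (by rw [hm, pow_two]; exact Nat.mul_dvd_mul_left p h)
  have he : cnt ↥S p = cnt X p := Nat.card_congr
    { toFun := fun g => ⟨g.1, by rw [Subgroup.orderOf_coe]; exact g.2⟩
      invFun := fun g => ⟨⟨g.1, hmem g.1 g.2⟩, by rw [← Subgroup.orderOf_coe]; exact g.2⟩
      left_inv := fun _ => rfl
      right_inv := fun _ => rfl }
  rw [M12Nse.cnt_prime hsy, M12Nse.cnt_prime hsyS] at he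
  exact Nat.eq_of_mul_eq_mul_left (by have := hp.out.two_le; omega) he

end Cfsg.Lib.M24Nse
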