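import Cfsg.Agent.M24Nse.Orders
import Cfsg.Agent.S3995

/-!
The set of element orders and the number of elements of each order.
-/

set_option autoImplicit false
set_option linter.unusedSectionVars false
set_option linter.style.haveILetI false
set_option maxRecDepth 100000

namespace Cfsg.Lib.M24Nse

open Subgroup Cfsg.Lib.SameOrder Cfsg.Lib.Small

/-- candidate orders with a divisor of the totient and some maximal divisors -/
def specRows : List (ℕ × ℕ × List ℕ) := [
  (253, 220, [11, 23]),
  (55, 40, [5, 11]),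
  (22, 10, [2, 11]),
  (21, 12, [3, 7]),
  (15, 8, [3, 5]),
  (14, 6, [2, 7]),
  (10, 4, [2, 5]),
  (110, 40, [10, 22, 55]),
  (9, 6, [3]),
  (63, 36, [9, 21]),
  (27, 18, [9]),
  (6, 2, [2, 3]),
  (42, 12, [6, 14, 21]),
  (30, 8, [6, 10, 15]),
  (18, 6, [6, 9]),
  (126, 36, [18, 42, 63]),
  (54, 18, [18, 27]),
  (4, 2, [2]),
  (20, 8, [4, 10]),
  (12, 4, [4, 6]),
  (60, 16, [12, 20, 30]),
  (36, 12, [12, 18]),
  (108, 36, [36, 54]),
  (8, 4, [4]),
  (40, 16, [8, 20]),
  (24, 8, [8, 12]),
  (120, 32, [24, 40, 60]),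
  (72, 24, [24, 36]),
  (216, 72, [72, 108]),
  (16, 8, [8]),
  (80, 32, [16, 40]),
  (48, 16, [16, 24]),
  (240, 64, [48, 80, 120]),
  (144, 48, [48, 72]),
  (432, 1, [144, 216]),
  (32, 16, [16]),
  (96, 32, [32, 48]),
  (288, 1, [96, 144]),
  (864, 1, [288, 432]),
  (64, 32, [32]),
  (192, 64, [64, 96]),
  (576, 1, [192, 288]),
  (1728, 1, [576, 864]),
  (128, 64, [64]),
  (384, 1, [128, 192]),
  (1152, 1, [384, 576]),
  (3456, 1, [1152, 1728]),
  (256, 128, [128]),
  (768, 1, [256, 384]),
  (2304, 1, [768, 1152]),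
  (6912, 1, [2304, 3456]),
  (512, 1, [256]),
  (1536, 1, [512, 768]),
  (4608, 1, [1536, 2304]),
  (13824, 1, [4608, 6912]),
  (1024, 1, [512]),
  (3072, 1, [1024, 1536]),
  (9216, 1, [3072, 4608]),
  (27648, 1, [9216, 13824])]

/-- the orders resolved first -/
def initAcc : List (ℕ × ℕ) :=
  [(1, 1), (2, 43263), (3, 712448), (5, 4080384), (7, 11658240), (11, 22256640), (23, 21288960)]

/-- the counts of the other orders -/
def remVals : List ℕ := [5100480, 20401920, 15301440, 12241152, 40803840, 34974720, 32643072, 23316480]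

/-- sum over the assigned orders dividing a number -/
def divSum (acc : List (ℕ × ℕ)) (n : ℕ) : ℕ := ((acc.filter fun p => n % p.1 == 0).map Prod.snd).sum

/-- all values are placed correctly -/
def finalOK (acc : List (ℕ × ℕ)) : Bool :=
  acc.all (fun p => expected p.1 == p.2) && cntTab.all (fun e => acc.contains e)

/-- every admissible completion is correct -/
def search : List (ℕ × ℕ × List ℕ) → List (ℕ × ℕ) → List ℕ → Bool
  | rs, acc, [] => !((rs.all fun r => divSum acc r.1 % r.1 == 0) && divSum acc 35840 % 35840 == 0) || finalOK acc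
  | [], _, _ :: _ => true
  | (n, ph, ds) :: r, acc, w :: rem =>
    (!(divSum acc n % n == 0) || search r acc (w :: rem)) &&
    (w :: rem).all fun v =>
      !(v % ph == 0 && (divSum acc n + v) % n == 0 && ds.all fun d => (acc.map Prod.fst).contains d) ||
        search r ((n, v) :: acc) ((w :: rem).erase v)

/-- no later order divides an earlier one -/
def wfRows : List (ℕ × ℕ × List ℕ) → Bool
  | [] => true
  | (n, _, ds) :: r => r.all (fun e => !(n % e.1 == 0)) && ds.all (fun d => n % d == 0 && decide (d < n)) && wfRows r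

theorem search_good : search specRows initAcc remVals = true := by decide +kernel

theorem rows_wf : wfRows specRows = true ∧
    specRows.all (fun r => decide (244823040 % r.1 = 0) && decide (0 < r.1) &&
      (if r.1 ≤ 256 then decide (Nat.totient r.1 = r.2.1) else decide (r.2.1 = 1))) = true ∧
    (initAcc.map Prod.fst ++ specRows.map (·.1)).Nodup := by decide +kernel

/-- the orders that may occur -/
def cand : List ℕ := initAcc.map Prod.fst ++ specRows.map (·.1)

theorem cand_facts : (∀ a : Fin 11, ∀ b : Fin 4, 2 ^ (a : ℕ) * 3 ^ (b : ℕ) ∈ cand) ∧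
    (∀ d ∈ Nat.divisors 240 ∪ Nat.divisors 126 ∪ Nat.divisors 110 ∪ Nat.divisors 253, d ∈ cand) := by decide +kernel

/-- facts about a function of the orders used by the search -/
structure SOK (f : ℕ → ℕ) : Prop where
  supp : ∀ d, f d ≠ 0 → d ∈ cand
  inj : ∀ d e, f d ≠ 0 → f d = f e → d = e
  surj : ∀ v ∈ remVals, ∃ d, f d = v
  frob : ∀ n, n ∣ 244823040 → n ∣ ∑ d ∈ Nat.divisors n, f d
  clos : ∀ n d, f n ≠ 0 → d ∣ n → f d ≠ 0
  phi : ∀ n, Nat.totient n ∣ f n

theorem divSum_eq {f : ℕ → ℕ} {acc : List (ℕ × ℕ)} (hk : (acc.map Prod.fst).Nodup) (hacc : ∀ p ∈ acc, f p.1 = p.2)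
    {n : ℕ} (hn : n ≠ 0) (hsupp : ∀ d, d ∣ n → f d ≠ 0 → d ∈ acc.map Prod.fst) :
    ∑ d ∈ Nat.divisors n, f d = divSum acc n := by
  classical
  set L := (acc.filter fun p => n % p.1 == 0).map Prod.fst
  have hL : L.Nodup := hk.sublist ((List.filter_sublist (l := acc)).map _)
  have hval : (L.map f).sum = divSum acc n := by
    simp only [L, divSum, List.map_map]
    congr 1
    exact List.map_congr_left fun p hp => hacc p (List.mem_filter.1 hp).1
  rw [← hval, ← List.sum_toFinset f hL]
  refine (Finset.sum_subset ?_ ?_).symm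
  · intro d hd
    simp only [L, List.mem_toFinset, List.mem_map, List.mem_filter, beq_iff_eq] at hd
    obtain ⟨p, ⟨-, hp⟩, rfl⟩ := hd
    exact Nat.mem_divisors.2 ⟨Nat.dvd_of_mod_eq_zero hp, hn⟩
  · intro d hd hd'
    by_contra hne
    obtain ⟨p, hp, rfl⟩ := List.mem_map.1 (hsupp d (Nat.mem_divisors.1 hd).1 hne)
    exact hd' (by
      simp only [L, List.mem_toFinset, List.mem_map, List.mem_filter, beq_iff_eq]
      exact ⟨p, ⟨hp, Nat.mod_eq_zero_of_dvd (Nat.mem_divisors.1 hd).1⟩, rfl⟩)

theorem search_sound {f : ℕ → ℕ} (S : SOK f) : ∀ (rs : List (ℕ × ℕ × List ℕ)) (acc : List (ℕ × ℕ)) (rem : List ℕ),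
    wfRows rs = true →
    (∀ r ∈ rs, r.1 ∣ 244823040 ∧ 0 < r.1 ∧ r.2.1 ∣ f r.1) →
    (acc.map Prod.fst ++ rs.map (·.1)).Nodup →
    (∀ p ∈ acc, f p.1 = p.2) →
    (∀ d, f d ≠ 0 → d ∈ acc.map Prod.fst ∨ d ∈ rs.map (·.1)) →
    (∀ d ∈ rs.map (·.1), f d ≠ 0 → f d ∈ rem) →
    rem.Nodup → (∀ v ∈ rem, v ∈ remVals ∧ v ∉ acc.map Prod.snd) →
    search rs acc rem = true → ∀ n, f n = expected n := by
  intro rs
  induction rs with
  | nil =>
    intro acc rem _ _ hnd hacc hsupp hfull hrn hrem hs
    cases rem with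
    | cons w rem =>
      exfalso
      obtain ⟨hw, hw'⟩ := hrem w List.mem_cons_self
      obtain ⟨d, hd⟩ := S.surj w hw
      have hne : f d ≠ 0 := by rw [hd]; intro h; subst h; revert hw; decide
      rcases hsupp d hne with h | h
      · obtain ⟨p, hp, rfl⟩ := List.mem_map.1 h
        exact hw' (hd ▸ hacc p hp ▸ List.mem_map_of_mem hp)
      · simp at h
    | nil =>
      exact final S [] acc (by simp) hnd hacc hsupp hfull hs
  | cons row r ih =>
    obtain ⟨n, ph, ds⟩ := row
    intro acc rem hwf hrows hnd hacc hsupp hfull hrn hrem hs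
    cases rem with
    | nil => exact final S _ acc hrows hnd hacc hsupp hfull hs
    | cons w rem =>
    simp only [wfRows, Bool.and_eq_true, List.all_eq_true, Bool.not_eq_true', beq_eq_false_iff_ne,
      decide_eq_true_eq, beq_iff_eq] at hwf
    obtain ⟨⟨hlater, hds⟩, hwf⟩ := hwf
    obtain ⟨hn, hn0, hph⟩ := hrows (n, ph, ds) List.mem_cons_self
    have hnd' : n ∉ acc.map Prod.fst ∧ n ∉ r.map (·.1) ∧ (acc.map Prod.fst ++ r.map (·.1)).Nodup := by
      simp only [List.map_cons, List.nodup_middle, List.nodup_cons, List.mem_append] at hnd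
      exact ⟨fun h => hnd.1 (Or.inl h), fun h => hnd.1 (Or.inr h), hnd.2⟩
    have hkey : (acc.map Prod.fst).Nodup := (List.nodup_append.1 hnd'.2.2).1
    have hdiv : ∀ d, d ∣ n → d ≠ n → f d ≠ 0 → d ∈ acc.map Prod.fst := fun d hd hdn hne => by
      rcases hsupp d hne with h | h
      · exact h
      simp only [List.map_cons, List.mem_cons] at h
      rcases h with h | h
      · exact absurd h hdn
      · obtain ⟨e, he, rfl⟩ := List.mem_map.1 h
        exact absurd (Nat.mod_eq_zero_of_dvd hd) (hlater e he)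
    have hsum : ∑ d ∈ Nat.divisors n, f d = divSum acc n + f n := by
      classical
      have h := divSum_eq (f := fun d => if d = n then 0 else f d) hkey
        (fun p hp => by
          show (if p.1 = n then 0 else f p.1) = p.2
          rw [if_neg fun e => hnd'.1 (by rw [← e]; exact List.mem_map_of_mem hp)]
          exact hacc p hp)
        hn0.ne' fun d hd hne => by
          by_cases e : d = n
          · simp [e] at hne
          · exact hdiv d hd e (by simpa [e] using hne)
      rw [← h, ← Finset.sum_erase_add _ _ (Nat.mem_divisors.2 ⟨dvd_rfl, hn0.ne'⟩),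
        ← Finset.sum_erase_add _ (fun d => if d = n then 0 else f d) (Nat.mem_divisors.2 ⟨dvd_rfl, hn0.ne'⟩)]
      simp only [if_pos, add_zero]
      congr 1
      exact Finset.sum_congr rfl fun d hd => (if_neg (Finset.ne_of_mem_erase hd)).symm
    have hmod : (divSum acc n + f n) % n = 0 := Nat.mod_eq_zero_of_dvd (hsum ▸ S.frob n hn)
    simp only [search, Bool.and_eq_true, List.all_eq_true] at hs
    obtain ⟨hs0, hsv⟩ := hs
    have hr : ∀ x ∈ r, x.1 ∣ 244823040 ∧ 0 < x.1 ∧ x.2.1 ∣ f x.1 := fun x hx => hrows x (List.mem_cons_of_mem _ hx)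
    by_cases h0 : f n = 0
    · rw [h0, add_zero] at hmod
      have hb : search r acc (w :: rem) = true := by simpa [hmod] using hs0
      refine ih acc (w :: rem) hwf hr hnd'.2.2 hacc ?_ (fun d hd => hfull d (List.mem_cons_of_mem _ hd)) hrn hrem hb
      intro d hd
      rcases hsupp d hd with h | h
      · exact Or.inl h
      · simp only [List.map_cons, List.mem_cons] at h
        rcases h with rfl | h
        exacts [absurd h0 hd, Or.inr h]
    · set v := f n with hv
      have hvm : v ∈ w :: rem := hfull n List.mem_cons_self h0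
      have hcond : (v % ph == 0 && (divSum acc n + v) % n == 0 && ds.all fun d => (acc.map Prod.fst).contains d) = true := by
        simp only [Bool.and_eq_true, beq_iff_eq, List.all_eq_true, List.contains_iff_mem]
        refine ⟨⟨Nat.mod_eq_zero_of_dvd hph, hmod⟩, fun d hd => ?_⟩
        obtain ⟨hdn, hlt⟩ := hds d hd
        exact hdiv d (Nat.dvd_of_mod_eq_zero hdn) hlt.ne (S.clos n d h0 (Nat.dvd_of_mod_eq_zero hdn))
      have hb : search r ((n, v) :: acc) ((w :: rem).erase v) = true := by
        have := hsv v hvm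
        rw [hcond] at this
        simpa using this
      refine ih ((n, v) :: acc) ((w :: rem).erase v) hwf hr ?_ ?_ ?_ ?_ (hrn.erase _) ?_ hb
      · simp only [List.map_cons, List.cons_append, List.nodup_cons, List.mem_append]
        exact ⟨fun h => h.elim hnd'.1 hnd'.2.1, hnd'.2.2⟩
      · intro p hp
        rcases List.mem_cons.1 hp with rfl | hp
        exacts [rfl, hacc p hp]
      · intro d hd
        rcases hsupp d hd with h | h
        · exact Or.inl (List.mem_cons_of_mem _ h)
        · simp only [List.map_cons, List.mem_cons] at h ⊢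
          rcases h with rfl | h
          exacts [Or.inl (Or.inl rfl), Or.inr h]
      · intro d hd hne
        refine (List.mem_erase_of_ne fun e => ?_).2 (hfull d (List.mem_cons_of_mem _ hd) hne)
        exact hnd'.2.1 ((S.inj d n hne e) ▸ hd)
      · intro u hu
        obtain ⟨hu1, hu2⟩ := (List.Nodup.mem_erase_iff hrn).1 hu
        refine ⟨(hrem u hu2).1, ?_⟩
        simp only [List.map_cons, List.mem_cons, not_or]
        exact ⟨hu1, (hrem u hu2).2⟩
where
  final {f : ℕ → ℕ} (S : SOK f) (rs : List (ℕ × ℕ × List ℕ)) (acc : List (ℕ × ℕ))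
      (hrows : ∀ r ∈ rs, r.1 ∣ 244823040 ∧ 0 < r.1 ∧ r.2.1 ∣ f r.1)
      (hnd : (acc.map Prod.fst ++ rs.map (·.1)).Nodup) (hacc : ∀ p ∈ acc, f p.1 = p.2)
      (hsupp : ∀ d, f d ≠ 0 → d ∈ acc.map Prod.fst ∨ d ∈ rs.map (·.1))
      (hfull : ∀ d ∈ rs.map (·.1), f d ≠ 0 → f d ∈ ([] : List ℕ))
      (hs : search rs acc [] = true) : ∀ n, f n = expected n := by
    classical
    have hkey : (acc.map Prod.fst).Nodup := (List.nodup_append.1 hnd).1
    have hz : ∀ d, f d ≠ 0 → d ∈ acc.map Prod.fst := fun d hd =>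
      (hsupp d hd).resolve_right fun h => by simpa using hfull d h hd
    have hmod : ∀ n, 0 < n → n ∣ 244823040 → divSum acc n % n = 0 := fun n hn0 hn =>
      Nat.mod_eq_zero_of_dvd (divSum_eq hkey hacc hn0.ne' (fun d _ => hz d) ▸ S.frob n hn)
    have h1 : (rs.all fun r => divSum acc r.1 % r.1 == 0) = true := by
      simp only [List.all_eq_true, beq_iff_eq]
      exact fun r hr => hmod r.1 (hrows r hr).2.1 (hrows r hr).1
    have h2 : (divSum acc 35840 % 35840 == 0) = true := beq_iff_eq.2 (hmod _ (by norm_num) (by norm_num))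
    have hok : finalOK acc = true := by
      cases rs <;> simp only [search, h1, h2, Bool.and_self, Bool.not_true, Bool.false_or] at hs <;> exact hs
    simp only [finalOK, Bool.and_eq_true, List.all_eq_true, beq_iff_eq, List.contains_iff_mem] at hok
    intro n
    by_cases hn : f n = 0
    · rw [hn]
      unfold expected
      cases he : cntTab.find? fun e => e.1 == n with
      | none => rfl
      | some e =>
        have hm := List.mem_of_find?_eq_some he
        have h1 : e.1 = n := by simpa using List.find?_some he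
        have := hacc e (hok.2 e hm)
        rw [h1, hn] at this
        simp [← this]
    · obtain ⟨p, hp, rfl⟩ := List.mem_map.1 (hz n hn)
      rw [hacc p hp, hok.1 p hp]

universe u

variable {G : Type u} [Group G] [Finite G] (H : Hyp G)

local instance fact_five_mfs : Fact (Nat.Prime 5) := ⟨by norm_num⟩
local instance fact_seven_mfs : Fact (Nat.Prime 7) := ⟨by norm_num⟩
local instance fact_eleven_mfs : Fact (Nat.Prime 11) := ⟨by norm_num⟩
local instance fact_twenty_three_mfs : Fact (Nat.Prime 23) := ⟨by norm_num⟩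

include H

theorem order_mem_cand (g : G) : orderOf g ∈ cand := by
  by_cases h23 : 23 ∣ orderOf g
  · refine cand_facts.2 _ (Finset.mem_union_right _ (Nat.mem_divisors.2 ⟨?_, by norm_num⟩))
    exact order_dvd H (sylow_twenty_three H) (by rw [(cnt_twenty_three H).2]) h23
  by_cases h11 : 11 ∣ orderOf g
  · refine cand_facts.2 _ (Finset.mem_union_left _ (Finset.mem_union_right _ (Nat.mem_divisors.2 ⟨?_, by norm_num⟩)))
    exact order_dvd H (sylow_eleven H) (by rw [(cnt_eleven H).2]) h11
  by_cases h7 : 7 ∣ orderOf g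
  · refine cand_facts.2 _ (Finset.mem_union_left _ (Finset.mem_union_left _ (Finset.mem_union_right _
      (Nat.mem_divisors.2 ⟨?_, by norm_num⟩))))
    exact order_dvd H (sylow_seven H) (by rw [(cnt_seven H).2]) h7
  by_cases h5 : 5 ∣ orderOf g
  · refine cand_facts.2 _ (Finset.mem_union_left _ (Finset.mem_union_left _ (Finset.mem_union_left _
      (Nat.mem_divisors.2 ⟨?_, by norm_num⟩))))
    exact order_dvd H (sylow_five H) (by rw [(cnt_five H).2]) h5
  have hd : orderOf g ∣ 2 ^ 10 * 3 ^ 3 := by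
    have h : orderOf g ∣ 2 ^ 10 * 3 ^ 3 * (5 * 7 * 11 * 23) := by
      rw [show 2 ^ 10 * 3 ^ 3 * (5 * 7 * 11 * 23) = Nat.card G by rw [H.card]; norm_num]
      exact orderOf_dvd_natCard g
    refine Nat.Coprime.dvd_of_dvd_mul_right ?_ h
    exact Nat.Coprime.mul_right (Nat.Coprime.mul_right (Nat.Coprime.mul_right
      ((Nat.Prime.coprime_iff_not_dvd (by norm_num)).2 h5).symm ((Nat.Prime.coprime_iff_not_dvd (by norm_num)).2 h7).symm)
      ((Nat.Prime.coprime_iff_not_dvd (by norm_num)).2 h11).symm)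
      ((Nat.Prime.coprime_iff_not_dvd (by norm_num)).2 h23).symm
  obtain ⟨d1, d2, h1, h2, he⟩ := Nat.dvd_mul.1 hd
  obtain ⟨a, ha, rfl⟩ := (Nat.dvd_prime_pow Nat.prime_two).1 h1
  obtain ⟨b, hb, rfl⟩ := (Nat.dvd_prime_pow Nat.prime_three).1 h2
  rw [← he]
  exact cand_facts.1 ⟨a, by omega⟩ ⟨b, by omega⟩

theorem cnt_inj {m n : ℕ} (hn : cnt G n ≠ 0) (he : cnt G n = cnt G m) : n = m := by
  classical
  by_contra hne
  have hm : cnt G m ≠ 0 := he ▸ hn
  set T := nseVals.tail.toFinset
  have hsel : ∀ v : ℕ, ∃ d, v ∈ T → cnt G d = v := fun v => by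
    by_cases hv : v ∈ T
    · obtain ⟨d, hd⟩ := H.surj v (List.mem_toFinset.1 hv)
      exact ⟨d, fun _ => hd⟩
    · exact ⟨0, fun h => absurd h hv⟩
  choose s hs using hsel
  let s' : ℕ → ℕ := fun v => if v = cnt G n then n else s v
  have hs' : ∀ v ∈ T, cnt G (s' v) = v := fun v hv => by
    by_cases h : v = cnt G n
    · simp [s', h]
    · simp [s', h, hs v hv]
  have hmS : m ∉ T.image s' := fun h => by
    obtain ⟨v, hv, rfl⟩ := Finset.mem_image.1 h
    rw [hs' v hv] at he
    exact hne (by simp [s', he])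
  have hsum : ∑ d ∈ insert m (T.image s'), cnt G d = cnt G m + 244823040 := by
    rw [Finset.sum_insert hmS, Finset.sum_image fun a ha b hb e => by rw [← hs' a ha, e, hs' b hb]]
    rw [Finset.sum_congr rfl hs', show ∑ v ∈ T, v = 244823040 by decide +kernel]
  have := Fintype.ofFinite G
  have hle : ∑ d ∈ insert m (T.image s'), cnt G d ≤ Nat.card G := by
    simp only [cnt, Nat.card_eq_fintype_card, Fintype.card_subtype]
    rw [← Finset.card_biUnion fun a _ b _ hab => Finset.disjoint_filter.2 fun x _ h1 h2 => hab (h1 ▸ h2)]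
    exact Finset.card_le_univ _
  rw [hsum, H.card] at hle
  omega

theorem counts : Counts G := by
  classical
  refine ⟨H.card, search_sound ?_ specRows initAcc remVals rows_wf.1 ?_ rows_wf.2.2 ?_ ?_ ?_ (by decide +kernel)
    (by decide +kernel) search_good⟩
  · refine ⟨fun d hd => ?_, fun d e hd h => cnt_inj H hd h, fun v hv => H.surj v ?_, fun n hn => ?_,
      fun n d hn hd => ?_, fun n => Cfsg.Agent.S3995.totient_dvd_card G n⟩
    · obtain ⟨g, rfl⟩ := (cnt_ne_zero_iff d).1 hd
      exact order_mem_cand H g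
    · have h : ∀ v ∈ remVals, v ∈ nseVals.tail := by decide +kernel
      exact h v hv
    · exact dvd_sum_divisors (H.card ▸ hn)
    · obtain ⟨g, rfl⟩ := (cnt_ne_zero_iff n).1 hn
      exact (cnt_ne_zero_iff d).2 ⟨g ^ (orderOf g / d), orderOf_pow_orderOf_div (orderOf_pos g).ne' hd⟩
  · intro r hr
    have h := List.all_eq_true.1 rows_wf.2.1 r hr
    simp only [Bool.and_eq_true, decide_eq_true_eq] at h
    obtain ⟨⟨h1, h2⟩, h3⟩ := h
    refine ⟨Nat.dvd_of_mod_eq_zero h1, h2, ?_⟩
    by_cases hr' : r.1 ≤ 256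
    · rw [if_pos hr', decide_eq_true_eq] at h3
      exact h3 ▸ Cfsg.Agent.S3995.totient_dvd_card G r.1
    · rw [if_neg hr', decide_eq_true_eq] at h3
      rw [h3]
      exact one_dvd _
  · simp [initAcc, cnt_one, cnt_two H, cnt_three H, (cnt_five H).1, (cnt_seven H).1, (cnt_eleven H).1,
      (cnt_twenty_three H).1]
  · intro d hd
    obtain ⟨g, rfl⟩ := (cnt_ne_zero_iff d).1 hd
    exact List.mem_append.1 (order_mem_cand H g)
  · intro d hd hne
    have h : ∀ v ∈ nseVals, v ≠ 0 → v ∈ remVals ∨ v ∈ initAcc.map Prod.snd := by decide +kernel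
    refine (h _ (H.mem d) hne).resolve_right fun hm => ?_
    obtain ⟨p, hp, he⟩ := List.mem_map.1 hm
    have hp' : cnt G p.1 = p.2 := by
      have : ∀ p ∈ initAcc, cnt G p.1 = p.2 := by
        simp [initAcc, cnt_one, cnt_two H, cnt_three H, (cnt_five H).1, (cnt_seven H).1, (cnt_eleven H).1,
          (cnt_twenty_three H).1]
      exact this p hp
    have := cnt_inj H hne (he.symm.trans hp'.symm)
    subst this
    exact (List.nodup_append.1 rows_wf.2.2).2.2 _ (List.mem_map_of_mem hp) _ hd rfl

end Cfsg.Lib.M24Nse
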