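import Mathlib.Data.List.Basic
import Mathlib.Data.Int.Basic
import Mathlib.Data.Nat.Sqrt
import Mathlib.Algebra.Ring.Int.Defs
import Mathlib.Tactic.NormNum
import Mathlib.Tactic.Ring

/-!
A table check for the signed degrees of the principal block and their values at two involutions, in a group of
order 11520.
-/

set_option autoImplicit false
set_option maxRecDepth 100000

namespace Cfsg.Lib.M24Nse.Order11520

/-- the possible signed degrees -/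
def degs : List ℤ := [-64, -24, -9, -4, 6, 16, 36, 96]

/-- a possible signed value at an involution with class of size `K` -/
def okR (K : ℕ) (z r : ℤ) : Bool :=
  decide (r.natAbs ≤ z.natAbs) && decide ((z - r) % 4 = 0) && decide (r ≠ z) && decide (((K : ℤ) * r) % z = 0)

/-- all possible signed values -/
def values (K : ℕ) (z : ℤ) : List ℤ :=
  ((List.range (2 * z.natAbs + 1)).map fun i : ℕ => (i : ℤ) - z.natAbs).filter (okR K z)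

/-- the numerator of one plus the sum of the quotients -/
def num (z₁ z₂ z₃ z₄ a b c d : ℤ) : ℤ :=
  z₁ * z₂ * z₃ * z₄ + a * z₂ * z₃ * z₄ + b * z₁ * z₃ * z₄ + c * z₁ * z₂ * z₄ + d * z₁ * z₂ * z₃

/-- one plus the sum of the squares -/
def sq (a b c d : ℤ) : ℤ := 1 + a * a + b * b + c * c + d * d

/-- no inverting involution is compatible with the given values -/
def noMixed (z₁ z₂ z₃ z₄ r₁ r₂ r₃ r₄ : ℤ) : Bool :=
  (values 11520 z₁).all fun s₁ => (values 11520 z₂).all fun s₂ => (values 11520 z₃).all fun s₃ =>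
    let s₄ := -1 - s₁ - s₂ - s₃
    decide (num z₁ z₂ z₃ z₄ (r₁ * s₁) (r₂ * s₂) (r₃ * s₃) (r₄ * s₄) ≠ 0) ||
    (let N := num z₁ z₂ z₃ z₄ (s₁ * s₁) (s₂ * s₂) (s₃ * s₃) (s₄ * s₄)
     let W : ℤ := 5 * 11520 * (z₁ * z₂ * z₃ * z₄)
     let K := Nat.sqrt (W / N).natAbs
     decide (N = 0) || decide (¬ ((K : ℤ) * K * N = W ∧ sq s₁ s₂ s₃ s₄ * K ≤ 11520)) ||
      !(okR K z₁ s₁ && okR K z₂ s₂ && okR K z₃ s₃ && okR K z₄ s₄))

/-- the value is zero or the degree is a multiple of nine -/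
def nine (z r : ℤ) : Bool := decide (r = 0) || decide (z % 9 = 0)

/-- the values at a central involution -/
def leaf (z₁ z₂ z₃ z₄ : ℤ) : Bool :=
  [3, 5, 9, 15, 45].all fun K : ℕ =>
    (values K z₁).all fun r₁ => (values K z₂).all fun r₂ => (values K z₃).all fun r₃ =>
      let r₄ := -1 - r₁ - r₂ - r₃
      !(okR K z₄ r₄ && decide (sq r₁ r₂ r₃ r₄ * K ≤ 11520)) ||
      (let N := num z₁ z₂ z₃ z₄ (r₁ * r₁) (r₂ * r₂) (r₃ * r₃) (r₄ * r₄)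
       decide ((K : ℤ) * K * N ≠ 5 * 11520 * (z₁ * z₂ * z₃ * z₄)) &&
        (decide (N ≠ 0) || (nine z₁ r₁ && nine z₂ r₂ && nine z₃ r₃ && nine z₄ r₄) ||
          noMixed z₁ z₂ z₃ z₄ r₁ r₂ r₃ r₄))

/-- the check -/
def checkAll : Bool :=
  degs.all fun z₁ => degs.all fun z₂ => degs.all fun z₃ => degs.all fun z₄ =>
    !(decide (z₁ + z₂ + z₃ + z₄ = -1) && decide (z₁ ≤ z₂) && decide (z₂ ≤ z₃) && decide (z₃ ≤ z₄) &&
      decide (sq z₁ z₂ z₃ z₄ ≤ 11520)) || leaf z₁ z₂ z₃ z₄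

theorem checkAll_ok : checkAll = true := by decide +kernel

theorem mem_values {K : ℕ} {z r : ℤ} (h : okR K z r = true) : r ∈ values K z := by
  refine List.mem_filter.2 ⟨List.mem_map.2 ⟨(r + z.natAbs).toNat, List.mem_range.2 ?_, ?_⟩, h⟩ <;>
    simp only [okR, Bool.and_eq_true, decide_eq_true_eq] at h <;> omega

theorem okR_mono {K : ℕ} (hK : K ∣ 11520) {z r : ℤ} (h : okR K z r = true) : okR 11520 z r = true := by
  simp only [okR, Bool.and_eq_true, decide_eq_true_eq] at h ⊢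
  refine ⟨h.1, ?_⟩
  obtain ⟨q, hq⟩ := hK
  rw [hq]
  push_cast
  rw [show (K : ℤ) * q * r = q * (K * r) by ring]
  exact Int.emod_eq_zero_of_dvd ((Int.dvd_of_emod_eq_zero h.2).mul_left _)

theorem check_sound {z₁ z₂ z₃ z₄ r₁ r₂ r₃ r₄ s₁ s₂ s₃ s₄ : ℤ} {K L : ℕ}
    (hz₁ : z₁ ∈ degs) (hz₂ : z₂ ∈ degs) (hz₃ : z₃ ∈ degs) (hz₄ : z₄ ∈ degs)
    (h12 : z₁ ≤ z₂) (h23 : z₂ ≤ z₃) (h34 : z₃ ≤ z₄) (hsum : z₁ + z₂ + z₃ + z₄ = -1)
    (hsq : sq z₁ z₂ z₃ z₄ ≤ 11520) (hK : K ∈ [3, 5, 9, 15, 45])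
    (hr₁ : okR K z₁ r₁ = true) (hr₂ : okR K z₂ r₂ = true) (hr₃ : okR K z₃ r₃ = true) (hr₄ : okR K z₄ r₄ = true)
    (hrsum : r₁ + r₂ + r₃ + r₄ = -1) (hrsq : sq r₁ r₂ r₃ r₄ * K ≤ 11520)
    (hu : (K : ℤ) * K * num z₁ z₂ z₃ z₄ (r₁ * r₁) (r₂ * r₂) (r₃ * r₃) (r₄ * r₄) =
        5 * 11520 * (z₁ * z₂ * z₃ * z₄) ∨
      num z₁ z₂ z₃ z₄ (r₁ * r₁) (r₂ * r₂) (r₃ * r₃) (r₄ * r₄) = 0 ∧
      L ∣ 11520 ∧ okR L z₁ s₁ = true ∧ okR L z₂ s₂ = true ∧ okR L z₃ s₃ = true ∧ okR L z₄ s₄ = true ∧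
        s₁ + s₂ + s₃ + s₄ = -1 ∧ sq s₁ s₂ s₃ s₄ * L ≤ 11520 ∧
        num z₁ z₂ z₃ z₄ (r₁ * s₁) (r₂ * s₂) (r₃ * s₃) (r₄ * s₄) = 0 ∧
        (L : ℤ) * L * num z₁ z₂ z₃ z₄ (s₁ * s₁) (s₂ * s₂) (s₃ * s₃) (s₄ * s₄) =
          5 * 11520 * (z₁ * z₂ * z₃ * z₄)) :
    (r₁ = 0 ∨ (9 : ℤ) ∣ z₁) ∧ (r₂ = 0 ∨ (9 : ℤ) ∣ z₂) ∧ (r₃ = 0 ∨ (9 : ℤ) ∣ z₃) ∧ (r₄ = 0 ∨ (9 : ℤ) ∣ z₄) := by
  have h0 := checkAll_ok
  simp only [checkAll, List.all_eq_true, Bool.or_eq_true, Bool.not_eq_true', Bool.and_eq_false_iff,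
    decide_eq_false_iff_not] at h0
  have h1 := (h0 z₁ hz₁ z₂ hz₂ z₃ hz₃ z₄ hz₄).resolve_left (by tauto)
  simp only [leaf, List.all_eq_true] at h1
  have h2 := h1 K hK r₁ (mem_values hr₁) r₂ (mem_values hr₂) r₃ (mem_values hr₃)
  rw [show -1 - r₁ - r₂ - r₃ = r₄ by omega, hr₄, decide_eq_true hrsq] at h2
  simp only [Bool.and_self, Bool.not_true, Bool.false_or, Bool.and_eq_true, Bool.or_eq_true, decide_eq_true_eq] at h2
  obtain ⟨h3, h4⟩ := h2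
  rcases hu with hu | ⟨hN, hL, hs₁, hs₂, hs₃, hs₄, hssum, hssq, hmix, hj⟩
  · exact absurd hu h3
  rcases h4 with (h4 | h4) | h4
  · exact absurd hN h4
  · simp only [nine, Bool.or_eq_true, decide_eq_true_eq] at h4
    exact ⟨h4.1.1.1.imp id Int.dvd_of_emod_eq_zero, h4.1.1.2.imp id Int.dvd_of_emod_eq_zero,
      h4.1.2.imp id Int.dvd_of_emod_eq_zero, h4.2.imp id Int.dvd_of_emod_eq_zero⟩
  · exfalso
    simp only [noMixed, List.all_eq_true] at h4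
    have h5 := h4 s₁ (mem_values (okR_mono hL hs₁)) s₂ (mem_values (okR_mono hL hs₂)) s₃
      (mem_values (okR_mono hL hs₃))
    rw [show -1 - s₁ - s₂ - s₃ = s₄ by omega] at h5
    simp only [hmix, ne_eq, not_true_eq_false, decide_false, Bool.false_or] at h5
    set N := num z₁ z₂ z₃ z₄ (s₁ * s₁) (s₂ * s₂) (s₃ * s₃) (s₄ * s₄)
    have hz : ∀ z ∈ degs, z ≠ 0 := by decide
    have hN0 : N ≠ 0 := fun e => by
      rw [e, mul_zero] at hj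
      have := mul_ne_zero (show (5 : ℤ) * 11520 ≠ 0 by norm_num)
        (mul_ne_zero (mul_ne_zero (mul_ne_zero (hz _ hz₁) (hz _ hz₂)) (hz _ hz₃)) (hz _ hz₄))
      exact this hj.symm
    have hL' : Nat.sqrt (5 * 11520 * (z₁ * z₂ * z₃ * z₄) / N).natAbs = L := by
      rw [← hj, Int.mul_ediv_cancel _ hN0, Int.natAbs_mul, Int.natAbs_natCast, Nat.sqrt_eq]
    rw [hL'] at h5
    simp only [hN0, decide_false, Bool.false_or, hs₁, hs₂, hs₃, hs₄, Bool.and_self, Bool.not_true, Bool.or_false,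
      decide_eq_true_eq] at h5
    exact h5 ⟨hj, hssq⟩

end Cfsg.Lib.M24Nse.Order11520
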