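import Cfsg.Agent.M24Nse.Counts
import Cfsg.Agent.S0497

/-!
The involutions in the centraliser of an element of order three, counted through the quotient by that element.
-/

set_option autoImplicit false
set_option linter.unusedSectionVars false
set_option linter.style.haveILetI false
set_option maxRecDepth 100000

namespace Cfsg.Lib.M24Nse

open Subgroup Cfsg.Lib.SameOrder Cfsg.Lib.Small Cfsg.Lib.HeldCent

universe u

local instance fact_two_mftq : Fact (Nat.Prime 2) := ⟨Nat.prime_two⟩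
local instance fact_three_mftq : Fact (Nat.Prime 3) := ⟨Nat.prime_three⟩
local instance fact_five_mftq : Fact (Nat.Prime 5) := ⟨Nat.prime_five⟩
local instance fact_seven_mftq : Fact (Nat.Prime 7) := ⟨by norm_num⟩

theorem cnt_two_L3 : (Finset.univ.filter fun m : L3 => m ^ 2 = 1 ∧ m ≠ 1).card = 21 := by decide +kernel

/-- the involution of the model -/
def a6z : alternatingGroup (Fin 6) :=
  ⟨Equiv.swap 0 1 * Equiv.swap 2 3, Equiv.Perm.mem_alternatingGroup.2 (by decide +kernel)⟩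

/-- a square root of it -/
def a6a : alternatingGroup (Fin 6) :=
  ⟨Equiv.swap 0 2 * Equiv.swap 2 1 * Equiv.swap 1 3 * Equiv.swap 4 5,
    Equiv.Perm.mem_alternatingGroup.2 (by decide +kernel)⟩

/-- an involution inverting the root -/
def a6s : alternatingGroup (Fin 6) :=
  ⟨Equiv.swap 0 1 * Equiv.swap 4 5, Equiv.Perm.mem_alternatingGroup.2 (by decide +kernel)⟩

theorem a6_invols : (Finset.univ.filter fun m : alternatingGroup (Fin 6) => m ^ 2 = 1 ∧ m ≠ 1).card = 45 := by
  decide +kernel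

theorem a6_orbit : (Finset.univ.image fun h : alternatingGroup (Fin 6) => h * a6z * h⁻¹).card = 45 := by
  decide +kernel

theorem a6_roots : ∀ b : alternatingGroup (Fin 6), b * b = a6z → b = a6a ∨ b = a6a⁻¹ := by decide +kernel

theorem a6_cent : ∀ c : alternatingGroup (Fin 6), c * a6a = a6a * c → c = 1 ∨ c = a6a ∨ c = a6z ∨ c = a6a⁻¹ := by
  decide +kernel

theorem a6_rels : a6s * a6a * a6s⁻¹ = a6a⁻¹ ∧ a6a * a6a = a6z ∧ a6z ^ 2 = 1 ∧ a6z ≠ 1 := by decide +kernel

/-- the square roots of an involution -/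
theorem a6_root {z : alternatingGroup (Fin 6)} (hz : z ^ 2 = 1) (hz1 : z ≠ 1) :
    ∃ a s : alternatingGroup (Fin 6), a * a = z ∧ s * a * s⁻¹ = a⁻¹ ∧
      (∀ b, b * b = z → b = a ∨ b = a⁻¹) ∧ ∀ c, c * a = a * c → c = 1 ∨ c = a ∨ c = z ∨ c = a⁻¹ := by
  have hsub : (Finset.univ.image fun h : alternatingGroup (Fin 6) => h * a6z * h⁻¹) =
      Finset.univ.filter fun m : alternatingGroup (Fin 6) => m ^ 2 = 1 ∧ m ≠ 1 := by
    refine Finset.eq_of_subset_of_card_le (fun m hm => ?_) (by rw [a6_orbit, a6_invols])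
    obtain ⟨h, -, rfl⟩ := Finset.mem_image.1 hm
    refine Finset.mem_filter.2 ⟨Finset.mem_univ _, ?_, fun e => a6_rels.2.2.2 (conj_eq_one_iff.1 e)⟩
    rw [conj_pow, a6_rels.2.2.1, mul_one, mul_inv_cancel]
  obtain ⟨h, -, rfl⟩ : ∃ h ∈ Finset.univ, h * a6z * h⁻¹ = z :=
    Finset.mem_image.1 (hsub.symm ▸ Finset.mem_filter.2 ⟨Finset.mem_univ z, hz, hz1⟩)
  let σ := MulAut.conj h
  refine ⟨σ a6a, σ a6s, ?_, ?_, fun b hb => ?_, fun c hc => ?_⟩
  · rw [← map_mul, a6_rels.2.1]; rfl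
  · rw [← map_inv σ a6s, ← map_mul, ← map_mul, a6_rels.1, map_inv]
  · obtain ⟨b', rfl⟩ := σ.surjective b
    rw [← map_mul] at hb
    rcases a6_roots b' (σ.injective hb) with e | e
    · exact Or.inl (by rw [e])
    · exact Or.inr (by rw [e, map_inv])
  · obtain ⟨c', rfl⟩ := σ.surjective c
    rw [← map_mul, ← map_mul] at hc
    rcases a6_cent c' (σ.injective hc) with e | e | e | e
    · exact Or.inl (by rw [e, map_one])
    · exact Or.inr (Or.inl (by rw [e]))
    · exact Or.inr (Or.inr (Or.inl (by rw [e]; rfl)))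
    · exact Or.inr (Or.inr (Or.inr (by rw [e, map_inv])))

variable {D : Type u} [Group D] [Finite D]

theorem cnt_two_eq {X : Type*} [Group X] [Fintype X] [DecidableEq X] (e : D ≃* X) :
    cnt D 2 = (Finset.univ.filter fun m : X => m ^ 2 = 1 ∧ m ≠ 1).card := by
  rw [cnt, cnt_congr e, Nat.card_eq_fintype_card, Fintype.card_subtype]
  congr 1
  ext m
  simp only [Finset.mem_filter, Finset.mem_univ, true_and]
  constructor
  · intro h
    refine ⟨orderOf_dvd_iff_pow_eq_one.1 (dvd_of_eq h), fun e => ?_⟩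
    rw [e, orderOf_one] at h
    norm_num at h
  · exact fun h => orderOf_eq_prime h.1 h.2

variable (Z : Subgroup D) [Z.Normal] (hZ : Nat.card ↥Z = 3) (hZc : Z ≤ center D)

include hZ in
theorem quot_card : Nat.card (D ⧸ Z) * 3 = Nat.card D := by
  rw [← hZ]; exact (card_eq_card_quotient_mul_card_subgroup Z).symm

include hZ hZc in
/-- centralisers and normalizers modulo a central subgroup of order three -/
theorem quot_cent {p : ℕ} [Fact p.Prime] (hp3 : p ≠ 3) {x : D} (hx : orderOf x = p) :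
    orderOf (QuotientGroup.mk' Z x) = p ∧
      Nat.card ↥(centralizer ({QuotientGroup.mk' Z x} : Set (D ⧸ Z))) * 3 =
        Nat.card ↥(centralizer ({x} : Set D)) ∧
      Nat.card ↥(normalizer (zpowers (QuotientGroup.mk' Z x) : Set (D ⧸ Z))) * 3 =
        Nat.card ↥(normalizer (zpowers x : Set D)) := by
  have hp : p.Prime := Fact.out
  have hcop : (Nat.card ↥(QuotientGroup.mk' Z).ker).Coprime p := by
    rw [QuotientGroup.ker_mk', hZ]
    exact (Nat.coprime_primes Nat.prime_three hp).2 hp3.symm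
  have hxp : IsPGroup p ↥(zpowers x) := IsPGroup.of_card (n := 1) (by rw [Nat.card_zpowers, hx, pow_one])
  have hnorm := Cfsg.Lib.Components.normalizer_map_of_coprime_ker (p := p) (f := QuotientGroup.mk' Z)
    (QuotientGroup.mk'_surjective Z) hcop hxp
  rw [MonoidHom.map_zpowers] at hnorm
  have hcent := Cfsg.Lib.Components.centralizer_map_of_coprime_ker (p := p) (f := QuotientGroup.mk' Z)
    (QuotientGroup.mk'_surjective Z) hcop hxp
  have hle : Z ≤ centralizer ({x} : Set D) := fun z hz =>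
    mem_centralizer_singleton_iff.2 (mem_center_iff.1 (hZc hz) x).symm
  have hle' : Z ≤ normalizer (zpowers x : Set D) := fun z hz => MathieuEleven.mem_normalizer_zpowers (by
    rw [mem_centralizer_singleton_iff.1 (hle hz), mul_inv_cancel_right]; exact mem_zpowers x)
  refine ⟨((Nat.dvd_prime hp).1 (hx ▸ orderOf_map_dvd _ x)).resolve_left fun e => hp3 ?_, ?_, ?_⟩
  · rw [orderOf_eq_one_iff, QuotientGroup.mk'_apply, QuotientGroup.eq_one_iff] at e
    exact (Nat.prime_dvd_prime_iff_eq hp Nat.prime_three).1 (hx ▸ hZ ▸ Subgroup.orderOf_dvd_natCard Z e)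
  · rw [← hcent]
    have h := card_map_mul Z (centralizer ({x} : Set D))
    rwa [inf_eq_left.2 hle, hZ] at h
  · rw [← hnorm]
    have h := card_map_mul Z (normalizer (zpowers x : Set D))
    rwa [inf_eq_left.2 hle', hZ] at h

include hZ in
/-- two-elements of the quotient lift -/
theorem quot_lift {k : ℕ} {z : D ⧸ Z} (hz : orderOf z = 2 ^ k) :
    ∃ g : D, orderOf g = 2 ^ k ∧ QuotientGroup.mk' Z g = z ^ 3 := by
  obtain ⟨g, rfl⟩ := QuotientGroup.mk'_surjective Z z
  refine ⟨g ^ 3, Nat.dvd_antisymm (orderOf_dvd_of_pow_eq_one ?_) ?_, map_pow _ _ _⟩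
  · have h : g ^ 2 ^ k ∈ Z := by
      rw [← QuotientGroup.eq_one_iff, ← QuotientGroup.mk'_apply, map_pow, ← hz, pow_orderOf_eq_one]
    rw [← pow_mul, mul_comm, pow_mul, ← orderOf_dvd_iff_pow_eq_one]
    exact hZ ▸ Subgroup.orderOf_dvd_natCard Z h
  · have h : orderOf (QuotientGroup.mk' Z g ^ 3) = 2 ^ k := by
      rw [Nat.Coprime.orderOf_pow (by rw [hz]; exact Nat.Coprime.pow_left _ (by norm_num)), hz]
    rw [← h, ← map_pow]
    exact orderOf_map_dvd _ _

include hZ in
theorem quot_two_le : cnt (D ⧸ Z) 2 ≤ cnt D 2 := by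
  refine Nat.card_le_card_of_surjective
    (fun g : {g : D // orderOf g = 2} => (⟨QuotientGroup.mk' Z g.1, ?_⟩ : {z : D ⧸ Z // orderOf z = 2})) fun z => ?_
  · refine ((Nat.dvd_prime Nat.prime_two).1 ((orderOf_map_dvd (QuotientGroup.mk' Z) g.1).trans (dvd_of_eq g.2))).resolve_left fun e => ?_
    rw [orderOf_eq_one_iff, QuotientGroup.mk'_apply, QuotientGroup.eq_one_iff] at e
    have := hZ ▸ Subgroup.orderOf_dvd_natCard Z e
    rw [g.2] at this
    norm_num at this
  · obtain ⟨g, hg, e⟩ := quot_lift Z hZ (k := 1) (by rw [pow_one]; exact z.2)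
    refine ⟨⟨g, by rw [hg, pow_one]⟩, Subtype.ext ?_⟩
    show QuotientGroup.mk' Z g = z.1
    rw [e, pow_succ, show z.1 ^ 2 = 1 from orderOf_dvd_iff_pow_eq_one.1 (dvd_of_eq z.2), one_mul]

include hZ hZc in
/-- no involution of the quotient centralises an element of order three -/
theorem quot_no_three (hno : ∀ z : D, orderOf z = 2 → ¬ 9 ∣ Nat.card ↥(centralizer ({z} : Set D)))
    {w : D ⧸ Z} (hw : orderOf w = 2) : ¬ 3 ∣ Nat.card ↥(centralizer ({w} : Set (D ⧸ Z))) := by
  intro h3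
  obtain ⟨g, hg, e⟩ := quot_lift Z hZ (k := 1) (by rw [pow_one]; exact hw)
  rw [pow_succ, show w ^ 2 = 1 by rw [← hw, pow_orderOf_eq_one], one_mul] at e
  rw [pow_one] at hg
  have h := (quot_cent Z hZ hZc (p := 2) (by norm_num) hg).2.1
  rw [e] at h
  refine hno g hg ?_
  rw [← h]
  exact Nat.mul_dvd_mul_right h3 3

include hZ hZc in
/-- the case of a centraliser with elements of order seven -/
theorem seven_invols (hD : Nat.card D = 504) (hno : ∀ z : D, orderOf z = 2 → ¬ 9 ∣ Nat.card ↥(centralizer ({z} : Set D)))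
    {x : D} (hx : orderOf x = 7) (hC : Nat.card ↥(centralizer ({x} : Set D)) = 21)
    (hN : Nat.card ↥(normalizer (zpowers x : Set D)) ≤ 126) : 21 ≤ cnt D 2 := by
  refine le_trans ?_ (quot_two_le Z hZ)
  obtain ⟨ho, hc, hn⟩ := quot_cent Z hZ hZc (p := 7) (by norm_num) hx
  set xq := QuotientGroup.mk' Z x
  have hY : Nat.card (D ⧸ Z) = 168 := by have := quot_card Z hZ; omega
  have hC7 : Nat.card ↥(centralizer ({xq} : Set (D ⧸ Z))) = 7 := by omega
  have hS : ∀ P : Sylow 7 (D ⧸ Z), Nat.card ↥(P : Subgroup (D ⧸ Z)) = 7 := fun P => by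
    simpa using card_sylow_of_factor P (a := 1) (m := 24) (by rw [hY]; norm_num) (by norm_num)
  obtain ⟨P, hP⟩ := M12Nse.exists_sylow_zpowers hS ho
  have hn7 : Nat.card (Sylow 7 (D ⧸ Z)) = 8 := by
    have h1 := card_normalizer_mul P
    rw [hP, hY] at h1
    have h2 : 7 ∣ Nat.card ↥(normalizer (zpowers xq : Set (D ⧸ Z))) :=
      ho ▸ Subgroup.orderOf_dvd_natCard _ (le_normalizer (mem_zpowers xq))
    have h3 : Nat.card (Sylow 7 (D ⧸ Z)) % 7 = 1 := card_sylow_modEq_one 7 _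
    obtain ⟨q, hq⟩ := h2
    rw [hq] at h1
    have h4 : Nat.card (Sylow 7 (D ⧸ Z)) ∣ 24 := ⟨q, by
      refine Nat.eq_of_mul_eq_mul_left (show 0 < 7 by norm_num) ?_
      linear_combination -h1⟩
    have hall : ∀ d ∈ Nat.divisors 24, d % 7 = 1 → d = 1 ∨ d = 8 := by decide +kernel
    refine (hall _ (Nat.mem_divisors.2 ⟨h4, by norm_num⟩) h3).resolve_left fun e => ?_
    rw [e] at h1
    omega
  have hd : Nat.card (D ⧸ Z) ∣ 2 ^ 10 * 3 ^ 3 * 7 := by rw [hY]; norm_num
  have h3 : ∀ N : Subgroup (D ⧸ Z), N.Normal → IsPGroup 3 ↥N → N = ⊥ := fun N hN' h =>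
    no_three (Or.inr rfl) hd ho (by rw [hC7]; norm_num) hN' h
  have h2 : ∀ N : Subgroup (D ⧸ Z), N.Normal → IsPGroup 2 ↥N → N = ⊥ := by
    intro N hN' hp
    obtain ⟨k, hk⟩ := IsPGroup.iff_card.1 hp
    have hk3 : k ≤ 3 := by
      by_contra hlt
      have := (pow_dvd_pow 2 (by omega : 4 ≤ k)).trans (hk ▸ hY ▸ card_subgroup_dvd_card N)
      norm_num at this
    by_contra hne
    have hk0 : k ≠ 0 := fun e => hne (card_eq_one.1 (by rw [hk, e, pow_zero]))
    have hm := card_fixed_mod ho (N := N) fun a ha => hN'.conj_mem a ha xq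
    have hfix : Nat.card ↥(N ⊓ centralizer ({xq} : Set (D ⧸ Z))) = 1 :=
      Nat.eq_one_of_dvd_coprimes (Nat.Coprime.pow_left k (by norm_num : Nat.Coprime 2 7))
        (hk ▸ card_dvd_of_le inf_le_left) (hC7 ▸ card_dvd_of_le inf_le_right)
    rw [hk, hfix] at hm
    have hk8 : k = 3 := by interval_cases k <;> omega
    obtain ⟨s, hs⟩ := exists_prime_orderOf_dvd_card' (G := D ⧸ Z) 3 (by rw [hY]; norm_num)
    have hm3 := card_fixed_mod hs (N := N) fun a ha => hN'.conj_mem a ha s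
    rw [hk, hk8] at hm3
    obtain ⟨j, hj, ej⟩ := (Nat.dvd_prime_pow Nat.prime_two).1
      (show Nat.card ↥(N ⊓ centralizer ({s} : Set (D ⧸ Z))) ∣ 2 ^ k by rw [← hk]; exact card_dvd_of_le inf_le_left)
    rw [ej] at hm3
    have hj0 : j ≠ 0 := fun e => by rw [e] at hm3; norm_num at hm3
    obtain ⟨⟨w, hw⟩, hwo⟩ := exists_prime_orderOf_dvd_card' (G := ↥(N ⊓ centralizer ({s} : Set (D ⧸ Z)))) 2
      (ej ▸ dvd_pow_self 2 hj0)
    rw [Subgroup.orderOf_mk] at hwo
    exact quot_no_three Z hZ hZc hno hwo (hs ▸ Subgroup.orderOf_dvd_natCard _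
      (mem_centralizer_singleton_iff.2 (mem_centralizer_singleton_iff.1 (mem_inf.1 hw).2).symm))
  obtain ⟨S, hSn, hSs, hSnc, -, -, hScard, hSp⟩ := exists_socle (a := 10) (b := 3) hd (ho ▸ orderOf_dvd_natCard _)
    (by rw [hY]; norm_num) (by rw [hn7]; norm_num) h2 h3
  obtain ⟨m, hm, hm7, hm21⟩ := socle_card (N := 21) (hScard.trans hn7) hSp (by omega) (by norm_num) (by norm_num)
  have hall : ∀ d ∈ Nat.divisors 21, 7 ∣ d → d = 7 ∨ d = 21 := by decide +kernel
  rcases hall m (Nat.mem_divisors.2 ⟨hm21, by norm_num⟩) hm7 with rfl | rfl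
  · exact (false_small hSs hSnc hm (by norm_num) (by decide)).elim
  haveI : IsSimpleGroup (D ⧸ Z) := by
    rw [Subgroup.eq_top_of_card_eq S (by omega)] at hSs
    exact MulEquiv.isSimpleGroup Subgroup.topEquiv.symm
  obtain ⟨e'⟩ := Cfsg.Agent.S0495.result hY (F := ZMod 7) (ZMod.card 7)
  obtain ⟨e⟩ : Nonempty ((D ⧸ Z) ≃* L3) := Cfsg.Lib.DihedralEight.sl3_iso (ZMod.card 7) e'
  rw [cnt_two_eq e, cnt_two_L3]

/-- In a group of order 720 with a simple subgroup of index two and no elements of order eight or sixteen,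
some involution lies outside that subgroup. -/
theorem exists_outer {Y : Type u} [Group Y] [Finite Y] {S : Subgroup Y} [S.Normal] (hS : IsSimpleGroup ↥S)
    (hY : Nat.card Y = 720) (hSc : Nat.card ↥S = 360) (hno : ∀ g : Y, orderOf g ≠ 8 ∧ orderOf g ≠ 16) :
    45 < cnt Y 2 := by
  classical
  haveI := hS
  obtain ⟨e⟩ := Cfsg.Agent.S0497.result hSc
  have h45 : cnt ↥S 2 = 45 := by rw [cnt_two_eq e, a6_invols]
  suffices hout : ∃ g : Y, orderOf g = 2 ∧ g ∉ S by
    obtain ⟨g, hg, hgS⟩ := hout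
    have := Fintype.ofFinite Y
    rw [← h45, cnt, cnt, Nat.card_eq_fintype_card, Nat.card_eq_fintype_card]
    refine Fintype.card_lt_of_injective_of_notMem
      (fun a : {a : ↥S // orderOf a = 2} => (⟨a.1.1, by rw [Subgroup.orderOf_coe]; exact a.2⟩ : {g : Y // orderOf g = 2}))
      (fun a b h => Subtype.ext (Subtype.ext (congrArg (fun z : {g : Y // orderOf g = 2} => z.1) h)))
      (b := ⟨g, hg⟩) ?_
    rintro ⟨a, ha⟩
    exact hgS (by rw [← show a.1.1 = g from congrArg Subtype.val ha]; exact a.1.2)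
  -- a two-element outside
  obtain ⟨P, hP⟩ := Sylow.exists_subgroup_card_pow_prime (G := Y) 2 (n := 4) (by rw [hY]; norm_num)
  obtain ⟨g, hgP, hgS⟩ : ∃ g ∈ P, g ∉ S := by
    refine SetLike.not_le_iff_exists.1 fun h => ?_
    have := card_dvd_of_le h
    rw [hP, hSc] at this
    norm_num at this
  have hidx : Nat.card (Y ⧸ S) = 2 := by
    have := S.card_eq_card_quotient_mul_card_subgroup
    rw [hY, hSc] at this
    omega
  have hsq : ∀ a : Y, a * a ∈ S := fun a => by
    rw [← QuotientGroup.eq_one_iff, QuotientGroup.mk_mul, ← pow_two, ← hidx, pow_card_eq_one']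
  have hord : ∀ a : Y, a ∉ S → ∀ k ≤ 4, orderOf a ∣ 2 ^ k → orderOf a = 2 ∨ orderOf a = 4 := by
    intro a ha k hk h
    obtain ⟨i, hi, e⟩ := (Nat.dvd_prime_pow Nat.prime_two).1 h
    have hi4 : i ≤ 4 := hi.trans hk
    interval_cases i
    · exact absurd ((orderOf_eq_one_iff.1 (by simpa using e) : a = 1) ▸ one_mem S) ha
    · exact Or.inl (by simpa using e)
    · exact Or.inr (by simpa using e)
    · exact absurd (by simpa using e) (hno a).1
    · exact absurd (by simpa using e) (hno a).2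
  rcases hord g hgS 4 le_rfl (hP ▸ Subgroup.orderOf_dvd_natCard P hgP) with h | h4
  · exact ⟨g, h, hgS⟩
  let z : ↥S := ⟨g * g, hsq g⟩
  have hz2 : e z ^ 2 = 1 := by
    rw [← map_pow, map_eq_one_iff e e.injective]
    refine Subtype.ext ?_
    show (g * g) ^ 2 = 1
    rw [← pow_two, ← pow_mul]
    exact orderOf_dvd_iff_pow_eq_one.1 (dvd_of_eq h4)
  have hz1 : e z ≠ 1 := by
    rw [Ne, map_eq_one_iff e e.injective]
    intro h
    have h' : g * g = 1 := congrArg Subtype.val h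
    have := orderOf_dvd_of_pow_eq_one ((pow_two g).trans h')
    rw [h4] at this
    norm_num at this
  obtain ⟨a', s', hsqa', hinv', hroots', hcent'⟩ := a6_root hz2 hz1
  obtain ⟨a, rfl⟩ := e.surjective a'
  obtain ⟨s, rfl⟩ := e.surjective s'
  have hsqa : (a : Y) * a = g * g := congrArg Subtype.val (e.injective (by rw [map_mul]; exact hsqa') : a * a = z)
  have hinv : (s : Y) * a * (s : Y)⁻¹ = (a : Y)⁻¹ :=
    congrArg Subtype.val (e.injective (by rw [map_mul, map_mul, map_inv, map_inv]; exact hinv') : s * a * s⁻¹ = a⁻¹)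
  have hroots : ∀ b : ↥S, (b : Y) * b = g * g → (b : Y) = a ∨ (b : Y) = (a : Y)⁻¹ := fun b hb => by
    rcases hroots' (e b) (by rw [← map_mul, show b * b = z from Subtype.ext hb]) with h | h
    · exact Or.inl (congrArg Subtype.val (e.injective h))
    · exact Or.inr (congrArg Subtype.val (e.injective (by rw [h, map_inv]) : b = a⁻¹))
  have hcent : ∀ c : Y, c ∈ S → c * a = a * c → c = 1 ∨ c = a ∨ c = g * g ∨ c = (a : Y)⁻¹ := fun c hc hca => by
    rcases hcent' (e ⟨c, hc⟩) (by rw [← map_mul, ← map_mul, show (⟨c, hc⟩ : ↥S) * a = a * ⟨c, hc⟩ from Subtype.ext hca])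
      with h | h | h | h
    · exact Or.inl (congrArg Subtype.val (e.injective (by rw [h, map_one]) : (⟨c, hc⟩ : ↥S) = 1))
    · exact Or.inr (Or.inl (congrArg Subtype.val (e.injective h)))
    · exact Or.inr (Or.inr (Or.inl (congrArg Subtype.val (e.injective h))))
    · exact Or.inr (Or.inr (Or.inr (congrArg Subtype.val (e.injective (by rw [h, map_inv]) : (⟨c, hc⟩ : ↥S) = a⁻¹))))
  -- an element outside commuting with the root
  obtain ⟨c, hcS, hca⟩ : ∃ c : Y, c ∉ S ∧ c * a = a * c := by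
    have hconj : g * a * g⁻¹ ∈ S := (inferInstance : S.Normal).conj_mem _ a.2 g
    rcases hroots ⟨_, hconj⟩ (by
      show g * a * g⁻¹ * (g * a * g⁻¹) = g * g
      rw [show g * a * g⁻¹ * (g * a * g⁻¹) = g * ((a : Y) * a) * g⁻¹ by group, hsqa]
      group) with h | h
    · exact ⟨g, hgS, mul_inv_eq_iff_eq_mul.1 h⟩
    · refine ⟨g * s, fun hm => hgS ?_, ?_⟩
      · simpa using S.mul_mem hm (S.inv_mem s.2)
      · refine mul_inv_eq_iff_eq_mul.1 ?_
        rw [show g * s * a * (g * (s : Y))⁻¹ = g * ((s : Y) * a * (s : Y)⁻¹) * g⁻¹ by group, hinv,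
          show g * (a : Y)⁻¹ * g⁻¹ = (g * a * g⁻¹)⁻¹ by group, show g * a * g⁻¹ = (a : Y)⁻¹ from h, inv_inv]
  have h2 := hcent (c * c) (hsq c) ((show Commute c (a : Y) from hca).mul_left hca).eq
  have ha4 : orderOf (a : Y) = 4 := by
    refine orderOf_eq_prime_pow (p := 2) (n := 1) (fun h => ?_) ?_
    · rw [pow_one, pow_two, hsqa] at h
      exact hz1 (by rw [map_eq_one_iff e e.injective]; exact Subtype.ext h)
    · rw [show 2 ^ (1 + 1) = 2 * 2 by norm_num, pow_mul, pow_two (a : Y), hsqa, ← pow_two g, ← pow_mul]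
      exact orderOf_dvd_iff_pow_eq_one.1 (dvd_of_eq h4)
  have hbad : orderOf (c * c) = 4 → False := fun h => by
    have h8 : orderOf c ∣ 2 ^ 3 := orderOf_dvd_of_pow_eq_one (by
      rw [show 2 ^ 3 = 2 * 4 by norm_num, pow_mul, pow_two, ← h, pow_orderOf_eq_one])
    have h4' : orderOf (c * c) ∣ 2 := by
      refine orderOf_dvd_of_pow_eq_one ?_
      rw [← pow_two, ← pow_mul]
      rcases hord c hcS 3 (by norm_num) h8 with e | e
      · exact orderOf_dvd_iff_pow_eq_one.1 (by rw [e]; norm_num)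
      · exact orderOf_dvd_iff_pow_eq_one.1 (by rw [e])
    rw [h] at h4'
    norm_num at h4'
  rcases h2 with h | h | h | h
  · refine ⟨c, orderOf_eq_prime (by rw [pow_two]; exact h) fun e => hcS (e ▸ one_mem S), hcS⟩
  · exact (hbad (h.symm ▸ ha4)).elim
  · refine ⟨c * (a : Y)⁻¹, orderOf_eq_prime ?_ fun e => hcS ?_, fun hm => hcS ?_⟩
    · rw [(show Commute c (a : Y)⁻¹ from (show Commute c (a : Y) from hca).inv_right).mul_pow, pow_two, pow_two, h,
        ← hsqa]
      group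
    · rw [mul_inv_eq_one] at e
      exact e.symm ▸ a.2
    · simpa using S.mul_mem hm a.2
  · exact (hbad (by rw [h, orderOf_inv, ha4])).elim

include hZ hZc in
/-- the case of a centraliser with elements of order five -/
theorem five_invols (hD : Nat.card D = 2160)
    (hno : ∀ z : D, orderOf z = 2 → ¬ 9 ∣ Nat.card ↥(centralizer ({z} : Set D)))
    (hord : ∀ g : D, orderOf g ≠ 8 ∧ orderOf g ≠ 16)
    {y : D} (hy : orderOf y = 5) (hC : Nat.card ↥(centralizer ({y} : Set D)) = 15)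
    (hN : Nat.card ↥(normalizer (zpowers y : Set D)) = 30 ∨ Nat.card ↥(normalizer (zpowers y : Set D)) = 60) :
    45 < cnt D 2 := by
  refine lt_of_lt_of_le ?_ (quot_two_le Z hZ)
  obtain ⟨ho, hc, hn⟩ := quot_cent Z hZ hZc (p := 5) (by norm_num) hy
  set yq := QuotientGroup.mk' Z y
  have hY : Nat.card (D ⧸ Z) = 720 := by have := quot_card Z hZ; omega
  have hC5 : Nat.card ↥(centralizer ({yq} : Set (D ⧸ Z))) = 5 := by omega
  have hS : ∀ P : Sylow 5 (D ⧸ Z), Nat.card ↥(P : Subgroup (D ⧸ Z)) = 5 := fun P => by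
    simpa using card_sylow_of_factor P (a := 1) (m := 144) (by rw [hY]; norm_num) (by norm_num)
  obtain ⟨P, hP⟩ := M12Nse.exists_sylow_zpowers hS ho
  have hn5 : Nat.card (Sylow 5 (D ⧸ Z)) = 36 := by
    have h1 := card_normalizer_mul P
    rw [hP, hY] at h1
    have h3 : Nat.card (Sylow 5 (D ⧸ Z)) % 5 = 1 := card_sylow_modEq_one 5 _
    rcases hN with e | e <;> rw [e] at hn
    · rw [show Nat.card ↥(normalizer (zpowers yq : Set (D ⧸ Z))) = 10 by omega] at h1
      omega
    · rw [show Nat.card ↥(normalizer (zpowers yq : Set (D ⧸ Z))) = 20 by omega] at h1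
      omega
  have hd : Nat.card (D ⧸ Z) ∣ 2 ^ 10 * 3 ^ 3 * 5 := by rw [hY]; norm_num
  have h3 : ∀ N : Subgroup (D ⧸ Z), N.Normal → IsPGroup 3 ↥N → N = ⊥ := fun N hN' h =>
    no_three (Or.inl rfl) hd ho (by rw [hC5]; norm_num) hN' h
  have h2 : ∀ N : Subgroup (D ⧸ Z), N.Normal → IsPGroup 2 ↥N → N = ⊥ := by
    intro N hN' hp
    obtain ⟨k, hk⟩ := IsPGroup.iff_card.1 hp
    have hk4 : k ≤ 4 := by
      by_contra hlt
      have := (pow_dvd_pow 2 (by omega : 5 ≤ k)).trans (hk ▸ hY ▸ card_subgroup_dvd_card N)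
      norm_num at this
    by_contra hne
    have hk0 : k ≠ 0 := fun e => hne (card_eq_one.1 (by rw [hk, e, pow_zero]))
    have hm := card_fixed_mod ho (N := N) fun a ha => hN'.conj_mem a ha yq
    have hfix : Nat.card ↥(N ⊓ centralizer ({yq} : Set (D ⧸ Z))) = 1 :=
      Nat.eq_one_of_dvd_coprimes (Nat.Coprime.pow_left k (by norm_num : Nat.Coprime 2 5))
        (hk ▸ card_dvd_of_le inf_le_left) (hC5 ▸ card_dvd_of_le inf_le_right)
    rw [hk, hfix] at hm
    have hk16 : k = 4 := by interval_cases k <;> omega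
    obtain ⟨⟨w, hw⟩, hwo⟩ := exists_prime_orderOf_dvd_card' (G := ↥N) 2 (hk ▸ dvd_pow_self 2 hk0)
    rw [Subgroup.orderOf_mk] at hwo
    have hmul := M12Nse.card_isConj_mul w
    rw [hY] at hmul
    have hle : Nat.card {a : D ⧸ Z // IsConj w a} ≤ 15 := by
      have h1 : Nat.card {a : D ⧸ Z // IsConj w a} ≤ ((N : Set (D ⧸ Z)) \ {1}).ncard := by
        rw [← Nat.card_coe_set_eq]
        refine Nat.card_le_card_of_injective (fun a => ⟨a.1, ?_, ?_⟩) fun a b h =>
          Subtype.ext (congrArg (fun t : ↥((N : Set (D ⧸ Z)) \ {1}) => t.1) h)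
        · obtain ⟨g, e⟩ := isConj_iff.1 a.2
          exact e ▸ hN'.conj_mem w hw g
        · intro e
          have := (M12Nse.conj_orderOf a.2).trans hwo
          rw [Set.mem_singleton_iff.1 e, orderOf_one] at this
          norm_num at this
      have h2 : ((N : Set (D ⧸ Z)) \ {1}).ncard + 1 = 16 := by
        rw [Set.ncard_sdiff_singleton_add_one (show (1 : D ⧸ Z) ∈ (N : Set (D ⧸ Z)) from one_mem N) (Set.toFinite _),
          ← Nat.card_coe_set_eq]
        show Nat.card ↥N = 16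
        rw [hk, hk16]; norm_num
      omega
    have hn3 := quot_no_three Z hZ hZc hno hwo
    set q := Nat.card {a : D ⧸ Z // IsConj w a}
    set r := Nat.card ↥(centralizer ({w} : Set (D ⧸ Z)))
    have hq9 : 9 ∣ q := ((Nat.Coprime.pow_left 2 ((Nat.Prime.coprime_iff_not_dvd Nat.prime_three).2 hn3)).dvd_of_dvd_mul_right
      (show 3 ^ 2 ∣ q * r by rw [hmul]; norm_num))
    have hqpos : 0 < q := Nat.pos_of_ne_zero fun e => by rw [e] at hmul; omega
    have hr : r = 80 := by
      rw [show q = 9 by omega] at hmul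
      omega
    obtain ⟨⟨y₂, hy₂⟩, hy₂o⟩ := exists_prime_orderOf_dvd_card' (G := ↥(centralizer ({w} : Set (D ⧸ Z)))) 5
      (show 5 ∣ r by rw [hr]; norm_num)
    rw [Subgroup.orderOf_mk] at hy₂o
    obtain ⟨g, hg⟩ := exists_conj_zpowers hS hy₂o ho
    have hmem : g * w * g⁻¹ ∈ centralizer ({yq} : Set (D ⧸ Z)) :=
      mem_centralizer_singleton_iff.2 ((hg _).1 (conj_comm g (mem_centralizer_singleton_iff.1 hy₂).symm))
    have := hC5 ▸ Subgroup.orderOf_dvd_natCard _ hmem
    rw [show orderOf (g * w * g⁻¹) = 2 from (MulEquiv.orderOf_eq (MulAut.conj g) w).trans hwo] at this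
    norm_num at this
  obtain ⟨S, hSn, hSs, hSnc, -, -, hScard, hSp⟩ := exists_socle (a := 10) (b := 3) hd (ho ▸ orderOf_dvd_natCard _)
    (by rw [hY]; norm_num) (by rw [hn5]; norm_num) h2 h3
  obtain ⟨m, hm, hm5, hm20⟩ := socle_card (N := 20) (hScard.trans hn5) hSp (by omega) (by norm_num) (by norm_num)
  have hall : ∀ d ∈ Nat.divisors 20, 5 ∣ d → d = 5 ∨ d = 10 ∨ d = 20 := by decide +kernel
  rcases hall m (Nat.mem_divisors.2 ⟨hm20, by norm_num⟩) hm5 with rfl | rfl | rfl
  · exact (false_small hSs hSnc hm (by norm_num) (by decide)).elim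
  · haveI := hSn
    refine exists_outer hSs hY (by omega) fun w => ⟨fun h => ?_, fun h => ?_⟩
    · obtain ⟨g, hg, -⟩ := quot_lift Z hZ (k := 3) (by rw [h]; norm_num)
      exact (hord g).1 (by rw [hg]; norm_num)
    · obtain ⟨g, hg, -⟩ := quot_lift Z hZ (k := 4) (by rw [h]; norm_num)
      exact (hord g).2 (by rw [hg]; norm_num)
  · exact (false_small hSs hSnc hm (by norm_num) (by decide)).elim

end Cfsg.Lib.M24Nse
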